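import Cfsg.Agent.Fischer.Component

/-!
Fischer's theorem: counting far members and components.
-/

set_option autoImplicit false
set_option linter.unusedSectionVars false

namespace CfsgLib.Fischer

open CfsgLib.ThreeT CfsgLib.ThreeT.Prod

universe u

variable {G : Type u} [Group G]

/-- A set is the union of its components. -/
theorem comp_ncard [Finite G] {S : Set G} {m : ℕ} (h : ∀ a ∈ S, (comp S a).ncard = m) :
    ∃ J : Finset (Set G), (∀ C, C ∈ J ↔ ∃ a ∈ S, comp S a = C) ∧ S.ncard = m * J.card := by
  classical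
  haveI := Fintype.ofFinite G
  refine ⟨S.toFinset.image (comp S), fun C => by simp, ?_⟩
  rw [Set.ncard_eq_toFinset_card', Finset.card_eq_sum_card_image (comp S), mul_comm, ← smul_eq_mul]
  refine (Finset.sum_congr rfl fun C hC => ?_).trans (Finset.sum_const m)
  obtain ⟨a, ha, rfl⟩ := Finset.mem_image.1 hC
  rw [Set.mem_toFinset] at ha
  rw [← h a ha, Set.ncard_eq_toFinset_card']
  congr 1
  ext x
  simp only [Finset.mem_filter, Set.mem_toFinset]
  exact ⟨fun q => q.2 ▸ mem_comp_self q.1, fun q => ⟨q.1, comp_eq q⟩⟩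

/-- Counting pairs of a neighbour and a far member that commute. -/
theorem double_count [Finite G] {D : Set G} (h : Fi D) {d c : G} (hd : d ∈ D) (hc : c ∈ D) (hdc : ¬ Commute d c)
    {X : ℕ} (hX : ∀ a ∈ nb D d, {z | z ∈ D ∧ ¬ Commute d z ∧ Commute a z}.ncard = X) :
    (nb D d).ncard * X = {z | z ∈ D ∧ ¬ Commute d z}.ncard * (tri D d c).ncard := by
  classical
  haveI := Fintype.ofFinite G
  set F := {z | z ∈ D ∧ ¬ Commute d z}
  have h1 := Finset.sum_card_bipartiteAbove_eq_sum_card_bipartiteBelow (r := fun a z : G => Commute a z)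
    (s := (nb D d).toFinset) (t := F.toFinset)
  have e1 : ∀ a ∈ (nb D d).toFinset, (Finset.bipartiteAbove (fun a z : G => Commute a z) F.toFinset a).card = X := by
    intro a ha
    rw [Set.mem_toFinset] at ha
    rw [← hX a ha, Set.ncard_eq_toFinset_card']
    congr 1
    ext z
    simp [Finset.bipartiteAbove, F, and_assoc]
    tauto
  have e2 : ∀ z ∈ F.toFinset, (Finset.bipartiteBelow (fun a z : G => Commute a z) (nb D d).toFinset z).card =
      (tri D d c).ncard := by
    intro z hz
    rw [Set.mem_toFinset] at hz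
    rw [h.tri_ncard hd hc hdc hd hz.1 hz.2, Set.ncard_eq_toFinset_card']
    congr 1
    ext a
    simp [Finset.bipartiteBelow, Prod.tri]
  rw [Finset.sum_congr rfl e1, Finset.sum_congr rfl e2, Finset.sum_const, Finset.sum_const, smul_eq_mul,
    smul_eq_mul, ← Set.ncard_eq_toFinset_card', ← Set.ncard_eq_toFinset_card'] at h1
  exact h1

/-- A member, its neighbours and the far ones. -/
theorem ncard_split [Finite G] {D : Set G} {d : G} (hd : d ∈ D) :
    D.ncard = 1 + (nb D d).ncard + {z | z ∈ D ∧ ¬ Commute d z}.ncard := by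
  have e : D = insert d (nb D d ∪ {z | z ∈ D ∧ ¬ Commute d z}) := by
    ext z
    constructor
    · intro hz
      by_cases e : z = d
      · exact Or.inl e
      by_cases q : Commute d z
      · exact Or.inr (Or.inl ⟨hz, e, q⟩)
      · exact Or.inr (Or.inr ⟨hz, q⟩)
    · rintro (rfl | hz | hz)
      exacts [hd, hz.1, hz.1]
  conv_lhs => rw [e]
  rw [Set.ncard_insert_of_notMem (by
      rintro (hz | hz)
      · exact hz.2.1 rfl
      · exact hz.2 (Commute.refl _)) (Set.toFinite _),
    Set.ncard_union_eq (Set.disjoint_left.2 fun z hz hz' => hz'.2 hz.2.2) (Set.toFinite _) (Set.toFinite _)]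
  ring

end CfsgLib.Fischer
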