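import Cfsg.Agent.Fischer.ReflPts

/-!
Fischer's theorem: reflection neighbourhoods give a reflection group.
-/

set_option autoImplicit false
set_option linter.unusedSectionVars false

namespace CfsgLib.Fischer

open CfsgLib.ThreeT CfsgLib.ThreeT.Prod

universe u

section graph

variable {G : Type u} [Group G] [Finite G] {D : Set G} {m : ℕ} (h : Fi D) (hdet : TDet D)
  {Q : QuadraticForm (ZMod 3) (Fin m → ZMod 3)} {Ψ : G → Fin m → ZMod 3}
  (hnorm : ∀ x ∈ D, Q (Ψ x) = 1) (hinj : ∀ x ∈ D, ∀ y ∈ D, Ψ x = Ψ y ∨ Ψ x = -Ψ y → x = y)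
  (hsurj : ∀ v, Q v = 1 → ∃ x ∈ D, Ψ x = v ∨ Ψ x = -v)
  (hcom : ∀ x ∈ D, ∀ y ∈ D, x ≠ y → (Commute x y ↔ pb Q (Ψ x) (Ψ y) = 0))
include h hdet hnorm hinj hsurj hcom

/-- Norm one points with the right commuting graph carry the reflections. -/
theorem rc_of_graph : RC D Q Ψ := by
  refine ⟨hnorm, hinj, hsurj, fun x hx y hy => ?_⟩
  by_cases hxy : Commute x y
  · rw [(h.closed.fix_iff hx y).2 hxy]
    by_cases e : x = y
    · subst e
      right
      rw [rvec_eq, pb_self, hnorm x hx]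
      match_scalars
      decide
    · left
      rw [rvec, (hcom x hx y hy e).1 hxy, zero_smul, sub_zero]
  have hne : x ≠ y := fun e => hxy (e ▸ Commute.refl x)
  set b := pb Q (Ψ x) (Ψ y) with hb
  have hb0 : b ≠ 0 := fun e => hxy ((hcom x hx y hy hne).2 e)
  obtain ⟨z, hz, ez⟩ := hsurj (rvec Q (Ψ x) (Ψ y)) (by rw [rvec_q Q (hnorm x hx), hnorm y hy])
  have hzf : ∀ v, pb Q v (Ψ z) = 0 ↔ pb Q v (rvec Q (Ψ x) (Ψ y)) = 0 := fun v => by
    rcases ez with e | e <;> rw [e]
    rw [map_neg, neg_eq_zero]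
  have hzx : x ≠ z := fun e => by
    rcases ez with q | q <;>
    · rw [← e] at q
      have h1 := congrArg (rvec Q (Ψ x)) q
      rw [rvec_eq, pb_self, hnorm x hx] at h1
      first
      | rw [rvec_rvec Q (hnorm x hx)] at h1
        refine hne (hinj x hx y hy (Or.inr ?_))
        rw [← h1]; match_scalars; decide
      | rw [rvec_neg_right, rvec_rvec Q (hnorm x hx)] at h1
        refine hne (hinj x hx y hy (Or.inl ?_))
        rw [eq_comm, ← neg_inj, ← h1]; match_scalars; decide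
  have hxz : ¬ Commute x z := fun q => hb0 (by
    have h1 := (hzf (Ψ x)).1 ((hcom x hx z hz hzx).1 q)
    rw [rvec, map_sub, map_smul, pb_self, hnorm x hx, ← hb, smul_eq_mul] at h1
    revert h1; generalize b = s; revert s; decide)
  have hsub : tri D x y ⊆ tri D x z := fun r hr => ⟨hr.1, by
    by_cases e : r = z
    · exact e ▸ Commute.refl r
    rw [hcom r hr.1.1 z hz e, hzf, rvec, map_sub, map_smul,
      (hcom r hr.1.1 x hx hr.1.2.1).1 hr.1.2.2.symm,
      (hcom r hr.1.1 y hy fun e' => hxy (e' ▸ hr.1.2.2)).1 hr.2, smul_zero, sub_zero]⟩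
  have heq := Set.eq_of_subset_of_ncard_le hsub (h.tri_ncard hx hz hxz hx hy hxy).le (Set.toFinite _)
  rcases hdet x hx y hy z hz hxy hxz heq.symm with e | e
  · exfalso
    subst e
    rcases ez with q | q
    · rw [rvec, ← hb, eq_sub_iff_add_eq, add_eq_left, smul_eq_zero] at q
      rcases q with q | q
      · exact hb0 q
      · have := hnorm x hx; rw [q, QuadraticMap.map_zero] at this; exact absurd this (by decide)
    · rw [rvec, ← hb, neg_sub, eq_sub_iff_add_eq] at q
      have h3 : (2 : ZMod 3) • Ψ z = b • Ψ x := by rw [← q, two_smul]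
      refine hne (hinj x hx z hz ?_)
      rcases three_cases b with r | r | r
      · exact absurd r hb0
      all_goals rw [r] at h3
      · right; rw [← one_smul (ZMod 3) (Ψ x), ← h3, show (2 : ZMod 3) = -1 from rfl, neg_one_smul]
      · left; rw [← neg_inj, ← neg_one_smul (ZMod 3) (Ψ x), ← h3, show (2 : ZMod 3) = -1 from rfl, neg_one_smul]
  · rw [← e]; exact ez

end graph

section form

variable {n : ℕ}

/-- The tail. -/
def tailMap (n : ℕ) : (Fin (n + 1) → ZMod 3) →ₗ[ZMod 3] (Fin n → ZMod 3) where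
  toFun v i := v i.succ
  map_add' _ _ := rfl
  map_smul' _ _ := rfl

/-- One more coordinate of norm one. -/
def extQ (Q : QuadraticForm (ZMod 3) (Fin n → ZMod 3)) : QuadraticForm (ZMod 3) (Fin (n + 1) → ZMod 3) :=
  QuadraticMap.sq.comp (LinearMap.proj 0) + Q.comp (tailMap n)

theorem extQ_apply (Q : QuadraticForm (ZMod 3) (Fin n → ZMod 3)) (v : Fin (n + 1) → ZMod 3) :
    extQ Q v = v 0 * v 0 + Q (tailMap n v) := rfl

theorem extQ_cons (Q : QuadraticForm (ZMod 3) (Fin n → ZMod 3)) (a : ZMod 3) (v : Fin n → ZMod 3) :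
    extQ Q (Fin.cons a v) = a * a + Q v := by
  rw [extQ_apply]; rfl

theorem extQ_pb (Q : QuadraticForm (ZMod 3) (Fin n → ZMod 3)) (v w : Fin (n + 1) → ZMod 3) :
    pb (extQ Q) v w = 2 * (v 0 * w 0) + pb Q (tailMap n v) (tailMap n w) := by
  show QuadraticMap.polar (extQ Q) v w = _ + QuadraticMap.polar Q _ _
  unfold QuadraticMap.polar
  rw [extQ_apply, extQ_apply, extQ_apply, map_add, Pi.add_apply]
  ring

theorem extQ_pb_cons (Q : QuadraticForm (ZMod 3) (Fin n → ZMod 3)) (a b : ZMod 3) (v w : Fin n → ZMod 3) :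
    pb (extQ Q) (Fin.cons a v) (Fin.cons b w) = 2 * (a * b) + pb Q v w := by
  rw [extQ_pb]; rfl

theorem extQ_nondeg {Q : QuadraticForm (ZMod 3) (Fin n → ZMod 3)} (hQ : (QuadraticMap.polarBilin Q).Nondegenerate) :
    (QuadraticMap.polarBilin (extQ Q)).Nondegenerate := by
  have key : ∀ v, (∀ w, pb (extQ Q) v w = 0) → v = 0 := by
    intro v hv
    have h0 : v 0 = 0 := by
      have := hv (Fin.cons 1 0)
      rw [extQ_pb, show tailMap n (Fin.cons 1 0) = 0 from rfl, map_zero, add_zero, Fin.cons_zero, mul_one] at this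
      revert this; generalize v 0 = s; revert s; decide
    have h1 : tailMap n v = 0 := hQ.1 _ fun w => by
      have := hv (Fin.cons 0 w)
      rw [extQ_pb, show tailMap n (Fin.cons 0 w) = w from rfl, Fin.cons_zero, mul_zero, mul_zero, zero_add] at this
      exact this
    funext i
    refine Fin.cases h0 (fun j => congrFun h1 j) i
  exact ⟨key, fun w hw => key w fun v => by rw [pb_symm]; exact hw v⟩

theorem extQ_det (Q : QuadraticForm (ZMod 3) (Fin n → ZMod 3)) :
    Cfsg.polarGramDet (⇑(extQ Q)) = 2 * Cfsg.polarGramDet (⇑Q) := by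
  classical
  have hs : ∀ i : Fin n, tailMap n (Pi.single i.succ (1 : ZMod 3)) = Pi.single i 1 := by
    intro i; funext j
    show (Pi.single i.succ (1 : ZMod 3) : Fin (n + 1) → ZMod 3) j.succ = _
    simp [Pi.single_apply]
  have h0 : tailMap n (Pi.single 0 (1 : ZMod 3)) = 0 := by
    funext j
    show (Pi.single 0 (1 : ZMod 3) : Fin (n + 1) → ZMod 3) j.succ = _
    simp [Pi.single_apply, Fin.succ_ne_zero]
  have e : ∀ i j, QuadraticMap.polar (⇑(extQ Q)) i j = pb (extQ Q) i j := fun _ _ => rfl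
  rw [Cfsg.polarGramDet, Cfsg.polarGramDet, Matrix.det_succ_row_zero, Finset.sum_eq_single 0]
  · simp only [Fin.val_zero, pow_zero, one_mul, Matrix.of_apply, e, extQ_pb, h0, map_zero, add_zero,
      Pi.single_eq_same, mul_one]
    congr 2
    ext i j
    simp only [Matrix.submatrix_apply, Matrix.of_apply, Fin.zero_succAbove, e, extQ_pb, hs]
    rw [Pi.single_eq_of_ne (Fin.succ_ne_zero i).symm, zero_mul, mul_zero, zero_add]
    rfl
  · intro j _ hj
    obtain ⟨k, rfl⟩ := Fin.exists_succ_eq.2 hj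
    simp only [Matrix.of_apply, e, extQ_pb, h0, map_zero, LinearMap.zero_apply, add_zero,
      Pi.single_eq_of_ne (Fin.succ_ne_zero k).symm, mul_zero, zero_mul]
  · exact fun hn => absurd (Finset.mem_univ _) hn

end form

section step

variable {G : Type u} [Group G] [Finite G] {D : Set G} {n : ℕ} {μ : ZMod 3}
variable (h : Fi D) (hloc : ∀ a ∈ D, RCo (nb D a) n μ) (hn : 5 ≤ n)
include h hloc hn

/-- Coordinates around one member extend. -/
theorem step_refl_at {d : G} (hd : d ∈ D) {Q : QuadraticForm (ZMod 3) (Fin n → ZMod 3)}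
    (hQ : (QuadraticMap.polarBilin Q).Nondegenerate) {φ : G → Fin n → ZMod 3} (f : RC (nb D d) Q φ) :
    ∃ Ψ, RC D (extQ Q) Ψ := by
  classical
  obtain ⟨c0, hc0, hdc0⟩ := h.exists_far hd
  obtain ⟨u0, hp⟩ := pt_exists h hloc hn hd hQ f hc0 hdc0
  choose! Φ hΦ using fun z (hz : z ∈ D ∧ ¬ Commute d z) => ori_far h hloc hn hd hQ f hp hz.1 hz.2
  have hSd := h.nb_closed d
  let Ψ : G → Fin (n + 1) → ZMod 3 := fun z =>
    if z = d then Fin.cons 1 0 else if Commute d z then Fin.cons 0 (φ z) else Fin.cons 1 (Φ z)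
  have eD : Ψ d = Fin.cons 1 0 := if_pos rfl
  have eN : ∀ z ∈ nb D d, Ψ z = Fin.cons 0 (φ z) := fun z hz => by
    simp only [Ψ]; rw [if_neg hz.2.1, if_pos hz.2.2]
  have eF : ∀ z, ¬ Commute d z → Ψ z = Fin.cons 1 (Φ z) := fun z hz => by
    simp only [Ψ]; rw [if_neg (fun e => hz (by rw [e])), if_neg hz]
  have hcases : ∀ z ∈ D, z = d ∨ z ∈ nb D d ∨ ¬ Commute d z := fun z hz => by
    by_cases e : z = d
    · exact Or.inl e
    by_cases q : Commute d z
    · exact Or.inr (Or.inl ⟨hz, e, q⟩)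
    · exact Or.inr (Or.inr q)
  have inj0 : ∀ {a b : ZMod 3} {v w : Fin n → ZMod 3}, (Fin.cons a v : Fin (n + 1) → ZMod 3) = Fin.cons b w →
      a = b ∧ v = w := fun e => Fin.cons_inj.1 e
  have ncons : ∀ (a : ZMod 3) (v : Fin n → ZMod 3),
      -(Fin.cons a v : Fin (n + 1) → ZMod 3) = Fin.cons (-a) (-v) := fun a v => by
    funext i; refine Fin.cases ?_ (fun j => ?_) i <;> simp
  have hnorm : ∀ x ∈ D, extQ Q (Ψ x) = 1 := by
    intro x hx
    rcases hcases x hx with rfl | hx' | hx'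
    · rw [eD, extQ_cons, QuadraticMap.map_zero]; decide
    · rw [eN x hx', extQ_cons, f.norm x hx']; decide
    · rw [eF x hx', extQ_cons, (hΦ x ⟨hx, hx'⟩).1.2.2.2.1]; decide
  have hinj : ∀ x ∈ D, ∀ y ∈ D, Ψ x = Ψ y ∨ Ψ x = -Ψ y → x = y := by
    intro x hx y hy e
    rcases hcases x hx with rfl | hx' | hx' <;> rcases hcases y hy with rfl | hy' | hy'
    · rfl
    · exfalso
      rw [eD, eN y hy', ncons] at e
      rcases e with e | e <;> exact absurd (inj0 e).1 (by decide)
    · exfalso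
      rw [eD, eF y hy', ncons] at e
      rcases e with e | e
      · exact (hΦ y ⟨hy, hy'⟩).1.2.2.1 (inj0 e).2.symm
      · exact absurd (inj0 e).1 (by decide)
    · exfalso
      rw [eD, eN x hx', ncons] at e
      rcases e with e | e <;> exact absurd (inj0 e).1 (by decide)
    · rw [eN x hx', eN y hy', ncons] at e
      exact f.inj x hx' y hy' (e.imp (fun e => (inj0 e).2) fun e => (inj0 e).2)
    · exfalso
      rw [eN x hx', eF y hy', ncons] at e
      rcases e with e | e <;> exact absurd (inj0 e).1 (by decide)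
    · exfalso
      rw [eD, eF x hx', ncons] at e
      rcases e with e | e
      · exact (hΦ x ⟨hx, hx'⟩).1.2.2.1 (inj0 e).2
      · exact absurd (inj0 e).1 (by decide)
    · exfalso
      rw [eF x hx', eN y hy', ncons] at e
      rcases e with e | e <;> exact absurd (inj0 e).1 (by decide)
    · rw [eF x hx', eF y hy', ncons] at e
      rcases e with e | e
      · have h1 := hΦ y ⟨hy, hy'⟩
        rw [← (inj0 e).2] at h1
        exact ((hΦ x ⟨hx, hx'⟩).unique h hloc hn hd hQ f hp h1).symm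
      · exact absurd (inj0 e).1 (by decide)
  have hsurj : ∀ v, extQ Q v = 1 → ∃ x ∈ D, Ψ x = v ∨ Ψ x = -v := by
    have pos : ∀ w : Fin n → ZMod 3, Q w = 0 → ∃ x ∈ D, Ψ x = Fin.cons 1 w := by
      intro w qw
      by_cases hw : w = 0
      · exact ⟨d, hd, by rw [eD, hw]⟩
      obtain ⟨z, hz⟩ := ori_exists h hloc hn hd hQ f hp hw qw
      obtain ⟨hzD, hdz⟩ : z ∈ D ∧ ¬ Commute d z := ⟨hz.1.1, hz.1.2.1⟩
      have h1 := hΦ z ⟨hzD, hdz⟩
      refine ⟨z, hzD, ?_⟩
      rw [eF z hdz]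
      obtain ⟨k, hk, ek⟩ := hz.1.unique h hloc hn hd hQ f h1.1
      rcases three_cases k with r | r | r
      · exact absurd r hk
      · rw [ek, r, one_smul]
      · exfalso
        have h2 := hz.flip h hloc hn hd hQ f hp
        rw [← neg_one_smul (ZMod 3) w, ← r, ← ek] at h2
        have h3 := h1.unique h hloc hn hd hQ f hp h2
        exact hdz ((h.closed.fix_iff hd z).1 h3)
    intro v hv
    obtain ⟨a, w, rfl⟩ : ∃ a w, v = Fin.cons a w := ⟨v 0, Fin.tail v, (Fin.cons_self_tail v).symm⟩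
    rw [extQ_cons] at hv
    rcases three_cases a with r | r | r <;> subst r
    · rw [mul_zero, zero_add] at hv
      obtain ⟨x, hx, e⟩ := f.surj w hv
      exact ⟨x, hx.1, by rw [eN x hx, ncons]; simpa using e⟩
    · rw [one_mul, add_eq_left] at hv
      obtain ⟨x, hx, e⟩ := pos w hv
      exact ⟨x, hx, Or.inl e⟩
    · rw [neg_mul_neg, one_mul, add_eq_left] at hv
      obtain ⟨x, hx, e⟩ := pos (-w) (by rw [q_neg, hv])
      exact ⟨x, hx, Or.inr (by rw [e, ncons, neg_neg])⟩
  have hcom : ∀ x ∈ D, ∀ y ∈ D, x ≠ y → (Commute x y ↔ pb (extQ Q) (Ψ x) (Ψ y) = 0) := by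
    intro x hx y hy hne
    rcases hcases x hx with rfl | hx' | hx' <;> rcases hcases y hy with rfl | hy' | hy'
    · exact absurd rfl hne
    · rw [eD, eN y hy', extQ_pb_cons, map_zero, LinearMap.zero_apply]
      exact iff_of_true hy'.2.2 (by decide)
    · rw [eD, eF y hy', extQ_pb_cons, map_zero, LinearMap.zero_apply]
      exact iff_of_false hy' (by decide)
    · rw [eD, eN x hx', extQ_pb_cons, map_zero]
      exact iff_of_true hx'.2.2.symm (by decide)
    · rw [eN x hx', eN y hy', extQ_pb_cons, zero_mul, mul_zero, zero_add]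
      exact f.com_iff hSd hx' hy' hne
    · rw [eN x hx', eF y hy', extQ_pb_cons, zero_mul, mul_zero, zero_add, pb_symm,
        ← (hΦ y ⟨hy, hy'⟩).1.2.2.2.2 x hx']
      exact ⟨fun q => ⟨hx', q⟩, fun q => q.2⟩
    · rw [eD, eF x hx', extQ_pb_cons, map_zero]
      exact iff_of_false (fun q => hx' q.symm) (by decide)
    · rw [eF x hx', eN y hy', extQ_pb_cons, mul_zero, mul_zero, zero_add, ← (hΦ x ⟨hx, hx'⟩).1.2.2.2.2 y hy']
      exact ⟨fun q => ⟨hy', q.symm⟩, fun q => q.2.symm⟩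
    · rw [eF x hx', eF y hy', extQ_pb_cons,
        (hΦ x ⟨hx, hx'⟩).com_iff h hloc hn hd hQ f hp (hΦ y ⟨hy, hy'⟩) hne, mul_one, mul_one]
      generalize pb Q (Φ x) (Φ y) = s
      revert s; decide
  exact ⟨Ψ, rc_of_graph h (refl_tdet h hloc hn) hnorm hinj hsurj hcom⟩

/-- Reflection neighbourhoods give a reflection group. -/
theorem step_refl : RCo D (n + 1) (2 * μ) := by
  obtain ⟨d, hd, -⟩ := h.width
  obtain ⟨Q, hQ, hμ, φ, f⟩ := hloc d hd
  obtain ⟨Ψ, g⟩ := step_refl_at h hloc hn hd hQ f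
  exact ⟨extQ Q, extQ_nondeg hQ, by rw [extQ_det, hμ], Ψ, g⟩

end step

end CfsgLib.Fischer
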