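import Cfsg.Agent.Fischer.Coords

/-!
Fischer's theorem: orthogonal geometry over three elements.
-/

set_option autoImplicit false
set_option linter.unusedSectionVars false

namespace CfsgLib.Fischer

open QuadraticMap

section space

variable {n : ℕ} (Q : QuadraticForm (ZMod 3) (Fin n → ZMod 3))

local notation "V" => (Fin n → ZMod 3)

/-- The polar form. -/
abbrev pb (Q : QuadraticForm (ZMod 3) (Fin n → ZMod 3)) : LinearMap.BilinForm (ZMod 3) (Fin n → ZMod 3) :=
  QuadraticMap.polarBilin Q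

theorem pb_symm (u v : V) : pb Q u v = pb Q v u := QuadraticMap.polar_comm _ u v

theorem pb_self (u : V) : pb Q u u = 2 * Q u := by
  rw [QuadraticMap.polarBilin_apply_apply, QuadraticMap.polar_self, two_smul, two_mul]

theorem q_add (u v : V) : Q (u + v) = Q u + Q v + pb Q u v := QuadraticMap.map_add Q u v

theorem q_smul (k : ZMod 3) (u : V) : Q (k • u) = k * k * Q u := by
  rw [QuadraticMap.map_smul, smul_eq_mul]

theorem q_neg (u : V) : Q (-u) = Q u := QuadraticMap.map_neg Q u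

theorem three_cases : ∀ z : ZMod 3, z = 0 ∨ z = 1 ∨ z = -1 := by decide

theorem sq_one : ∀ z : ZMod 3, z ≠ 0 → z * z = 1 := by decide

theorem sub_comb (u v : V) (a : ZMod 3) : Q (u + a • v) = Q u + a * a * Q v + a * pb Q u v := by
  rw [q_add, q_smul, map_smul, smul_eq_mul]

theorem rvec_eq (v x : V) : rvec Q v x = x + (-pb Q v x) • v := by
  rw [rvec, neg_smul, sub_eq_add_neg]

theorem rvec_form {v : V} (hv : Q v = 1) (x y : V) : pb Q (rvec Q v x) (rvec Q v y) = pb Q x y := by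
  simp only [rvec_eq, map_add, map_smul, LinearMap.add_apply, LinearMap.smul_apply, smul_eq_mul, pb_self, hv,
    pb_symm Q x v]
  generalize pb Q x y = s; generalize pb Q v x = a; generalize pb Q v y = b
  revert s a b; decide

theorem rvec_q {v : V} (hv : Q v = 1) (x : V) : Q (rvec Q v x) = Q x := by
  rw [rvec_eq, sub_comb, hv, pb_symm Q x v]
  generalize Q x = s; generalize pb Q v x = a
  revert s a; decide

theorem rvec_neg (v x : V) : rvec Q (-v) x = rvec Q v x := by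
  rw [rvec, rvec, map_neg, LinearMap.neg_apply, neg_smul_neg]

theorem rvec_neg_right (v x : V) : rvec Q v (-x) = -rvec Q v x := by
  rw [rvec, rvec, map_neg, neg_smul, sub_neg_eq_add, neg_sub', sub_neg_eq_add]

theorem rvec_rvec {v : V} (hv : Q v = 1) (x : V) : rvec Q v (rvec Q v x) = x := by
  rw [rvec_eq, rvec_eq, map_add, map_smul, pb_self, hv, smul_eq_mul, add_assoc, ← add_smul]
  have : ∀ b : ZMod 3, -b + -(b + -b * (2 * 1)) = 0 := by decide
  rw [this, zero_smul, add_zero]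

theorem rvec_smul (v x : V) (k : ZMod 3) : rvec Q v (k • x) = k • rvec Q v x := by
  rw [rvec, rvec, map_smul, smul_eq_mul, smul_sub, smul_smul]

theorem pair_dep {u v : V} {a b : ZMod 3} (hb : b ≠ 0) (h : a • u + b • v = 0) : v = (-(b * a)) • u := by
  have h2 : v = b • (a • u + b • v) - (b * a) • u := by
    rw [smul_add, smul_smul, smul_smul, sq_one b hb, one_smul, add_sub_cancel_left]
  rw [h2, h, smul_zero, zero_sub, neg_smul]

/-- A subspace on which the form is non-degenerate. -/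
def ND (Z : Submodule (ZMod 3) (Fin n → ZMod 3)) : Prop := ∀ z ∈ Z, z ≠ 0 → ∃ z' ∈ Z, pb Q z z' ≠ 0

/-- The vectors of a subspace orthogonal to one vector. -/
def perp (Z : Submodule (ZMod 3) (Fin n → ZMod 3)) (s : Fin n → ZMod 3) : Submodule (ZMod 3) (Fin n → ZMod 3) :=
  Z ⊓ LinearMap.ker (pb Q s)

theorem mem_perp {Z : Submodule (ZMod 3) V} {s x : V} : x ∈ perp Q Z s ↔ x ∈ Z ∧ pb Q s x = 0 := Iff.rfl

theorem finrank_perp (Z : Submodule (ZMod 3) V) (s : V) :
    Module.finrank (ZMod 3) Z ≤ Module.finrank (ZMod 3) (perp Q Z s) + 1 := by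
  let f : Z →ₗ[ZMod 3] ZMod 3 := (pb Q s).comp Z.subtype
  have h1 := LinearMap.finrank_range_add_finrank_ker f
  have h2 : Module.finrank (ZMod 3) (LinearMap.range f) ≤ 1 :=
    (Submodule.finrank_le _).trans (Module.finrank_self (ZMod 3)).le
  have e : (LinearMap.ker f).map Z.subtype = perp Q Z s := by
    ext x
    constructor
    · rintro ⟨y, hy, rfl⟩; exact ⟨y.2, hy⟩
    · rintro ⟨hx, hs⟩; exact ⟨⟨x, hx⟩, hs, rfl⟩
  rw [← e, Submodule.finrank_map_subtype_eq]
  omega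

variable {Q} (hQ : (QuadraticMap.polarBilin Q).Nondegenerate)

include hQ in
theorem nd_top : ND Q ⊤ := by
  intro z _ hz
  by_contra q
  push Not at q
  exact hz (hQ.1 z fun y => q y trivial)

theorem ND.perp_aniso {Z : Submodule (ZMod 3) V} (h : ND Q Z) {s : V} (hs : s ∈ Z) (hq : Q s ≠ 0) :
    ND Q (perp Q Z s) := by
  rintro z ⟨hz, hzs⟩ hz0
  have hzs' : pb Q s z = 0 := hzs
  obtain ⟨z', hz', hne⟩ := h z hz hz0
  refine ⟨z' + (Q s * pb Q s z') • s, ⟨Z.add_mem hz' (Z.smul_mem _ hs), ?_⟩, ?_⟩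
  · show pb Q s _ = 0
    rw [map_add, map_smul, pb_self, smul_eq_mul]
    revert hq
    generalize Q s = a; generalize pb Q s z' = b
    revert a b; decide
  · rwa [map_add, map_smul, pb_symm Q z s, hzs', smul_zero, add_zero]

theorem ND.exists_partner {Z : Submodule (ZMod 3) V} (h : ND Q Z) {u : V} (hu : u ∈ Z) (hu0 : u ≠ 0)
    (hq : Q u = 0) : ∃ w ∈ Z, Q w = 0 ∧ pb Q u w = 1 := by
  obtain ⟨z, hz, hne⟩ := h u hu hu0
  refine ⟨(pb Q u z) • z + (-Q z) • u, Z.add_mem (Z.smul_mem _ hz) (Z.smul_mem _ hu), ?_, ?_⟩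
  · rw [sub_comb, q_smul, hq, map_smul, LinearMap.smul_apply, smul_eq_mul, pb_symm Q z u]
    revert hne
    generalize pb Q u z = a; generalize Q z = b
    revert a b; decide
  · rw [map_add, map_smul, map_smul, pb_self, hq, smul_eq_mul, smul_eq_mul, mul_zero, mul_zero, add_zero]
    exact sq_one _ hne

theorem ND.perp_pair {Z : Submodule (ZMod 3) V} (h : ND Q Z) {u w : V} (hu : u ∈ Z) (hw : w ∈ Z)
    (qu : Q u = 0) (qw : Q w = 0) (huw : pb Q u w = 1) : ND Q (perp Q (perp Q Z u) w) := by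
  rintro z ⟨⟨hz, hzu⟩, hzw⟩ hz0
  have hzu' : pb Q u z = 0 := hzu
  have hzw' : pb Q w z = 0 := hzw
  obtain ⟨z', hz', hne⟩ := h z hz hz0
  refine ⟨z' + (-pb Q w z') • u + (-pb Q u z') • w,
    ⟨⟨Z.add_mem (Z.add_mem hz' (Z.smul_mem _ hu)) (Z.smul_mem _ hw), ?_⟩, ?_⟩, ?_⟩
  · show pb Q u _ = 0
    simp only [map_add, map_smul, pb_self, qu, huw, smul_eq_mul]; ring
  · show pb Q w _ = 0
    simp only [map_add, map_smul, pb_self, qw, pb_symm Q w u, huw, smul_eq_mul]; ring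
  · simp only [map_add, map_smul, pb_symm Q z u, hzu', pb_symm Q z w, hzw', smul_eq_mul, mul_zero, add_zero]
    exact hne

theorem ND.exists_aniso {Z : Submodule (ZMod 3) V} (h : ND Q Z) (hd : 1 ≤ Module.finrank (ZMod 3) Z) :
    ∃ z ∈ Z, Q z ≠ 0 := by
  obtain ⟨z, hz, hz0⟩ := Submodule.exists_mem_ne_zero_of_ne_bot (p := Z) (fun e => by
    rw [e, finrank_bot] at hd; omega)
  by_cases q : Q z = 0
  · obtain ⟨w, hw, qw, e⟩ := h.exists_partner hz hz0 q
    exact ⟨z + w, Z.add_mem hz hw, by rw [q_add, q, qw, e]; decide⟩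
  · exact ⟨z, hz, q⟩

theorem ND.exists_one {Z : Submodule (ZMod 3) V} (h : ND Q Z) (hd : 2 ≤ Module.finrank (ZMod 3) Z) :
    ∃ z ∈ Z, Q z = 1 := by
  obtain ⟨z, hz, qz⟩ := h.exists_aniso (by omega)
  obtain ⟨y, ⟨hy, hy'⟩, qy⟩ := (h.perp_aniso hz qz).exists_aniso (by
    have := finrank_perp Q Z z; omega)
  have hzy : pb Q z y = 0 := hy'
  rcases three_cases (Q z) with e | e | e
  · exact absurd e qz
  · exact ⟨z, hz, e⟩
  rcases three_cases (Q y) with e' | e' | e'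
  · exact absurd e' qy
  · exact ⟨y, hy, e'⟩
  · exact ⟨z + y, Z.add_mem hz hy, by rw [q_add, e, e', hzy]; decide⟩

theorem finrank_top' : Module.finrank (ZMod 3) (⊤ : Submodule (ZMod 3) V) = n := by
  rw [finrank_top]; simp

theorem finrank_pair (Z : Submodule (ZMod 3) V) (u w : V) :
    Module.finrank (ZMod 3) Z ≤ Module.finrank (ZMod 3) (perp Q (perp Q Z u) w) + 2 := by
  have := finrank_perp Q Z u
  have := finrank_perp Q (perp Q Z u) w
  omega

/-- A singular vector whose orthogonal inside a non-degenerate subspace kills `v` carries `v`. -/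
theorem ND.of_perp {Z : Submodule (ZMod 3) V} (h : ND Q Z) {u v : V} (hu : u ∈ Z) (hu0 : u ≠ 0)
    (hv : v ∈ Z) (qu : Q u = 0) (hz : ∀ z ∈ perp Q Z u, pb Q v z = 0) : ∃ k : ZMod 3, v = k • u := by
  obtain ⟨w, hw, qw, huw⟩ := h.exists_partner hu hu0 qu
  refine ⟨pb Q v w, ?_⟩
  by_contra hne
  obtain ⟨z, hzZ, hzne⟩ := h (v + (-pb Q v w) • u) (Z.add_mem hv (Z.smul_mem _ hu))
    (fun e => hne (by rwa [neg_smul, ← sub_eq_add_neg, sub_eq_zero] at e))
  have hz' := hz (z + (-pb Q u z) • w) ⟨Z.add_mem hzZ (Z.smul_mem _ hw), by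
    show pb Q u _ = 0
    rw [map_add, map_smul, huw, smul_eq_mul, mul_one, add_neg_cancel]⟩
  refine hzne ?_
  rw [map_add, map_smul, smul_eq_mul] at hz'
  rw [map_add, map_smul, LinearMap.add_apply, LinearMap.smul_apply, smul_eq_mul, ← hz']
  ring

/-- The norm one vectors orthogonal to a singular one, once there is one, determine it. -/
theorem ND.line_det {Z : Submodule (ZMod 3) V} (h : ND Q Z) {u v : V} (hu : u ∈ Z) (hu0 : u ≠ 0)
    (qu : Q u = 0) (hv : v ∈ Z) (qv : Q v = 0) (hex : ∃ x ∈ perp Q Z u, Q x = 1)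
    (hone : ∀ x ∈ perp Q Z u, Q x = 1 → pb Q v x = 0) : ∃ k : ZMod 3, v = k • u := by
  obtain ⟨x, hxm, qx⟩ := hex
  obtain ⟨hx, hux'⟩ := hxm
  have hux : pb Q u x = 0 := hux'
  have hvx := hone x ⟨hx, hux'⟩ qx
  have hvu : pb Q v u = 0 := by
    have := hone (x + u) ⟨Z.add_mem hx hu, by show pb Q u _ = 0; rw [map_add, pb_self, qu, hux]; decide⟩
      (by rw [q_add, qx, qu, pb_symm Q x u, hux]; decide)
    rwa [map_add, hvx, zero_add] at this
  refine h.of_perp hu hu0 hv qu fun z hz => ?_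
  have hvp : v ∈ perp Q Z u := ⟨hv, by show pb Q u v = 0; rw [pb_symm]; exact hvu⟩
  set z0 := z + pb Q x z • x with hz0
  have hz0p : z0 ∈ perp Q Z u := (perp Q Z u).add_mem hz ((perp Q Z u).smul_mem _ ⟨hx, hux'⟩)
  have hxz0 : pb Q x z0 = 0 := by
    rw [hz0, map_add, map_smul, pb_self, qx, smul_eq_mul]
    generalize pb Q x z = b; revert b; decide
  have hvz : pb Q v z = pb Q v z0 := by rw [hz0, map_add, map_smul, hvx, smul_zero, add_zero]
  rw [hvz]
  rcases three_cases (Q z0) with e | e | e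
  · have := hone (z0 + x) ((perp Q Z u).add_mem hz0p ⟨hx, hux'⟩)
      (by rw [q_add, e, qx, pb_symm Q z0 x, hxz0]; decide)
    rwa [map_add, hvx, add_zero] at this
  · exact hone z0 hz0p e
  · by_contra hb
    have h1 := hone (z0 + (-pb Q v z0) • v) ((perp Q Z u).add_mem hz0p ((perp Q Z u).smul_mem _ hvp)) (by
      rw [sub_comb, e, qv, pb_symm Q z0 v, mul_zero, add_zero, neg_mul, sq_one _ hb]; decide)
    rw [map_add, map_smul, pb_self, qv, mul_zero, smul_zero, add_zero] at h1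
    exact hb h1

include hQ in
theorem exists_x_perp (hn : 5 ≤ n) {a u : V} (qa : Q a = 1) (qu : Q u = 0) (hu0 : u ≠ 0) (hau : pb Q a u = 0) :
    ∃ x, Q x = 1 ∧ pb Q a x = 0 ∧ pb Q u x = 0 := by
  have h1 := (nd_top hQ).perp_aniso (s := a) trivial (by rw [qa]; decide)
  obtain ⟨w, hw, qw, huw⟩ := h1.exists_partner (u := u) ⟨trivial, hau⟩ hu0 qu
  have h2 := h1.perp_pair (u := u) (w := w) ⟨trivial, hau⟩ hw qu qw huw
  obtain ⟨x, hx, qx⟩ := h2.exists_one (by
    have := finrank_pair (Q := Q) (perp Q ⊤ a) u w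
    have := finrank_perp Q (⊤ : Submodule (ZMod 3) V) a
    have := finrank_top' (n := n)
    omega)
  exact ⟨x, qx, hx.1.1.2, hx.1.2⟩

include hQ in
theorem exists_x_u (hn : 5 ≤ n) {u : V} (qu : Q u = 0) (hu0 : u ≠ 0) : ∃ x, Q x = 1 ∧ pb Q u x = 0 := by
  obtain ⟨w, -, qw, huw⟩ := (nd_top hQ).exists_partner (u := u) trivial hu0 qu
  obtain ⟨x, hx, qx⟩ := ((nd_top hQ).perp_pair (u := u) (w := w) trivial trivial qu qw huw).exists_one (by
    have := finrank_pair (Q := Q) (⊤ : Submodule (ZMod 3) V) u w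
    have := finrank_top' (n := n)
    omega)
  exact ⟨x, qx, hx.1.2⟩

include hQ in
theorem det_point (hn : 5 ≤ n) {u v : V} (qu : Q u = 0) (hu0 : u ≠ 0) (qv : Q v = 0)
    (h : ∀ x, Q x = 1 → pb Q u x = 0 → pb Q v x = 0) : ∃ k : ZMod 3, v = k • u := by
  obtain ⟨x, qx, hx⟩ := exists_x_u hQ hn qu hu0
  exact (nd_top hQ).line_det trivial hu0 qu trivial qv ⟨x, ⟨trivial, hx⟩, qx⟩ fun y hy qy => h y qy hy.2

include hQ in
theorem det_point_perp (hn : 5 ≤ n) {a u v : V} (qa : Q a = 1) (qu : Q u = 0) (hu0 : u ≠ 0) (hau : pb Q a u = 0)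
    (qv : Q v = 0) (hav : pb Q a v = 0) (h : ∀ x, Q x = 1 → pb Q a x = 0 → pb Q u x = 0 → pb Q v x = 0) :
    ∃ k : ZMod 3, v = k • u := by
  obtain ⟨x, qx, h1, h2⟩ := exists_x_perp hQ hn qa qu hu0 hau
  exact ((nd_top hQ).perp_aniso (s := a) trivial (by rw [qa]; decide)).line_det (u := u) (v := v) ⟨trivial, hau⟩
    hu0 qu ⟨trivial, hav⟩ qv ⟨x, ⟨⟨trivial, h1⟩, h2⟩, qx⟩ fun y hy qy => h y qy hy.1.2 hy.2

include hQ in
/-- A singular vector meeting two given ones. -/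
theorem exists_meet_two {u w : V} (hu0 : u ≠ 0) (qu : Q u = 0) (hw0 : w ≠ 0) (qw : Q w = 0)
    (huw : pb Q u w = 0) : ∃ x, Q x = 0 ∧ pb Q u x ≠ 0 ∧ pb Q w x ≠ 0 := by
  obtain ⟨p, -, qp, hup⟩ := (nd_top hQ).exists_partner (u := u) trivial hu0 qu
  by_cases hwp : pb Q w p = 0
  swap
  · exact ⟨p, qp, by rw [hup]; decide, hwp⟩
  obtain ⟨r, -, qr, hwr⟩ := (nd_top hQ).exists_partner (u := w) trivial hw0 qw
  by_cases hur : pb Q u r = 0
  swap
  · exact ⟨r, qr, hur, by rw [hwr]; decide⟩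
  refine ⟨p + r + (-pb Q p r) • u, ?_, ?_, ?_⟩
  · rw [sub_comb, q_add, qp, qr, qu, map_add, LinearMap.add_apply, pb_symm Q p u, hup, pb_symm Q r u, hur]; ring
  · rw [map_add, map_add, map_smul, hup, hur, pb_self, qu]; simp
  · rw [map_add, map_add, map_smul, hwp, hwr, pb_symm Q w u, huw]; simp

end space

end CfsgLib.Fischer
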