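import Cfsg.Agent.SixPlane.Tables
import Mathlib.Data.ZMod.Basic

/-!
Fischer's theorem: the isotropic points of the unitary space of dimension four over four elements and the points of
norm one of the orthogonal space of dimension five over three elements.
-/

set_option autoImplicit false

namespace CfsgLib.Fischer.U4

open CfsgLib.SixPlane

/-- The isotropic points. -/
def upts : Fin 45 → Fin 4 → Fin 4 :=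
  ![![0, 0, 1, 1], ![0, 0, 1, 2], ![0, 0, 1, 3], ![0, 1, 0, 1], ![0, 1, 0, 2],
    ![0, 1, 0, 3], ![0, 1, 1, 0], ![0, 1, 2, 0], ![0, 1, 3, 0], ![1, 0, 0, 1],
    ![1, 0, 0, 2], ![1, 0, 0, 3], ![1, 0, 1, 0], ![1, 0, 2, 0], ![1, 0, 3, 0],
    ![1, 1, 0, 0], ![1, 1, 1, 1], ![1, 1, 1, 2], ![1, 1, 1, 3], ![1, 1, 2, 1],
    ![1, 1, 2, 2], ![1, 1, 2, 3], ![1, 1, 3, 1], ![1, 1, 3, 2], ![1, 1, 3, 3],
    ![1, 2, 0, 0], ![1, 2, 1, 1], ![1, 2, 1, 2], ![1, 2, 1, 3], ![1, 2, 2, 1],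
    ![1, 2, 2, 2], ![1, 2, 2, 3], ![1, 2, 3, 1], ![1, 2, 3, 2], ![1, 2, 3, 3],
    ![1, 3, 0, 0], ![1, 3, 1, 1], ![1, 3, 1, 2], ![1, 3, 1, 3], ![1, 3, 2, 1],
    ![1, 3, 2, 2], ![1, 3, 2, 3], ![1, 3, 3, 1], ![1, 3, 3, 2], ![1, 3, 3, 3]]

/-- The corresponding points of norm one. -/
def rpts : Fin 45 → Fin 5 → ZMod 3 :=
  ![![0, 0, 0, 0, 1], ![0, 1, 1, 1, 1], ![0, 1, 1, 1, 2], ![1, 0, 1, 2, 1], ![1, 2, 0, 1, 1],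
    ![1, 1, 2, 0, 1], ![1, 0, 1, 2, 2], ![1, 2, 0, 1, 2], ![1, 1, 2, 0, 2], ![1, 0, 2, 1, 2],
    ![1, 1, 0, 2, 2], ![1, 2, 1, 0, 2], ![1, 0, 2, 1, 1], ![1, 1, 0, 2, 1], ![1, 2, 1, 0, 1],
    ![1, 0, 0, 0, 0], ![0, 1, 0, 0, 0], ![0, 1, 1, 2, 2], ![0, 1, 2, 1, 1], ![0, 1, 1, 2, 1],
    ![0, 0, 1, 0, 0], ![0, 1, 2, 2, 1], ![0, 1, 2, 1, 2], ![0, 1, 2, 2, 2], ![0, 0, 0, 1, 0],
    ![1, 2, 2, 2, 0], ![1, 1, 2, 1, 0], ![1, 0, 2, 2, 2], ![1, 2, 2, 0, 1], ![1, 0, 2, 2, 1],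
    ![1, 1, 1, 2, 0], ![1, 2, 0, 2, 2], ![1, 2, 2, 0, 2], ![1, 2, 0, 2, 1], ![1, 2, 1, 1, 0],
    ![1, 1, 1, 1, 0], ![1, 2, 2, 1, 0], ![1, 1, 0, 1, 1], ![1, 0, 1, 1, 2], ![1, 1, 0, 1, 2],
    ![1, 1, 2, 2, 0], ![1, 1, 1, 0, 1], ![1, 0, 1, 1, 1], ![1, 1, 1, 0, 2], ![1, 2, 1, 2, 0]]

/-- The hermitian form. -/
def h4 (x u : Fin 4 → Fin 4) : Fin 4 :=
  add4 (add4 (mul4 (x 0) (mul4 (u 0) (u 0))) (mul4 (x 1) (mul4 (u 1) (u 1))))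
    (add4 (mul4 (x 2) (mul4 (u 2) (u 2))) (mul4 (x 3) (mul4 (u 3) (u 3))))

/-- A transvection. -/
def tv4 (u x : Fin 4 → Fin 4) : Fin 4 → Fin 4 := fun k => add4 (x k) (mul4 (h4 x u) (u k))

/-- The quadratic form. -/
def q5 (v : Fin 5 → ZMod 3) : ZMod 3 := v 0 * v 0 + v 1 * v 1 + v 2 * v 2 + v 3 * v 3 + v 4 * v 4

/-- A reflection. -/
def rf5 (u x : Fin 5 → ZMod 3) : Fin 5 → ZMod 3 :=
  fun k => x k + (u 0 * x 0 + u 1 * x 1 + u 2 * x 2 + u 3 * x 3 + u 4 * x 4) * u k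

theorem upts_iso : ∀ i, h4 (upts i) (upts i) = 0 ∧ ∃ k, upts i k ≠ 0 := by decide +kernel

theorem upts_inj : ∀ i j a, (∀ k, upts i k = mul4 a (upts j k)) → i = j := by decide +kernel

theorem upts_cover : ∀ a b c e : Fin 4, h4 ![a, b, c, e] ![a, b, c, e] = 0 → ![a, b, c, e] ≠ ![0, 0, 0, 0] →
    ∃ i s, s ≠ 0 ∧ ∀ k, ![a, b, c, e] k = mul4 s (upts i k) := by decide +kernel

theorem rpts_norm : ∀ i, q5 (rpts i) = 1 := by decide +kernel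

theorem rpts_inj : ∀ i j, ((∀ k, rpts i k = rpts j k) ∨ ∀ k, rpts i k = -rpts j k) → i = j := by decide +kernel

theorem rpts_cover : ∀ a b c e g : ZMod 3, q5 ![a, b, c, e, g] = 1 →
    ∃ i, (∀ k, rpts i k = ![a, b, c, e, g] k) ∨ ∀ k, rpts i k = -![a, b, c, e, g] k := by decide +kernel

theorem conj_match : ∀ i j, ∃ l, (∃ a, ∀ k, upts l k = mul4 a (tv4 (upts i) (upts j) k)) ∧
    ((∀ k, rpts l k = rf5 (rpts i) (rpts j) k) ∨ ∀ k, rpts l k = -rf5 (rpts i) (rpts j) k) := by decide +kernel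

end CfsgLib.Fischer.U4
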