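import Cfsg.Agent.Fischer.UniDet
import Cfsg.Agent.Fischer.Space
import Cfsg.Agent.Fischer.U4Data
import Cfsg.Agent.SixPlane.Forms

/-!
Fischer's theorem: the unitary space of dimension four as an orthogonal space of dimension five.
-/

set_option autoImplicit false
set_option linter.unusedSectionVars false
set_option linter.style.haveILetI false

namespace CfsgLib.Fischer

open CfsgLib.ThreeT CfsgLib.ThreeT.Prod CfsgLib.ThreeT.Tv CfsgLib.SixPlane

universe u

/-- The sum of five squares. -/
noncomputable def five : QuadraticForm (ZMod 3) (Fin 5 → ZMod 3) :=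
  QuadraticMap.weightedSumSquares (ZMod 3) (fun _ : Fin 5 => (1 : ZMod 3))

theorem five_apply (v : Fin 5 → ZMod 3) : five v = U4.q5 v := by
  simp [five, QuadraticMap.weightedSumSquares_apply, Fin.sum_univ_five, U4.q5]

theorem five_pb (v w : Fin 5 → ZMod 3) :
    pb five v w = 2 * (v 0 * w 0 + v 1 * w 1 + v 2 * w 2 + v 3 * w 3 + v 4 * w 4) := by
  show QuadraticMap.polar five v w = _
  simp only [QuadraticMap.polar, five_apply, U4.q5, Pi.add_apply]
  ring

theorem five_rvec (v w : Fin 5 → ZMod 3) : rvec five v w = U4.rf5 v w := by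
  funext k
  simp only [rvec, U4.rf5, Pi.sub_apply, Pi.smul_apply, smul_eq_mul, five_pb]
  generalize v 0 * w 0 + v 1 * w 1 + v 2 * w 2 + v 3 * w 3 + v 4 * w 4 = s
  generalize v k = a; generalize w k = b
  revert s a b; decide

theorem five_nondeg : (QuadraticMap.polarBilin five).Nondegenerate := by
  have key : ∀ v, (∀ w, pb five v w = 0) → v = 0 := by
    intro v hv
    funext i
    have := hv (Pi.single i 1)
    rw [five_pb] at this
    revert this
    fin_cases i <;> simp <;> (intro h; revert h; generalize v _ = s; revert s; decide)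
  exact ⟨key, fun w hw => key w fun v => by rw [pb_symm]; exact hw v⟩

theorem five_det : Cfsg.polarGramDet (⇑five) = 2 := by
  have h : ∀ i j : Fin 5, QuadraticMap.polar (⇑five) (Pi.single i 1) (Pi.single j 1) = if i = j then 2 else 0 := by
    intro i j
    show pb five _ _ = _
    rw [five_pb]
    fin_cases i <;> fin_cases j <;> simp
  have e : (Matrix.of fun i j : Fin 5 => QuadraticMap.polar (⇑five) (Pi.single i 1) (Pi.single j 1)) =
      Matrix.diagonal fun _ => (2 : ZMod 3) := by
    ext i j
    rw [Matrix.of_apply, h, Matrix.diagonal_apply]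
  rw [Cfsg.polarGramDet, e, Matrix.det_diagonal, Finset.prod_const, Finset.card_univ, Fintype.card_fin]
  rfl

section four

variable {G : Type u} [Group G] {K : Type} [Field K] [Finite K] (W : Wt K) {S : Set G}
  {φ : G → Fin 4 → K} (f : UC S φ) (hS : Closed S)

include W f hS

/-- The unitary space of dimension four is the orthogonal space of dimension five. -/
theorem uni_four_refl : ∃ χ, RC S five χ := by
  classical
  haveI : CharP K 2 := CharTwo.of_one_ne_zero_of_two_eq_zero one_ne_zero W.two
  have hw : (W.wt 1) ^ 2 = W.wt 1 + 1 := by linear_combination wt_one W - W.wt 1 * W.two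
  set w := W.wt 1
  have hh4 : ∀ x y : Fin 4 → Fin 4,
      Cfsg.hermForm 4 K 2 (fun k => enc w (x k)) (fun k => enc w (y k)) = enc w (U4.h4 x y) := by
    intro x y
    simp only [Cfsg.hermForm, Fin.sum_univ_four, U4.h4, enc_add hw, enc_mul hw, pow_two]
    ring
  set V : Fin 45 → Fin 4 → K := fun i k => enc w (U4.upts i k) with hV
  have hVne : ∀ i, V i ≠ 0 := fun i e => by
    obtain ⟨k, hk⟩ := (U4.upts_iso i).2
    exact hk (enc_injective hw (by rw [show enc w (U4.upts i k) = V i k from rfl, e]; rfl))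
  have hViso : ∀ i, Cfsg.hermForm 4 K 2 (V i) (V i) = 0 := fun i => by
    rw [hh4, (U4.upts_iso i).1]; rfl
  have hcov : ∀ v : Fin 4 → K, v ≠ 0 → Cfsg.hermForm 4 K 2 v v = 0 → ∃ i, ∃ s : K, s ≠ 0 ∧ v = s • V i := by
    intro v hv0 hv
    choose c hc using fun k => enc_surjective (wt_card W) hw (v k)
    have ev : v = fun k => enc w (![c 0, c 1, c 2, c 3] k) := by
      funext k; rw [← hc k]; fin_cases k <;> rfl
    obtain ⟨i, s, hs, es⟩ := U4.upts_cover (c 0) (c 1) (c 2) (c 3)
      (enc_injective hw (by rw [← hh4, ← ev, hv]; rfl))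
      (fun e => hv0 (by rw [ev, e]; funext k; fin_cases k <;> rfl))
    refine ⟨i, enc w s, fun e => hs (enc_injective hw (by rw [e]; rfl)), ?_⟩
    rw [ev]
    funext k
    rw [es, enc_mul hw]; rfl
  have hinjV : ∀ i j (s : K), V i = s • V j → i = j := by
    intro i j s e
    obtain ⟨a, rfl⟩ := enc_surjective (wt_card W) hw s
    exact U4.upts_inj i j a fun k => enc_injective hw (by rw [enc_mul hw]; exact congrFun e k)
  choose! I hI using fun x (hx : x ∈ S) => hcov (φ x) (f.nz x hx) (f.iso x hx)
  choose s hs hφ using hI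
  refine ⟨fun x => U4.rpts (I x), fun x _ => (five_apply _).trans (U4.rpts_norm _), fun x hx y hy e => ?_,
    fun v hv => ?_, fun x hx y hy => ?_⟩
  · have hxy : I x = I y := U4.rpts_inj _ _ (e.imp (fun q k => congrFun q k) fun q k => congrFun q k)
    exact f.eq_of_smul W hx hy (hs y hy) (hφ x hx) (hxy ▸ hφ y hy)
  · obtain ⟨i, hi⟩ := U4.rpts_cover (v 0) (v 1) (v 2) (v 3) (v 4) (by
      rw [← hv, five_apply]; rfl)
    obtain ⟨x, hx, k, hk, ex⟩ := f.exists_rep W (hVne i) (hViso i)
    have hIx : I x = i := hinjV _ _ ((s x hx)⁻¹ * k) (by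
      rw [← smul_smul, ← ex, hφ x hx, smul_smul, inv_mul_cancel₀ (hs x hx), one_smul])
    have ev : ∀ k, (![v 0, v 1, v 2, v 3, v 4] : Fin 5 → ZMod 3) k = v k := by intro k; fin_cases k <;> rfl
    refine ⟨x, hx, ?_⟩
    simp only [hIx]
    exact hi.imp (fun q => funext fun k => by rw [q, ev]) fun q => funext fun k => by rw [q, ev]; rfl
  · obtain ⟨k, hk⟩ := f.conj x hx y hy
    obtain ⟨l, ⟨a, ha⟩, hl⟩ := U4.conj_match (I x) (I y)
    have hm := hS.conj x hx y hy
    have hIl : I (x * y * x) = l := by
      refine (hinjV l (I (x * y * x)) (enc w a * (s y hy)⁻¹ * k⁻¹ * s _ hm) ?_).symm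
      have hk0 : k ≠ 0 := fun e => f.nz _ hm (by rw [hk, e, zero_smul])
      have e1 : V l = enc w a • tau (V (I x)) (V (I y)) := by
        funext j
        show enc w (U4.upts l j) = enc w a * (V (I y) j + Cfsg.hermForm 4 K 2 (V (I y)) (V (I x)) * V (I x) j)
        rw [ha, hh4, U4.tv4, enc_mul hw, enc_add hw, enc_mul hw]
      rw [← smul_smul, ← hφ _ hm, hk, hφ x hx, hφ y hy, W.tau_smul (hs x hx), tau_smul_right, e1,
        smul_smul, smul_smul]
      congr 1
      field_simp [hs y hy, hk0]
    simp only [hIl]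
    exact hl.imp (fun q => funext fun j => by rw [q, five_rvec]) fun q => funext fun j => by
      rw [q, five_rvec]; rfl

end four

end CfsgLib.Fischer
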