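import Cfsg.Agent.Fischer.UniDet
import Cfsg.Agent.Unitary.Isotropic

/-!
Fischer's theorem: counting isotropic points.
-/

set_option autoImplicit false
set_option linter.unusedSectionVars false
set_option linter.style.haveILetI false

namespace CfsgLib.Fischer

open CfsgLib.ThreeT CfsgLib.ThreeT.Prod CfsgLib.ThreeT.Tv CfsgLib.Unitary

universe u

variable {K : Type} [Field K] [Finite K] (W : Wt K) {n : ℕ}

local notation "hh" => Cfsg.hermForm n K 2

include W

section count

variable {G : Type u} [Group G] [Finite G] {S : Set G} {φ : G → Fin n → K} (f : UC S φ)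
include f

/-- Three vectors for each point. -/
theorem UC.ncard_points (P : (Fin n → K) → Prop) (hP0 : P 0) (hP : ∀ (k : K) v, k ≠ 0 → (P (k • v) ↔ P v)) :
    3 * {x | x ∈ S ∧ P (φ x)}.ncard + 1 = Nat.card {v : Fin n → K // hh v v = 0 ∧ P v} := by
  classical
  haveI := Fintype.ofFinite K
  haveI := Fintype.ofFinite G
  set T : Set G := {x | x ∈ S ∧ P (φ x)}
  have key : Nat.card (Option (T × ZMod 3)) = Nat.card {v : Fin n → K // hh v v = 0 ∧ P v} := by
    refine Nat.card_eq_of_bijective (fun o => o.elim ⟨0, hh_zero_left W 0, hP0⟩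
      fun p => ⟨W.wt p.2 • φ p.1.1, by rw [Wt.hh_smul_left, Wt.hh_smul_right, f.iso _ p.1.2.1, mul_zero, mul_zero],
        (hP _ _ (W.ne _)).2 p.1.2.2⟩) ⟨?_, ?_⟩
    · rintro (_ | ⟨⟨x, hx⟩, i⟩) (_ | ⟨⟨y, hy⟩, j⟩) e <;> simp only [Option.elim, Subtype.mk.injEq] at e
      · rfl
      · exact absurd e.symm (smul_ne_zero (W.ne _) (f.nz y hy.1))
      · exact absurd e (smul_ne_zero (W.ne _) (f.nz x hx.1))
      · have hxy : x = y := f.inj x hx.1 y hy.1 ((W.wt i)⁻¹ * W.wt j) (by
          rw [mul_smul, ← e, smul_smul, inv_mul_cancel₀ (W.ne i), one_smul])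
        subst hxy
        rw [W.inj (smul_left_injective K (f.nz x hx.1) e)]
    · rintro ⟨v, hv, hPv⟩
      by_cases h0 : v = 0
      · exact ⟨none, Subtype.ext h0.symm⟩
      obtain ⟨x, hx, k, hk, ex⟩ := f.exists_rep W h0 hv
      obtain ⟨i, hi⟩ := W.surj k⁻¹ (inv_ne_zero hk)
      refine ⟨some (⟨x, hx, by rw [ex]; exact (hP k v hk).2 hPv⟩, i), Subtype.ext ?_⟩
      show W.wt i • φ x = v
      rw [hi, ex, smul_smul, inv_mul_cancel₀ hk, one_smul]
  rw [← key, Finite.card_option, Nat.card_prod, Nat.card_zmod, Nat.card_coe_set_eq, mul_comm]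

/-- All the points. -/
theorem UC.ncard_all : 3 * S.ncard + 1 = numLen K 2 n 0 := by
  have h := f.ncard_points W (fun _ => True) trivial fun _ _ _ => Iff.rfl
  rw [show {x | x ∈ S ∧ True} = S from Set.ext fun x => and_iff_left trivial] at h
  rw [h]
  exact Nat.card_congr (Equiv.subtypeEquivRight fun v => and_iff_left trivial)

/-- The points orthogonal to one. -/
theorem UC.ncard_perp {m : ℕ} (hn : n = m + 2) {u : Fin n → K} (h0 : u ≠ 0) (hu : hh u u = 0) :
    3 * {x | x ∈ S ∧ hh (φ x) u = 0}.ncard + 1 = 4 * numLen K 2 m 0 := by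
  rw [f.ncard_points W (fun v => hh v u = 0) (hh_zero_left W u) fun k v hk => by
    rw [Wt.hh_smul_left, mul_eq_zero]; simp [hk]]
  have hcard := card_perp_tuple (wt_card W) (n := n) (k := 1) (m := m) (by omega)
    ⟨![u], linearIndependent_unique_iff.2 h0, fun i j => by fin_cases i; fin_cases j; exact hu⟩
  rw [pow_one] at hcard
  rw [← show (2 : ℕ) ^ 2 = 4 from rfl, ← hcard]
  exact Nat.card_congr (Equiv.subtypeEquivRight fun v => and_congr_right fun _ => by simp)

end count

theorem numLen_vals : numLen K 2 3 0 = 28 ∧ numLen K 2 4 0 = 136 ∧ numLen K 2 6 0 = 2080 := by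
  have h3 := numLen_zero (wt_card W) 3
  have h4 := numLen_zero (wt_card W) 4
  have h6 := numLen_zero (wt_card W) 6
  norm_num at h3 h4 h6
  omega

end CfsgLib.Fischer
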