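import Cfsg.Agent.Fischer.UniStep
import Cfsg.Agent.Fischer.UniCount
import Cfsg.Agent.Fischer.Count
import Cfsg.Agent.Fischer.U4Refl
import Cfsg.Agent.Fischer.StepRefl

/-!
Fischer's theorem: unitary neighbourhoods of dimension six give the conditions of type M(22).
-/

set_option autoImplicit false
set_option linter.unusedSectionVars false
set_option linter.style.haveILetI false

namespace CfsgLib.Fischer

open CfsgLib.ThreeT CfsgLib.ThreeT.Prod CfsgLib.ThreeT.Tv

universe u

/-- The sum of six squares, as a function. -/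
def q6 (v : Fin 6 → ZMod 3) : ZMod 3 :=
  v 0 * v 0 + (v 1 * v 1 + v 2 * v 2 + v 3 * v 3 + v 4 * v 4 + v 5 * v 5)

theorem q6_eq (v : Fin 6 → ZMod 3) : extQ five v = q6 v := by
  rw [extQ_apply, five_apply]; rfl

theorem q6_card : (Finset.univ.filter fun v : Fin 6 → ZMod 3 => q6 v = 1).card = 252 := by decide +kernel

theorem RC.ncard_two {G : Type u} [Group G] [Finite G] {S : Set G} {n : ℕ}
    {Q : QuadraticForm (ZMod 3) (Fin n → ZMod 3)} {φ : G → Fin n → ZMod 3} (f : RC S Q φ) :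
    2 * S.ncard = Nat.card {v : Fin n → ZMod 3 // Q v = 1} := by
  have h := Nat.card_eq_of_bijective (fun p : S × Bool => (⟨if p.2 then φ p.1.1 else -φ p.1.1, by
    split_ifs
    · exact f.norm _ p.1.2
    · rw [q_neg]; exact f.norm _ p.1.2⟩ : {v : Fin n → ZMod 3 // Q v = 1})) ⟨?_, ?_⟩
  · rw [← h, Nat.card_prod, Nat.card_coe_set_eq, Nat.card_eq_fintype_card (α := Bool), Fintype.card_bool, mul_comm]
  · rintro ⟨⟨x, hx⟩, i⟩ ⟨⟨y, hy⟩, j⟩ e
    simp only [Subtype.mk.injEq] at e
    have hne : φ x ≠ -φ x := fun q => f.ne_zero hx (funext fun k => by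
      have := congrFun q k; revert this; simp only [Pi.neg_apply, Pi.zero_apply]
      generalize φ x k = s; revert s; decide)
    cases i <;> cases j <;> simp at e
    · obtain rfl := f.inj x hx y hy (Or.inl e); rfl
    · obtain rfl := f.inj x hx y hy (Or.inr (by rw [← e, neg_neg])); exact absurd e.symm hne
    · obtain rfl := f.inj x hx y hy (Or.inr e); exact absurd e hne
    · obtain rfl := f.inj x hx y hy (Or.inl e); rfl
  · rintro ⟨v, hv⟩
    obtain ⟨x, hx, e | e⟩ := f.surj v hv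
    · exact ⟨⟨⟨x, hx⟩, true⟩, Subtype.ext (by simpa using e)⟩
    · exact ⟨⟨⟨x, hx⟩, false⟩, Subtype.ext (by simp [e])⟩

variable {G : Type u} [Group G] [Finite G] {D : Set G}

theorem six_component (h : Fi D) (hloc : ∀ a ∈ D, UCo (nb D a) 6) {d c a : G} (hd : d ∈ D) (hc : c ∈ D)
    (hdc : ¬ Commute d c) (ha : a ∈ tri D d c) :
    (comp (tri D d c) a).ncard = 126 ∧ RCo (comp (tri D d c) a) 6 1 := by
  obtain ⟨htw, hfi, hl⟩ := uni_component (n := 4) h hloc le_rfl hd hc hdc ha
  set C := comp (tri D d c) a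
  have hS : Closed C := comp_closed (h.closed.tri d c) a
  have chart : ∀ x ∈ qimg C, ∃ χ, RC (nb (qimg C) x) five χ := fun x hx => by
    obtain ⟨K, i1, i2, hK, φ, f⟩ := hl x hx
    obtain ⟨W⟩ := exists_wt hK
    exact uni_four_refl W f (hfi.nb_closed x)
  obtain ⟨x, hx, -⟩ := hfi.width
  obtain ⟨χ, g⟩ := chart x hx
  obtain ⟨Ψ, gΨ⟩ := step_refl_at (n := 5) (μ := 2) hfi
    (fun y hy => ⟨five, five_nondeg, five_det, chart y hy⟩) le_rfl hx five_nondeg g
  have g2 := gΨ.comp (SIso.qmap hS htw)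
  refine ⟨?_, extQ five, extQ_nondeg five_nondeg, by rw [extQ_det, five_det]; rfl, _, g2⟩
  have h2 := g2.ncard_two
  have e : Nat.card {v : Fin 6 → ZMod 3 // extQ five v = 1} = 252 := by
    rw [Nat.card_congr (Equiv.subtypeEquivRight fun v => by rw [q6_eq] : _ ≃ {v : Fin 6 → ZMod 3 // q6 v = 1}),
      Nat.card_eq_fintype_card, Fintype.card_subtype, q6_card]
  rw [e] at h2
  omega

theorem six_far (hloc : ∀ a ∈ D, UCo (nb D a) 6) (h : Fi D) {d a : G} (hd : d ∈ D) (ha : a ∈ nb D d) :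
    {z | z ∈ D ∧ ¬ Commute d z ∧ Commute a z}.ncard = 512 := by
  obtain ⟨K, i1, i2, hK, φ, f⟩ := hloc a ha.1
  obtain ⟨W⟩ := exists_wt hK
  have hSa := h.nb_closed a
  have hda : d ∈ nb D a := ⟨hd, ha.2.1.symm, ha.2.2.symm⟩
  have h1 := f.ncard_all W
  have h2 := f.ncard_perp W (m := 4) rfl (f.nz d hda) (f.iso d hda)
  rw [(numLen_vals W).2.2] at h1
  rw [(numLen_vals W).2.1] at h2
  have e : {z | z ∈ D ∧ ¬ Commute d z ∧ Commute a z} =
      nb D a \ {x | x ∈ nb D a ∧ Cfsg.hermForm 6 K 2 (φ x) (φ d) = 0} := by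
    ext z
    constructor
    · rintro ⟨hz, hdz, haz⟩
      have hz' : z ∈ nb D a := ⟨hz, fun q => hdz (q ▸ ha.2.2), haz⟩
      exact ⟨hz', fun q => hdz ((f.com_iff W hSa hz' hda).2 q.2).symm⟩
    · rintro ⟨hz, hn⟩
      exact ⟨hz.1, fun q => hn ⟨hz, (f.com_iff W hSa hz hda).1 q.symm⟩, hz.2.2⟩
  rw [e, Set.ncard_sdiff (fun x hx => hx.1) (Set.toFinite _)]
  omega

/-- Unitary neighbourhoods of dimension six: type M(22). -/
theorem uni_six (h : Fi D) (hloc : ∀ a ∈ D, UCo (nb D a) 6) : T22 D := by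
  classical
  haveI := Fintype.ofFinite G
  refine ⟨hloc, fun d hd c hc hdc => ?_⟩
  set T := tri D d c
  have hT : Closed T := h.closed.tri d c
  have hcomp : ∀ a ∈ T, (comp T a).ncard = 126 ∧ RCo (comp T a) 6 1 := fun a ha => six_component h hloc hd hc hdc ha
  -- the components
  obtain ⟨J, hJ, hTj⟩ := comp_ncard fun a ha => (hcomp a ha).1
  obtain ⟨K, i1, i2, hK, φ, f⟩ := hloc d hd
  obtain ⟨W⟩ := exists_wt hK
  have h693 := f.ncard_all W
  rw [(numLen_vals W).2.2] at h693
  have hdouble := double_count h hd hc hdc fun a ha => six_far hloc h hd ha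
  have hsub : T.ncard ≤ (nb D d).ncard := Set.ncard_le_ncard (fun x hx => hx.1) (Set.toFinite _)
  obtain ⟨a, ha⟩ := h.tri_nonempty hd hc hdc
  -- conjugation by a member fixes its component only
  have hodd : ((J.erase (comp T a)).card : ZMod 2) = 0 := by
    have himg : ∀ x ∈ T, (fun y => a * y * a) '' comp T x = comp T (a * x * a) := by
      intro x hx
      ext y
      constructor
      · rintro ⟨y, hy, rfl⟩
        exact ⟨hT.conj a ha y hy.1, hy.2.conj hT ha⟩
      · intro hy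
        refine ⟨a * y * a, ⟨hT.conj a ha y hy.1, ?_⟩, hT.conj_conj ha y⟩
        have := hy.2.conj hT ha
        rwa [hT.conj_conj ha] at this
    have hmem : ∀ C ∈ J.erase (comp T a), ∃ x ∈ T, C = comp T x ∧ a ∉ comp T x := by
      intro C hC
      obtain ⟨hne, hC⟩ := Finset.mem_erase.1 hC
      obtain ⟨x, hx, rfl⟩ := (hJ _).1 hC
      exact ⟨x, hx, rfl, fun q => hne (comp_eq q).symm⟩
    rw [Finset.card_eq_sum_ones, Nat.cast_sum]
    refine Finset.sum_involution (fun C _ => (fun y => a * y * a) '' C) (fun C hC => by decide) (fun C hC _ e => ?_)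
      (fun C hC => ?_) (fun C hC => ?_)
    · obtain ⟨x, hx, rfl, hax⟩ := hmem C hC
      rw [himg x hx] at e
      have hfar : ¬ Commute a x := fun q => hax (comp_step (mem_comp_self hx) ha q.symm)
      have hy : a * x * a ∈ comp T x := e ▸ mem_comp_self (hT.conj a ha x hx)
      rw [hT.braid ha hx hfar] at hy
      refine hax ⟨ha, ?_⟩
      have h1 := hy.2.conj hT hx
      rwa [hT.conj_conj hx, (hT.fix_iff hx x).2 (Commute.refl x)] at h1
    · obtain ⟨x, hx, rfl, hax⟩ := hmem C hC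
      show (fun y => a * y * a) '' comp T x ∈ _
      rw [himg x hx]
      refine Finset.mem_erase.2 ⟨fun e => hax ?_,
        (hJ _).2 ⟨_, hT.conj a ha x hx, rfl⟩⟩
      have h1 : a ∈ comp T (a * x * a) := e ▸ mem_comp_self ha
      refine ⟨ha, ?_⟩
      have h2 := h1.2.conj hT ha
      rwa [hT.conj_conj ha, (hT.fix_iff ha a).2 (Commute.refl a)] at h2
    · show (fun y => a * y * a) '' ((fun y => a * y * a) '' C) = C
      rw [Set.image_image]
      simp [hT.conj_conj ha]
  have haJ : comp T a ∈ J := (hJ _).2 ⟨a, ha, rfl⟩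
  rw [Finset.card_erase_of_mem haJ] at hodd
  have hpos : 0 < J.card := Finset.card_pos.2 ⟨_, haJ⟩
  have h5 : J.card ≤ 5 := by omega
  rw [hTj] at hdouble
  have hone : J.card = 1 := by
    obtain ⟨N, hN⟩ : ∃ N, N = J.card := ⟨_, rfl⟩
    rw [← hN] at hdouble h5 hpos hodd ⊢
    interval_cases N
    · rfl
    · exact absurd hodd (by decide)
    · omega
    · exact absurd hodd (by decide)
    · omega
  have heq : comp T a = T := Set.eq_of_subset_of_ncard_le (comp_subset a) (by
    rw [(hcomp a ha).1, hTj, hone]) (Set.toFinite _)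
  exact heq ▸ (hcomp a ha).2

end CfsgLib.Fischer
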