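import Cfsg.Agent.Fischer.UniFive
import Cfsg.Agent.Fischer.UniSix

/-!
Fischer's theorem: unitary neighbourhoods have dimension six.
-/

set_option autoImplicit false
set_option linter.unusedSectionVars false
set_option linter.style.haveILetI false

namespace CfsgLib.Fischer

open CfsgLib.ThreeT CfsgLib.ThreeT.Prod CfsgLib.ThreeT.Tv CfsgLib.Unitary

universe u

variable {G : Type u} [Group G] [Finite G] {D : Set G}

/-- The number of members. -/
theorem six_ncard (h : Fi D) (hloc : ∀ a ∈ D, UCo (nb D a) 6) : D.ncard = 3510 := by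
  obtain ⟨d, hd, -⟩ := h.width
  obtain ⟨c, hc, hdc⟩ := h.exists_far hd
  obtain ⟨K, i1, i2, hK, φ, f⟩ := hloc d hd
  obtain ⟨W⟩ := exists_wt hK
  have h1 := f.ncard_all W
  rw [(numLen_vals W).2.2] at h1
  have hdouble := double_count h hd hc hdc fun a ha => six_far hloc h hd ha
  obtain ⟨a, ha⟩ := h.tri_nonempty hd hc hdc
  obtain ⟨h126, -⟩ := six_component h hloc hd hc hdc ha
  have hT : (tri D d c).ncard = 126 := by
    obtain ⟨Q, hQ, hμ, ψ, g⟩ := (uni_six h hloc).2 d hd c hc hdc
    have e : comp (tri D d c) a = tri D d c := by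
      refine Set.Subset.antisymm (comp_subset a) fun x hx => ⟨hx, ?_⟩
      have hS := h.closed.tri d c
      by_cases hax : Commute a x
      · exact Link.of_commute ha hx hax
      have hne : a ≠ x := fun q => hax (q ▸ Commute.refl a)
      have hQ' := nd_top hQ
      have h2 := hQ'.perp_aniso (s := ψ a) trivial (by rw [g.norm a ha]; decide)
      set v := ψ x + pb Q (ψ a) (ψ x) • ψ a with hv
      have hv' : v ∈ perp Q ⊤ (ψ a) := ⟨trivial, by
        show pb Q (ψ a) v = 0
        rw [hv, map_add, map_smul, g.self_form ha, smul_eq_mul]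
        generalize pb Q (ψ a) (ψ x) = s; revert s; decide⟩
      have qv : Q v = 0 := by
        have hb : pb Q (ψ a) (ψ x) ≠ 0 := fun q => hax ((g.com_iff hS ha hx hne).2 q)
        rw [hv, sub_comb, g.norm x hx, g.norm a ha, pb_symm Q (ψ x)]
        revert hb
        generalize pb Q (ψ a) (ψ x) = s; revert s; decide
      obtain ⟨y, qy, hay, hxy⟩ : ∃ y, Q y = 1 ∧ pb Q (ψ a) y = 0 ∧ pb Q (ψ x) y = 0 := by
        by_cases hv0 : v = 0
        · refine absurd ?_ hne
          refine g.inj a ha x hx ?_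
          rw [hv] at hv0
          rcases three_cases (pb Q (ψ a) (ψ x)) with r | r | r <;> rw [r] at hv0
          · rw [zero_smul, add_zero] at hv0; exact absurd hv0 (g.ne_zero hx)
          · rw [one_smul] at hv0; exact Or.inr (eq_neg_of_add_eq_zero_right hv0)
          · rw [neg_one_smul, ← sub_eq_add_neg, sub_eq_zero] at hv0; exact Or.inl hv0.symm
        obtain ⟨y, qy, hay, hvy⟩ := exists_x_perp hQ (by norm_num) (g.norm a ha) qv hv0 hv'.2
        refine ⟨y, qy, hay, ?_⟩
        rwa [hv, map_add, map_smul, LinearMap.add_apply, LinearMap.smul_apply, hay, smul_zero, add_zero] at hvy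
      obtain ⟨w, hw, k, hk, ew⟩ := g.exists_rep qy
      exact (Link.of_commute ha hw (g.commute_of_form hS ha hw ((RC.rep_form g hk ew (ψ a)).2 hay))).trans
        (Link.of_commute hw hx (g.commute_of_form hS hw hx
          (by rw [pb_symm]; exact (RC.rep_form g hk ew (ψ x)).2 hxy)))
    rw [← e, h126]
  rw [hT] at hdouble
  rw [ncard_split hd]
  omega

/-- Unitary neighbourhoods of dimension eight do not occur. -/
theorem uni_eight_false (h : Fi D) (hloc : ∀ a ∈ D, UCo (nb D a) 8) : False := by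
  classical
  obtain ⟨d, hd, -⟩ := h.width
  obtain ⟨c, hc, hdc⟩ := h.exists_far hd
  have hcomp : ∀ a ∈ tri D d c, (comp (tri D d c) a).ncard = 3510 := by
    intro a ha
    obtain ⟨htw, hfi, hl⟩ := uni_component (n := 6) h hloc (by norm_num) hd hc hdc ha
    have := six_ncard hfi hl
    rwa [← (qmap_bijOn (comp_closed (h.closed.tri d c) a) htw).image_eq,
      Set.ncard_image_of_injOn (qmap_injOn (comp_closed (h.closed.tri d c) a) htw)] at this
  obtain ⟨J, -, hTj⟩ := comp_ncard hcomp
  obtain ⟨K, i1, i2, hK, φ, f⟩ := hloc d hd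
  obtain ⟨W⟩ := exists_wt hK
  have h8 : numLen K 2 8 0 = 32896 := by
    have := numLen_zero (wt_card W) 8
    norm_num at this
    omega
  have h1 := f.ncard_all W
  rw [h8] at h1
  have hX : ∀ a ∈ nb D d, {z | z ∈ D ∧ ¬ Commute d z ∧ Commute a z}.ncard = 8192 := by
    intro a ha
    obtain ⟨K', i1', i2', hK', ψ, g⟩ := hloc a ha.1
    obtain ⟨W'⟩ := exists_wt hK'
    have hda : d ∈ nb D a := ⟨hd, ha.2.1.symm, ha.2.2.symm⟩
    have g1 := g.ncard_all W'
    have g2 := g.ncard_perp W' (m := 6) rfl (g.nz d hda) (g.iso d hda)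
    have g8 : numLen K' 2 8 0 = 32896 := by
      have := numLen_zero (wt_card W') 8
      norm_num at this
      omega
    rw [g8] at g1
    rw [(numLen_vals W').2.2] at g2
    have e : {z | z ∈ D ∧ ¬ Commute d z ∧ Commute a z} =
        nb D a \ {x | x ∈ nb D a ∧ Cfsg.hermForm 8 K' 2 (ψ x) (ψ d) = 0} := by
      ext z
      constructor
      · rintro ⟨hz, hdz, haz⟩
        have hz' : z ∈ nb D a := ⟨hz, fun q => hdz (q ▸ ha.2.2), haz⟩
        exact ⟨hz', fun q => hdz ((g.com_iff W' (h.nb_closed a) hz' hda).2 q.2).symm⟩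
      · rintro ⟨hz, hn⟩
        exact ⟨hz.1, fun q => hn ⟨hz, (g.com_iff W' (h.nb_closed a) hz hda).1 q.symm⟩, hz.2.2⟩
    rw [e, Set.ncard_sdiff (fun x hx => hx.1) (Set.toFinite _)]
    omega
  have hdouble := double_count h hd hc hdc hX
  rw [hTj, show (nb D d).ncard = 10965 by omega, mul_left_comm] at hdouble
  generalize {z | z ∈ D ∧ ¬ Commute d z}.ncard * J.card = M at hdouble
  omega

/-- Unitary neighbourhoods have dimension six. -/
theorem uni_dim : ∀ n : ℕ, ∀ {G : Type u} [Group G] [Finite G] {D : Set G}, Fi D →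
    (∀ a ∈ D, UCo (nb D a) n) → 5 ≤ n → n = 6 := by
  intro n
  induction n using Nat.strong_induction_on with
  | _ n ih =>
    intro G _ _ D h hloc hn
    by_contra h6
    by_cases h5 : n = 5
    · subst h5; exact uni_five_false h hloc
    by_cases h8 : n = 8
    · subst h8; exact uni_eight_false h hloc
    obtain ⟨m, rfl⟩ : ∃ m, n = m + 2 := ⟨n - 2, by omega⟩
    obtain ⟨d, hd, -⟩ := h.width
    obtain ⟨c, hc, hdc⟩ := h.exists_far hd
    obtain ⟨a, ha⟩ := h.tri_nonempty hd hc hdc
    obtain ⟨-, hfi, hl⟩ := uni_component (n := m) h hloc (by omega) hd hc hdc ha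
    have := ih m (by omega) hfi hl (by omega)
    omega

/-- Unitary neighbourhoods give the conditions of type M(22). -/
theorem step_uni {n : ℕ} (h : Fi D) (hloc : ∀ a ∈ D, UCo (nb D a) n) (hn : 5 ≤ n) : T22 D := by
  obtain rfl := uni_dim n h hloc hn
  exact uni_six h hloc

end CfsgLib.Fischer
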