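import Cfsg.Agent.Fischer.CompShape
import Mathlib.GroupTheory.Perm.Cycle.Type

/-!
Fischer's theorem: the components form a Steiner triple system.
-/

set_option autoImplicit false
set_option linter.unusedSectionVars false

namespace CfsgLib.Fischer

open CfsgLib.ThreeT CfsgLib.ThreeT.Prod

universe u

variable {G : Type u} [Group G] [Finite G] {S : Set G}

theorem comp_op (hS : Closed S) {x x' y : G} (hx : x ∈ S) (hx' : x' ∈ S) (hy : y ∈ S)
    (he : comp S x' = comp S x) (hne : comp S x ≠ comp S y) :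
    comp S (x' * y * x') = comp S (x * y * x) := by
  rw [hS.braid hx' hy (comp_far hS hx' hy (he ▸ hne)), hS.braid hx hy (comp_far hS hx hy hne),
    ← comp_image hS hy hx', he, comp_image hS hy hx]

/-- The ordered pairs of components fall into cycles of length three. -/
theorem comp_three_dvd (hS : Closed S) (J : Finset (Set G)) (hJ : ∀ C, C ∈ J ↔ ∃ a ∈ S, comp S a = C) :
    3 ∣ J.card * J.card - J.card := by
  classical
  haveI : Fact (Nat.Prime 3) := ⟨by norm_num⟩
  choose r hr her using fun C (hC : C ∈ J) => (hJ C).1 hC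
  let P := {p : Set G × Set G // p ∈ J.offDiag}
  have mem1 : ∀ p : P, p.1.1 ∈ J := fun p => (Finset.mem_offDiag.1 p.2).1
  have mem2 : ∀ p : P, p.1.2 ∈ J := fun p => (Finset.mem_offDiag.1 p.2).2.1
  let f : P → P := fun p => ⟨(p.1.2, comp S (r _ (mem1 p) * r _ (mem2 p) * r _ (mem1 p))), by
    have hne : comp S (r _ (mem1 p)) ≠ comp S (r _ (mem2 p)) := by
      rw [her, her]; exact (Finset.mem_offDiag.1 p.2).2.2
    refine Finset.mem_offDiag.2 ⟨mem2 p, (hJ _).2 ⟨_, hS.conj _ (hr _ _) _ (hr _ _), rfl⟩, fun e => ?_⟩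
    exact (comp_moves hS (hr _ _) (hr _ _) hne).1 ((her _ (mem2 p)).trans e).symm⟩
  have hval : ∀ (x y : G), x ∈ S → y ∈ S → comp S x ≠ comp S y → ∀ p : P, p.1 = (comp S x, comp S y) →
      (f p).1 = (comp S y, comp S (x * y * x)) := by
    intro x y hx hy hne p hp
    show (p.1.2, comp S (r _ (mem1 p) * r _ (mem2 p) * r _ (mem1 p))) = _
    have h1 : comp S (r _ (mem1 p)) = comp S x := (her _ _).trans (congrArg Prod.fst hp)
    have h2 : comp S (r _ (mem2 p)) = comp S y := (her _ _).trans (congrArg Prod.snd hp)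
    refine Prod.ext (congrArg Prod.snd hp) ?_
    show comp S _ = _
    rw [comp_op hS hx (hr _ _) (hr _ _) h1 (h2.symm ▸ hne), ← comp_image hS hx (hr _ _), h2, comp_image hS hx hy]
  have h3 : ∀ p : P, f (f (f p)) = p := by
    rintro ⟨⟨A, B⟩, hp⟩
    obtain ⟨hA, hB, hAB⟩ := Finset.mem_offDiag.1 hp
    obtain ⟨x, hx, rfl⟩ := (hJ A).1 hA
    obtain ⟨y, hy, rfl⟩ := (hJ B).1 hB
    obtain ⟨m1, m2⟩ := comp_moves hS hx hy hAB
    have hz := hS.conj x hx y hy
    have hfar := comp_far hS hx hy hAB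
    have e1 := hval x y hx hy hAB ⟨(comp S x, comp S y), hp⟩ rfl
    have e2 := hval y (x * y * x) hy hz (Ne.symm m1) _ e1
    rw [hS.braid hx hy hfar, hS.conj_conj hy, ← hS.braid hx hy hfar] at e2
    have e3 := hval (x * y * x) x hz hx m2 _ e2
    rw [hS.braid hz hx (comp_far hS hz hx m2), hS.conj_conj hx] at e3
    exact Subtype.ext e3
  have hfree : ∀ p : P, f p ≠ p := by
    intro p e
    exact (Finset.mem_offDiag.1 p.2).2.2 (congrArg (fun q : P => q.1.1) e).symm
  have hmod := Equiv.Perm.card_fixedPoints_modEq (p := 3) (n := 1) (f := (f : Function.End P))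
    (by
      simp only [pow_one, pow_succ, pow_zero, one_mul]
      funext p
      exact h3 p)
  have h0 : Fintype.card (Function.fixedPoints f) = 0 :=
    Fintype.card_eq_zero_iff.2 ⟨fun p => hfree p.1 p.2⟩
  rw [h0, Fintype.card_coe, Finset.offDiag_card] at hmod
  exact (Nat.modEq_zero_iff_dvd.1 hmod)

end CfsgLib.Fischer
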