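import Mathlib.Analysis.Real.Sqrt
import Mathlib.LinearAlgebra.Trace
import Mathlib.LinearAlgebra.Matrix.ToLin
import Mathlib.Data.Real.Basic

/-!
Fischer's theorem: no strongly regular graph with parameters (857464, 31671, 3510, 1080).
-/

set_option autoImplicit false
set_option linter.unusedSimpArgs false

open Matrix

namespace CfsgLib.Fischer

variable {ι : Type*} [Fintype ι] [DecidableEq ι]

/-- The trace of an idempotent real matrix is a natural number. -/
theorem trace_idem (E : Matrix ι ι ℝ) (h : E * E = E) : ∃ n : ℕ, E.trace = n := by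
  have hproj : LinearMap.IsProj (LinearMap.range (Matrix.toLin' E)) (Matrix.toLin' E) :=
    ⟨fun x => ⟨x, rfl⟩, by
      rintro _ ⟨y, rfl⟩
      rw [← LinearMap.comp_apply, ← Matrix.toLin'_mul, h]⟩
  exact ⟨Module.finrank ℝ (LinearMap.range (Matrix.toLin' E)), by rw [← hproj.trace, Matrix.trace_toLin'_eq]⟩

/-- A matrix with square a multiple of a projection has trace a multiple of the root. -/
theorem trace_root (M P : Matrix ι ι ℝ) {s : ℝ} (hs : s ≠ 0) (hPP : P * P = P) (hMP : M * P = M) (hPM : P * M = M)
    (hMM : M * M = (s * s) • P) : ∃ z : ℤ, M.trace = s * z := by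
  have key : ∀ e : ℝ, e * e = 1 → ((1 / 2 : ℝ) • (P + (e / s) • M)) * ((1 / 2 : ℝ) • (P + (e / s) • M)) =
      (1 / 2 : ℝ) • (P + (e / s) • M) := by
    intro e he
    simp only [Matrix.smul_mul, Matrix.mul_smul, add_mul, mul_add, hPP, hMP, hPM, hMM, smul_add, smul_smul]
    match_scalars <;> field_simp
    all_goals (try ring_nf); all_goals (try linear_combination he); all_goals (try linear_combination -he)
  obtain ⟨a, ha⟩ := trace_idem _ (key 1 (one_mul 1))
  obtain ⟨b, hb⟩ := trace_idem _ (key (-1) (by norm_num))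
  simp only [Matrix.trace_smul, Matrix.trace_add, smul_eq_mul] at ha hb
  refine ⟨(a : ℤ) - b, ?_⟩
  push_cast
  rw [← ha, ← hb]
  field_simp
  ring

/-- The parameters are impossible. -/
theorem srg_false (adj : ι → ι → Prop) [DecidableRel adj] (hcard : Fintype.card ι = 857464)
    (hirr : ∀ a, ¬ adj a a) (hsym : ∀ a b, adj a b → adj b a)
    (hk : ∀ a, (Finset.univ.filter fun y => adj a y).card = 31671)
    (hl : ∀ a b, adj a b → (Finset.univ.filter fun y => adj a y ∧ adj y b).card = 3510)
    (hm : ∀ a b, a ≠ b → ¬ adj a b → (Finset.univ.filter fun y => adj a y ∧ adj y b).card = 1080) : False := by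
  let A : Matrix ι ι ℝ := Matrix.of fun i j => if adj i j then 1 else 0
  let J : Matrix ι ι ℝ := Matrix.of fun _ _ => 1
  have hAJ : A * J = (31671 : ℝ) • J := by
    ext i j
    simp [Matrix.mul_apply, A, J, ← Finset.sum_filter, hk i]
  have hJA : J * A = (31671 : ℝ) • J := by
    ext i j
    have : (Finset.univ.filter fun y => adj y j).card = 31671 := by
      rw [← hk j]
      exact congrArg _ (Finset.filter_congr fun y _ => ⟨hsym y j, hsym j y⟩)
    simp [Matrix.mul_apply, A, J, ← Finset.sum_filter, this]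
  have hJJ : J * J = (857464 : ℝ) • J := by
    ext i j
    simp [Matrix.mul_apply, J, hcard]
  have hAA : A * A = (30591 : ℝ) • (1 : Matrix ι ι ℝ) + (2430 : ℝ) • A + (1080 : ℝ) • J := by
    ext i j
    have e : (A * A) i j = ((Finset.univ.filter fun y => adj i y ∧ adj y j).card : ℝ) := by
      rw [← Finset.sum_boole, Matrix.mul_apply]
      refine Finset.sum_congr rfl fun y _ => ?_
      by_cases h1 : adj i y <;> by_cases h2 : adj y j <;> simp [A, h1, h2]
    rw [e]
    simp only [Matrix.add_apply, Matrix.smul_apply, smul_eq_mul, A, J, Matrix.of_apply]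
    by_cases hij : i = j
    · subst hij
      have : (Finset.univ.filter fun y => adj i y ∧ adj y i).card = 31671 := by
        rw [← hk i]
        exact congrArg _ (Finset.filter_congr fun y _ => ⟨fun h => h.1, fun h => ⟨h, hsym _ _ h⟩⟩)
      rw [this]
      simp [hirr]
      norm_num
    · by_cases ha : adj i j
      · rw [hl i j ha]
        simp [ha, hij, Matrix.one_apply]
        norm_num
      · rw [hm i j hij ha]
        simp [ha, hij, Matrix.one_apply]
  set s := Real.sqrt 6027264 with hs
  have hs2 : s * s = 6027264 := Real.mul_self_sqrt (by norm_num)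
  have hs0 : s ≠ 0 := fun e => by rw [e] at hs2; norm_num at hs2
  let M : Matrix ι ι ℝ := (2 : ℝ) • A + (-2430 : ℝ) • (1 : Matrix ι ι ℝ) + (-60912 / 857464 : ℝ) • J
  let P : Matrix ι ι ℝ := (1 : Matrix ι ι ℝ) + (-1 / 857464 : ℝ) • J
  obtain ⟨z, hz⟩ := trace_root M P hs0
    (by simp only [P, add_mul, mul_add, Matrix.smul_mul, Matrix.mul_smul, mul_one, one_mul, hJJ, smul_add, smul_smul]
        match_scalars <;> norm_num)
    (by simp only [M, P, add_mul, mul_add, Matrix.smul_mul, Matrix.mul_smul, mul_one, one_mul, hAJ, hJJ, smul_add,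
          smul_smul]
        match_scalars <;> norm_num)
    (by simp only [M, P, add_mul, mul_add, Matrix.smul_mul, Matrix.mul_smul, mul_one, one_mul, hJA, hJJ, smul_add,
          smul_smul]
        match_scalars <;> norm_num)
    (by rw [hs2]
        simp only [M, P, add_mul, mul_add, Matrix.smul_mul, Matrix.mul_smul, mul_one, one_mul, hAA, hAJ, hJA, hJJ,
          smul_add, smul_smul]
        match_scalars <;> norm_num)
  have htA : A.trace = 0 := by simp [Matrix.trace, A, hirr]
  have htJ : J.trace = (857464 : ℝ) := by simp [Matrix.trace, J, hcard]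
  have ht : M.trace = -2083698432 := by
    simp only [M, Matrix.trace_add, Matrix.trace_smul, Matrix.trace_one, htA, htJ, hcard, smul_eq_mul]
    norm_num
  rw [ht] at hz
  have h2 : (2083698432 : ℝ) ^ 2 = 6027264 * (z : ℝ) ^ 2 := by
    rw [← neg_sq, hz, mul_pow, ← hs2]
    ring
  have h3 : ((2083698432 : ℤ) ^ 2 : ℤ) = 6027264 * z ^ 2 := by exact_mod_cast h2
  have hd : (6027264 : ℤ) ∣ 2083698432 ^ 2 := ⟨z ^ 2, h3⟩
  norm_num at hd

end CfsgLib.Fischer
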