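import Cfsg.Agent.Fischer.TwentyTwo
import Cfsg.Agent.Fischer.CompThree
import Cfsg.Agent.Fischer.Srg

/-!
Fischer's theorem: neighbourhoods of type M(23) give the conditions of type M(24).
-/

set_option autoImplicit false
set_option linter.unusedSectionVars false
set_option linter.style.haveILetI false

namespace CfsgLib.Fischer

open CfsgLib.ThreeT CfsgLib.ThreeT.Prod CfsgLib.ThreeT.Tv

universe u

variable {G : Type u} [Group G] [Finite G] {D : Set G}

/-- Members of a graph counted on the type of vertices. -/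
theorem filter_card {R : Set G} (hR : R ⊆ D) [Fintype D] (P : D → Prop) [DecidablePred P]
    (hP : ∀ y : D, P y ↔ (y : G) ∈ R) : (Finset.univ.filter P).card = R.ncard := by
  rw [← Set.ncard_coe_finset, ← Set.ncard_image_of_injective _ Subtype.val_injective]
  congr 1
  ext x
  simp only [Set.mem_image, Finset.coe_filter, Finset.mem_univ, true_and, Set.mem_setOf_eq]
  exact ⟨fun ⟨y, hy, e⟩ => e ▸ (hP y).1 hy, fun hx => ⟨⟨x, hR hx⟩, (hP _).2 hx, rfl⟩⟩

/-- Neighbourhoods of type M(22) satisfy the hypothesis again. -/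
theorem t22_good (h : Fi D) (hloc : ∀ a ∈ D, T22 (nb D a)) {a : G} (ha : a ∈ D) :
    NoTwins (nb D a) ∧ Fi (qimg (nb D a)) := by
  have htw := uni_notwins (h.nb_closed a) (by norm_num) (hloc a ha).1
  obtain ⟨b, hb⟩ := h.exists_near ha
  obtain ⟨c, hc⟩ := uco_nonempty (by norm_num) ((hloc a ha).1 b hb)
  have he : Edge (nb D a) := ⟨b, hb, c, hc.1, hc.2.1.symm, hc.2.2⟩
  exact ⟨htw, fi_quot (h.nb_closed a) htw (h.nb_conn ha htw he) (h.nb_oneClass ha) he⟩

/-- Far members commuting with a neighbour. -/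
theorem t22_far (h : Fi D) (hloc : ∀ a ∈ D, T22 (nb D a)) {d a : G} (hd : d ∈ D) (ha : a ∈ nb D d) :
    {z | z ∈ D ∧ ¬ Commute d z ∧ Commute a z}.ncard = 2816 := by
  have hda : d ∈ nb D a := ⟨hd, ha.2.1.symm, ha.2.2.symm⟩
  obtain ⟨K, i1, i2, hK, φ, f⟩ := (hloc a ha.1).1 d hda
  obtain ⟨W⟩ := exists_wt hK
  have h693 := f.ncard_all W
  rw [(numLen_vals W).2.2] at h693
  have hs := ncard_split (D := nb D a) hda
  rw [t22_ncard (h.nb_closed a) (t22_good h hloc ha.1).1 (t22_good h hloc ha.1).2 (hloc a ha.1)] at hs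
  have e : {z | z ∈ D ∧ ¬ Commute d z ∧ Commute a z} = {z | z ∈ nb D a ∧ ¬ Commute d z} := by
    ext z
    exact ⟨fun q => ⟨⟨q.1, fun e => q.2.1 (e ▸ ha.2.2), q.2.2⟩, q.2.1⟩, fun q => ⟨q.1.1, q.2, q.1.2.2⟩⟩
  rw [e]
  omega

/-- The numbers of a group of type M(23). -/
theorem t23_vals (h : Fi D) (ht : T23 D) :
    D.ncard = 31671 ∧ ∀ a ∈ D, (nb D a).ncard = 3510 := by
  have hnb : ∀ a ∈ D, (nb D a).ncard = 3510 := fun a ha =>
    t22_ncard (h.nb_closed a) (t22_good h ht.1 ha).1 (t22_good h ht.1 ha).2 (ht.1 a ha)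
  refine ⟨?_, hnb⟩
  obtain ⟨d, hd, -⟩ := h.width
  obtain ⟨c, hc, hdc⟩ := h.exists_far hd
  have hd2 := double_count h hd hc hdc fun a ha => t22_far h ht.1 hd ha
  have hT : 2 * (tri D d c).ncard = sqCount 7 1 := (ht.2 d hd c hc hdc).ncard (by decide)
  rw [sqCount_vals.2.1] at hT
  have hs := ncard_split hd
  rw [hnb d hd] at hs hd2
  rw [show (tri D d c).ncard = 351 by omega] at hd2
  omega

/-- The numbers of a set of type M(23). -/
theorem t23_ncard {S : Set G} (hS : Closed S) (htw : NoTwins S) (hfi : Fi (qimg S)) (h : T23 S) :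
    S.ncard = 31671 ∧ ∀ b ∈ S, (nb S b).ncard = 3510 := by
  obtain ⟨ψ, g, -⟩ := (SIso.qmap hS htw).symm hS
  obtain ⟨h1, h2⟩ := t23_vals hfi (h.comp g)
  refine ⟨(qimg_ncard hS htw).symm.trans h1, fun b hb => ?_⟩
  rw [((SIso.qmap hS htw).nb hb).bij.ncard_eq]
  exact h2 _ ((SIso.qmap hS htw).bij.mapsTo hb)

/-- Neighbourhoods of type M(23) give the conditions of type M(24). -/
theorem step_t23 (h : Fi D) (hloc : ∀ a ∈ D, T23 (nb D a))
    (hgood : ∀ a ∈ D, NoTwins (nb D a) ∧ Fi (qimg (nb D a))) : T24 D := by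
  classical
  refine ⟨hloc, fun d hd c hc hdc => ?_⟩
  have hval : ∀ a ∈ D, (nb D a).ncard = 31671 ∧ ∀ b ∈ nb D a, (nb (nb D a) b).ncard = 3510 := fun a ha =>
    t23_ncard (h.nb_closed a) (hgood a ha).1 (hgood a ha).2 (hloc a ha)
  have hX : ∀ a ∈ nb D d, {z | z ∈ D ∧ ¬ Commute d z ∧ Commute a z}.ncard = 28160 := by
    intro a ha
    have hda : d ∈ nb D a := ⟨hd, ha.2.1.symm, ha.2.2.symm⟩
    have hs := ncard_split (D := nb D a) hda
    rw [(hval a ha.1).1, (hval a ha.1).2 d hda] at hs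
    have e : {z | z ∈ D ∧ ¬ Commute d z ∧ Commute a z} = {z | z ∈ nb D a ∧ ¬ Commute d z} := by
      ext z
      exact ⟨fun q => ⟨⟨q.1, fun e => q.2.1 (e ▸ ha.2.2), q.2.2⟩, q.2.1⟩, fun q => ⟨q.1.1, q.2, q.1.2.2⟩⟩
    rw [e]
    omega
  set T := tri D d c with hTdef
  have hT : Closed T := h.closed.tri d c
  have hlocT : ∀ a ∈ T, RCo (nb T a) 7 (-1) := by
    intro a ha
    rw [nb_tri_eq hdc ha]
    exact (hloc a ha.1.1).2 d ⟨hd, ha.1.2.1.symm, ha.1.2.2.symm⟩ c ⟨hc, fun q => hdc (q ▸ ha.1.2.2), ha.2⟩ hdc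
  have hcomp : ∀ a ∈ T, (comp T a).ncard = 1080 ∧ RCo (comp T a) 8 1 := by
    intro a ha
    obtain ⟨htw, hfi, hl⟩ := refl_component hT (by norm_num) hlocT ha
    have h8 := (step_refl hfi hl (by norm_num)).comp (SIso.qmap (comp_closed hT a) htw)
    rw [show (2 : ZMod 3) * -1 = 1 from rfl] at h8
    have := h8.ncard (by decide)
    rw [sqCount_vals.2.2] at this
    exact ⟨by omega, h8⟩
  obtain ⟨J, hJ, hTj⟩ := comp_ncard fun a ha => (hcomp a ha).1
  have hsub : T.ncard ≤ (nb D d).ncard := Set.ncard_le_ncard (fun x hx => hx.1) (Set.toFinite _)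
  have hdouble := double_count h hd hc hdc hX
  obtain ⟨a₀, ha₀⟩ := h.tri_nonempty hd hc hdc
  obtain ⟨⟨k, hk⟩, h5⟩ := comp_shape hT J hJ ⟨a₀, ha₀⟩
  have h3 := comp_three_dvd hT J hJ
  rw [(hval d hd).1] at hdouble hsub
  rw [hTj] at hdouble hsub
  have hcases : J.card = 1 ∨ J.card = 3 := by
    obtain ⟨N, hN⟩ : ∃ N, N = J.card := ⟨_, rfl⟩
    rw [← hN] at hdouble hsub hk h5 h3 ⊢
    have : k ≤ 14 := by omega
    interval_cases k <;> subst hk <;> omega
  rcases hcases with h1 | h3'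
  · exfalso
    have hF : {z | z ∈ D ∧ ¬ Commute d z}.ncard = 825792 := by
      rw [h1] at hdouble
      omega
    have hs := ncard_split hd
    rw [(hval d hd).1, hF] at hs
    haveI := Fintype.ofFinite D
    refine srg_false (fun x y : D => x ≠ y ∧ Commute (x : G) y) ?_ (fun x q => q.1 rfl)
      (fun x y q => ⟨q.1.symm, q.2.symm⟩) (fun x => ?_) (fun x y q => ?_) (fun x y hne q => ?_)
    · rw [← Nat.card_eq_fintype_card, Nat.card_coe_set_eq]
      omega
    · rw [filter_card (R := nb D x) (fun z hz => hz.1) _ fun z => ?_, (hval _ x.2).1]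
      exact ⟨fun p => ⟨z.2, fun e => p.1 (Subtype.ext e.symm), p.2⟩,
        fun p => ⟨fun e => p.2.1 (congrArg Subtype.val e.symm), p.2.2⟩⟩
    · have hy : (y : G) ∈ nb D x := ⟨y.2, fun e => q.1 (Subtype.ext e.symm), q.2⟩
      rw [filter_card (R := nb (nb D x) y) (fun z hz => hz.1.1) _ fun z => ?_, (hval _ x.2).2 _ hy]
      exact ⟨fun p => ⟨⟨z.2, fun e => p.1.1 (Subtype.ext e.symm), p.1.2⟩, fun e => p.2.1 (Subtype.ext e), p.2.2.symm⟩,
        fun p => ⟨⟨fun e => p.1.2.1 (congrArg Subtype.val e.symm), p.1.2.2⟩,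
          fun e => p.2.1 (congrArg Subtype.val e), p.2.2.symm⟩⟩
    · have hxy : ¬ Commute (x : G) y := fun c => q ⟨hne, c⟩
      rw [filter_card (R := tri D x y) (fun z hz => hz.1.1) _ fun z => ?_,
        h.tri_ncard x.2 y.2 hxy hd hc hdc, ← hTdef, hTj, h1]
      exact ⟨fun p => ⟨⟨z.2, fun e => p.1.1 (Subtype.ext e.symm), p.1.2⟩, p.2.2⟩,
        fun p => ⟨⟨fun e => p.1.2.1 (congrArg Subtype.val e.symm), p.1.2.2⟩,
          fun e => hxy (e ▸ p.1.2.2), p.2⟩⟩
  · obtain ⟨A, B, C, hAB, hAC, hBC, rfl⟩ := Finset.card_eq_three.1 h3'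
    have hmem : ∀ i, (![A, B, C] : Fin 3 → Set G) i ∈ ({A, B, C} : Finset (Set G)) := by
      intro i
      fin_cases i <;> simp
    refine ⟨![A, B, C], ?_, fun i => ?_, fun i x hx y hy _ => ?_, fun i j hij x hx y hy => ?_⟩
    · ext x
      refine ⟨fun hx => ?_, fun hx => ?_⟩
      · have := (hJ (comp T x)).2 ⟨x, hx, rfl⟩
        simp only [Finset.mem_insert, Finset.mem_singleton] at this
        rcases this with e | e | e
        · exact Or.inl (Or.inl (show x ∈ A from e ▸ mem_comp_self hx))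
        · exact Or.inl (Or.inr (show x ∈ B from e ▸ mem_comp_self hx))
        · exact Or.inr (show x ∈ C from e ▸ mem_comp_self hx)
      · rcases hx with (hx | hx) | hx
        · obtain ⟨a, -, e⟩ := (hJ A).1 (hmem 0)
          exact comp_subset a (e ▸ hx : x ∈ comp T a)
        · obtain ⟨a, -, e⟩ := (hJ B).1 (hmem 1)
          exact comp_subset a (e ▸ hx : x ∈ comp T a)
        · obtain ⟨a, -, e⟩ := (hJ C).1 (hmem 2)
          exact comp_subset a (e ▸ hx : x ∈ comp T a)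
    · obtain ⟨a, ha, e⟩ := (hJ _).1 (hmem i)
      exact e ▸ (hcomp a ha).2
    · obtain ⟨a, ha, e⟩ := (hJ _).1 (hmem i)
      rw [← e] at hx hy ⊢
      exact (comp_closed hT a).conj x hx y hy
    · obtain ⟨a, ha, e⟩ := (hJ _).1 (hmem i)
      obtain ⟨b, hb, e'⟩ := (hJ _).1 (hmem j)
      rw [← e] at hx
      rw [← e'] at hy
      refine comp_far hT hx.1 hy.1 ?_
      rw [comp_eq hx, comp_eq hy, e, e']
      intro he
      fin_cases i <;> fin_cases j <;> simp_all

end CfsgLib.Fischer
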