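import Cfsg.Agent.Spor3T.Tv.Weight
import Cfsg.Agent.Unitary.Decompose

/-!
Fischer's theorem: hermitian spaces over four elements.
-/

set_option autoImplicit false
set_option linter.unusedSectionVars false
set_option linter.style.haveILetI false

namespace CfsgLib.Fischer

open CfsgLib.ThreeT.Tv

variable {K : Type} [Field K] [Finite K] (W : Wt K) {n : ℕ}

local notation "hh" => Cfsg.hermForm n K 2

include W

theorem wt_card : Nat.card K = 2 ^ 2 := W.card inferInstance

theorem hh_zero_left (u : Fin n → K) : hh 0 u = 0 := by simp [Cfsg.hermForm]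

theorem hh_zero_right (u : Fin n → K) : hh u 0 = 0 := by simp [Cfsg.hermForm]

theorem hh_single (u : Fin n → K) (i : Fin n) : hh u (Pi.single i 1) = u i := by
  rw [Cfsg.hermForm, Finset.sum_eq_single i (fun j _ hj => by simp [Pi.single_eq_of_ne hj])
    fun e => absurd (Finset.mem_univ _) e, Pi.single_eq_same, one_pow, mul_one]

theorem hh_ext {u : Fin n → K} (h : ∀ x, hh u x = 0) : u = 0 := by
  funext i
  rw [← hh_single W u i]
  exact h _

/-- The element of trace one. -/
theorem wt_one : W.wt 1 ^ 2 + W.wt 1 = 1 := by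
  have h0 : W.wt 1 ≠ 1 := fun e => absurd (W.inj (e.trans W.zero.symm)) (by decide)
  have h3 := W.cube (W.ne 1)
  have : (W.wt 1 - 1) * (W.wt 1 ^ 2 + W.wt 1 + 1) = 0 := by linear_combination h3
  have h4 := (mul_eq_zero.1 this).resolve_left (sub_ne_zero.2 h0)
  linear_combination h4 - W.two

/-- The self values lie in the field of two elements. -/
theorem hh_self_cases (v : Fin n → K) : hh v v = 0 ∨ hh v v = 1 := by
  rw [W.hh_self]
  rcases Nat.even_or_odd' (supp v).card with ⟨k, e | e⟩ <;> rw [e]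
  · left; rw [Nat.cast_mul, Nat.cast_ofNat, W.two, zero_mul]
  · right; rw [Nat.cast_add, Nat.cast_mul, Nat.cast_ofNat, W.two, zero_mul, zero_add, Nat.cast_one]

/-- A non-zero isotropic vector has two non-zero coordinates. -/
theorem exists_two_supp {u : Fin n → K} (h0 : u ≠ 0) (hu : hh u u = 0) : ∃ i j, i ≠ j ∧ u i ≠ 0 ∧ u j ≠ 0 := by
  obtain ⟨i, hi⟩ : ∃ i, u i ≠ 0 := by
    by_contra q
    push Not at q
    exact h0 (funext q)
  have h2 : 1 < (supp u).card := by
    obtain ⟨k, hk⟩ := (W.iso_iff u).1 hu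
    have : 0 < (supp u).card := Finset.card_pos.2 ⟨i, mem_supp.2 hi⟩
    omega
  obtain ⟨a, ha, b, hb, hab⟩ := Finset.one_lt_card.1 h2
  exact ⟨a, b, hab, mem_supp.1 ha, mem_supp.1 hb⟩

/-- An isotropic vector meeting a given one. -/
theorem exists_far {u : Fin n → K} (h0 : u ≠ 0) (hu : hh u u = 0) : ∃ q, hh q q = 0 ∧ hh u q ≠ 0 := by
  classical
  obtain ⟨i, j, hij, hi, hj⟩ := exists_two_supp W h0 hu
  refine ⟨u + Pi.single j ((W.wt 1 + 1) * u j), ?_, ?_⟩
  · have hs : supp (u + Pi.single j ((W.wt 1 + 1) * u j)) = supp u := by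
      ext l
      rw [mem_supp, mem_supp, Pi.add_apply]
      by_cases e : l = j
      · subst e
        rw [Pi.single_eq_same, show u l + (W.wt 1 + 1) * u l = W.wt 1 * u l by linear_combination u l * W.two]
        simp [W.ne 1, hj]
      · rw [Pi.single_eq_of_ne e, add_zero]
    rw [W.iso_iff, hs, ← W.iso_iff]
    exact hu
  · rw [W.hh_add_right, hu, zero_add]
    have e : hh u (Pi.single j ((W.wt 1 + 1) * u j)) = ((W.wt 1 + 1) * u j) ^ 2 * u j := by
      rw [show (Pi.single j ((W.wt 1 + 1) * u j) : Fin n → K) = ((W.wt 1 + 1) * u j) • Pi.single j 1 from by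
        rw [← Pi.single_smul, smul_eq_mul, mul_one], Wt.hh_smul_right, hh_single W]
    rw [e]
    refine mul_ne_zero (pow_ne_zero _ (mul_ne_zero ?_ hj)) hj
    intro q
    exact absurd (W.inj ((W.add_eq_zero.1 q).trans W.zero.symm)) (by decide)

/-- An isotropic vector meeting two given orthogonal ones. -/
theorem exists_far_two {u v : Fin n → K} (hu0 : u ≠ 0) (hu : hh u u = 0) (hv0 : v ≠ 0) (hv : hh v v = 0) :
    ∃ q, hh q q = 0 ∧ hh u q ≠ 0 ∧ hh v q ≠ 0 := by
  obtain ⟨q1, h1, hu1⟩ := exists_far W hu0 hu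
  by_cases hv1 : hh v q1 = 0
  swap
  · exact ⟨q1, h1, hu1, hv1⟩
  obtain ⟨q2, h2, hv2⟩ := exists_far W hv0 hv
  by_cases hu2 : hh u q2 = 0
  swap
  · exact ⟨q2, h2, hu2, hv2⟩
  obtain ⟨k, hk, hk'⟩ : ∃ k : K, k ≠ 0 ∧ k ^ 2 * hh q1 q2 + (k ^ 2 * hh q1 q2) ^ 2 = 0 := by
    by_cases e : hh q1 q2 = 0
    · exact ⟨1, one_ne_zero, by rw [e]; ring⟩
    · refine ⟨hh q1 q2, e, ?_⟩
      rw [← pow_succ, W.cube e, one_pow]
      exact W.add_self 1
  refine ⟨q1 + k • q2, ?_, ?_, ?_⟩
  · rw [Wt.hh_add_left, W.hh_add_right, W.hh_add_right, Wt.hh_smul_left, Wt.hh_smul_left, Wt.hh_smul_right, Wt.hh_smul_right,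
      h1, h2, W.hh_swap q1 q2]
    have e4 := W.pow_four k
    linear_combination hk' - hh q1 q2 ^ 2 * e4
  · rw [W.hh_add_right, Wt.hh_smul_right, hu2, mul_zero, add_zero]; exact hu1
  · rw [W.hh_add_right, Wt.hh_smul_right, hv1, zero_add]; exact mul_ne_zero (pow_ne_zero _ hk) hv2

/-- The vectors orthogonal to two vectors. -/
def perp2 (p q : Fin n → K) : Submodule K (Fin n → K) where
  carrier := {x | hh x p = 0 ∧ hh x q = 0}
  add_mem' {x y} hx hy := ⟨by rw [Wt.hh_add_left, hx.1, hy.1, add_zero], by rw [Wt.hh_add_left, hx.2, hy.2, add_zero]⟩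
  zero_mem' := ⟨hh_zero_left W p, hh_zero_left W q⟩
  smul_mem' k x hx := ⟨by rw [Wt.hh_smul_left, hx.1, mul_zero], by rw [Wt.hh_smul_left, hx.2, mul_zero]⟩

/-- The space orthogonal to a hyperbolic pair is a standard one. -/
theorem exists_embed {p q : Fin n → K} (hp : hh p p = 0) (hq : hh q q = 0) (hpq : hh p q ≠ 0) {m : ℕ}
    (hm : n = m + 2) :
    ∃ E : (Fin m → K) →ₗ[K] (Fin n → K), Function.Injective E ∧
      (∀ a b, hh (E a) (E b) = Cfsg.hermForm m K 2 a b) ∧ ∀ x, (hh x p = 0 ∧ hh x q = 0) ↔ ∃ a, E a = x := by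
  classical
  have hqp : hh q p ≠ 0 := fun e => hpq ((W.hh_comm q p).1 e)
  set L : (Fin n → K) →ₗ[K] (Fin 2 → K) :=
    { toFun := fun x => ![hh x p, hh x q]
      map_add' := fun x y => by funext i; fin_cases i <;> simp [Wt.hh_add_left]
      map_smul' := fun k x => by funext i; fin_cases i <;> simp [Wt.hh_smul_left] } with hL
  have hker : LinearMap.ker L = perp2 W p q := by
    ext x
    refine ⟨fun h => ⟨congrFun h 0, congrFun h 1⟩, fun h => funext fun i => ?_⟩
    fin_cases i
    exacts [h.1, h.2]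
  have hsurj : LinearMap.range L = ⊤ := by
    refine eq_top_iff.2 fun y _ => ⟨((y 0) / hh q p) • q + ((y 1) / hh p q) • p, funext fun i => ?_⟩
    show (![_, _] : Fin 2 → K) i = y i
    fin_cases i <;> simp [Wt.hh_add_left, Wt.hh_smul_left, hp, hq, hpq, hqp]
  have hdim : Module.finrank K (perp2 W p q) = m := by
    have := L.finrank_range_add_finrank_ker
    rw [hsurj, finrank_top, Module.finrank_fin_fun, Module.finrank_fin_fun, hker] at this
    omega
  have hnd : ∀ u ∈ perp2 W p q, (∀ v ∈ perp2 W p q, hh u v = 0) → u = 0 := by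
    intro u hu hall
    refine hh_ext W fun x => ?_
    have hx : x + (-(hh x p / hh q p)) • q + (-(hh x q / hh p q)) • p ∈ perp2 W p q := by
      constructor <;> simp only [Wt.hh_add_left, Wt.hh_smul_left, hp, hq, mul_zero, add_zero] <;>
        field_simp <;> ring
    have := hall _ hx
    rw [W.hh_add_right, W.hh_add_right, Wt.hh_smul_right, Wt.hh_smul_right, hu.1, hu.2, mul_zero, mul_zero,
      add_zero, add_zero] at this
    exact this
  obtain ⟨b, hb⟩ := CfsgLib.Unitary.exists_orthonormal_family (wt_card W) (perp2 W p q) hdim hnd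
  refine ⟨(perp2 W p q).subtype.comp b.equivFun.symm.toLinearMap,
    Subtype.coe_injective.comp b.equivFun.symm.injective, fun u v => ?_, fun x => ⟨fun hx => ?_, ?_⟩⟩
  · simp only [LinearMap.coe_comp, Function.comp_apply, LinearEquiv.coe_coe, Submodule.coe_subtype,
      Module.Basis.equivFun_symm_apply, Submodule.coe_sum, Submodule.coe_smul]
    have hl : ∀ (s : Finset (Fin m)) (f : Fin m → Fin n → K) (y : Fin n → K),
        hh (∑ i ∈ s, f i) y = ∑ i ∈ s, hh (f i) y := by
      intro s f y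
      induction s using Finset.induction with
      | empty => simp [hh_zero_left W]
      | insert a s ha ih => rw [Finset.sum_insert ha, Finset.sum_insert ha, Wt.hh_add_left, ih]
    have hr : ∀ (s : Finset (Fin m)) (f : Fin m → Fin n → K) (y : Fin n → K),
        hh y (∑ i ∈ s, f i) = ∑ i ∈ s, hh y (f i) := by
      intro s f y
      induction s using Finset.induction with
      | empty => simp [hh_zero_right W]
      | insert a s ha ih => rw [Finset.sum_insert ha, Finset.sum_insert ha, W.hh_add_right, ih]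
    rw [hl, Cfsg.hermForm]
    refine Finset.sum_congr rfl fun i _ => ?_
    rw [hr, Finset.sum_eq_single i]
    · rw [Wt.hh_smul_left, Wt.hh_smul_right, hb, if_pos rfl, mul_one]
    · intro j _ hj
      rw [Wt.hh_smul_left, Wt.hh_smul_right, hb, if_neg (Ne.symm hj), mul_zero, mul_zero]
    · exact fun e => absurd (Finset.mem_univ _) e
  · exact ⟨b.equivFun ⟨x, hx⟩, by simp⟩
  · rintro ⟨a, rfl⟩
    exact (b.equivFun.symm a).2

end CfsgLib.Fischer
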