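import Cfsg.Agent.Fischer.ModelsClassical
import Cfsg.Agent.Fischer.Herm
import Cfsg.Agent.Unitary.Generated
import Cfsg.Agent.Spor3T.Tv.Unitary

/-!
Fischer's theorem: the unitary model and the two orthogonal models over two elements.
-/

set_option autoImplicit false
set_option linter.unusedSectionVars false
set_option linter.style.haveILetI false

open scoped Matrix

namespace CfsgLib.Fischer

open CfsgLib.ThreeT CfsgLib.ThreeT.Prod CfsgLib.ThreeT.Tv

universe u

variable {G : Type u} [Group G] {D : Set G}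

theorem tau_tau {K : Type} [Field K] {n : ℕ} (W : Wt K) {u : Fin n → K} (hu : Cfsg.hermForm n K 2 u u = 0)
    (z : Fin n → K) : tau u (tau u z) = z := by
  funext i
  rw [tau_apply, tau_apply, tau, Wt.hh_add_left, Wt.hh_smul_left, hu, mul_zero, add_zero, add_assoc, ← add_mul,
    W.add_self, zero_mul, add_zero]

open CfsgLib.Unitary in
/-- Unitary coordinates give a projective special unitary group. -/
theorem uni_model {K : Type} [Field K] [Fintype K] (hK : Fintype.card K = 4) {n : ℕ} (hn : 4 ≤ n)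
    (hD : Cfsg.IsThreeTranspositionClass D) (hZ : Subgroup.center G = ⊥) (hne : D.Nonempty)
    {φ : G → Fin n → K} (f : UC D φ) :
    ∃ e : G ≃* Cfsg.PSU n K 2, e '' D = (QuotientGroup.mk : ↥(Cfsg.SU n K 2) → Cfsg.PSU n K 2) ''
      {g : ↥(Cfsg.SU n K 2) | (((g : Matrix.SpecialLinearGroup (Fin n) K) : Matrix (Fin n) (Fin n) K) - 1).rank = 1} := by
  classical
  obtain ⟨W⟩ := Tv.exists_wt hK
  have hF : Nat.card K = 2 ^ 2 := by rw [Nat.card_eq_fintype_card, hK]; norm_num
  have hc : (1 : K) + 1 ^ 2 = 0 := by rw [one_pow]; exact W.add_self 1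
  let Φ : G → ↥(Cfsg.SU n K 2) := fun x =>
    if h : Cfsg.hermForm n K 2 (φ x) (φ x) = 0 then suTv n (φ x) 1 h hc hF else 1
  have happ : ∀ x ∈ D, ∀ z, suMat (Φ x) *ᵥ z = tau (φ x) z := fun x hx z => by
    have e : suMat (Φ x) = Cfsg.unitaryTransvection n 2 (φ x) 1 := by simp only [Φ, dif_pos (f.iso x hx)]; rfl
    rw [e, utv_mulVec, one_mul]
    rfl
  have hscal : ∀ x ∈ D, ∀ k : K, φ x ≠ k • (0 : Fin n → K) := fun x hx k e => f.nz x hx (by rw [e, smul_zero])
  have hinj : Set.InjOn Φ D := by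
    intro x hx y hy e
    obtain ⟨q, -, hq⟩ := exists_far W (f.nz x hx) (f.iso x hx)
    have h1 : tau (φ x) q = tau (φ y) q := by rw [← happ x hx, ← happ y hy, e]
    rw [tau, tau, add_right_inj] at h1
    have hq' : Cfsg.hermForm n K 2 q (φ x) ≠ 0 := fun e => hq ((W.hh_comm _ _).1 e)
    refine f.inj x hx y hy ((Cfsg.hermForm n K 2 q (φ x))⁻¹ * Cfsg.hermForm n K 2 q (φ y)) ?_
    rw [← smul_smul, ← h1, smul_smul, inv_mul_cancel₀ hq', one_smul]
  have hsq : ∀ x ∈ D, Φ x * Φ x = 1 := fun x hx => su_ext fun z => by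
    rw [suMat_mul, ← Matrix.mulVec_mulVec, happ x hx, happ x hx, tau_tau W (f.iso x hx), suMat_one,
      Matrix.one_mulVec]
  have hconj : ∀ x ∈ D, ∀ y ∈ D, Φ (x * y * x) = Φ x * Φ y * Φ x := by
    intro x hx y hy
    have hxy : x * y * x ∈ D := by simpa only [ThreeT.inv hD.1 hx] using ThreeT.conj_mem hD hy x
    refine su_ext fun z => ?_
    rw [suMat_mul, suMat_mul, ← Matrix.mulVec_mulVec, ← Matrix.mulVec_mulVec, happ x hx, happ y hy, happ x hx,
      happ _ hxy]
    obtain ⟨k, hk⟩ := f.conj x hx y hy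
    have hk0 : k ≠ 0 := fun e => f.nz _ hxy (by rw [hk, e, zero_smul])
    rw [hk, W.tau_smul hk0]
    conv_rhs => rw [tau.eq_def (φ y) (tau (φ x) z)]
    rw [W.hh_tau]
    funext i
    have h2 := congrFun (tau_tau W (f.iso x hx) z) i
    rw [tau_apply, tau_apply] at h2 ⊢
    simp only [Wt.hh_add_left, Wt.hh_smul_left, Pi.add_apply, Pi.smul_apply, smul_eq_mul, tau_apply] at h2 ⊢
    linear_combination -h2
  have hgen : Subgroup.closure (Φ '' D) = ⊤ := by
    rw [eq_top_iff, ← tvGroup_eq_top hF (n := n) (by omega) (by omega), tvGroup, Subgroup.closure_le]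
    rintro A ⟨w, c, hw, hA⟩
    by_cases h1 : A = 1
    · rw [h1]; exact one_mem _
    have hw0 : w ≠ 0 := fun e => h1 (su_ext fun x => by
      rw [hA, e, utv_mulVec, smul_zero, add_zero, suMat_one, Matrix.one_mulVec])
    have hct : c + c ^ 2 = 0 := (utv_preserves_iff hF hw0 hw c).mp fun x y => by
      rw [← hA]; exact su_preserves A x y
    have hc0 : c ≠ 0 := fun e => h1 (su_ext fun x => by
      rw [hA, e, utv_mulVec, zero_mul, zero_smul, add_zero, suMat_one, Matrix.one_mulVec])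
    have hc1 : c = 1 := (mul_left_cancel₀ hc0 (by rw [mul_one, ← pow_two]; exact W.add_eq_zero.mp hct)).symm
    obtain ⟨x, hx, k, hk⟩ := f.surj w hw0 hw
    have hk0 : k ≠ 0 := fun e => f.nz x hx (by rw [hk, e, zero_smul])
    refine Subgroup.subset_closure ⟨x, hx, su_ext fun z => ?_⟩
    rw [happ x hx, hA, hc1, utv_mulVec, one_mul, hk, W.tau_smul hk0]
    rfl
  refine Exists.elim (quot_model hD hZ Φ hinj hsq hgen hconj) fun e he => ⟨e, he.trans ?_⟩
  congr 1
  refine image_class hD (Cfsg.Agent.S1631.result K hK n hn) hgen hconj ?_ hne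
  rintro _ ⟨x, hx, rfl⟩
  obtain ⟨q, -, hq⟩ := exists_far W (f.nz x hx) (f.iso x hx)
  exact rank_one_of (f.nz x hx) (fun z => Cfsg.hermForm n K 2 z (φ x)) (fun z => happ x hx z) (y := q)
    fun e => hq ((W.hh_comm _ _).1 e)

section two

open CfsgLib.Quad

/-- Hyperbolic coordinates give the plus type group. -/
theorem plus_model {m : ℕ} (hm : 3 ≤ m) (hD : Cfsg.IsThreeTranspositionClass D) (hZ : Subgroup.center G = ⊥)
    {φ : G → Fin m ⊕ Fin m → ZMod 2} (f : TwoCo D (sform m) {v | qplus m v = 1} φ) :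
    ∃ e : G ≃* ↥(Cfsg.isometryGroup (ZMod 2) (Cfsg.quadFormPlus m (ZMod 2))),
      e '' D = {g : ↥(Cfsg.isometryGroup (ZMod 2) (Cfsg.quadFormPlus m (ZMod 2))) |
        (((g : GL (Fin m ⊕ Fin m) (ZMod 2)) : Matrix (Fin m ⊕ Fin m) (Fin m ⊕ Fin m) (ZMod 2)) - 1).rank = 1} := by
  classical
  refine quad_model hD hZ (plusQ m) (plusQ_coe m) (plusQ_nondeg m) (by simp; omega) (LinearEquiv.refl _ _)
    (qplus_isQ m) (fun v => congrFun (plusQ_coe m) v) (fun v g hg => ?_) f
  have hg' : ∀ d, qplus m d = 1 → g d = d := fun d hd => hg d ((congrFun (plusQ_coe m) d).trans hd)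
  have hb : ∀ k : Fin m ⊕ Fin m, g (Pi.single k 1) = Pi.single k 1 := by
    intro k
    obtain ⟨i, hk⟩ : ∃ i, k = Sum.inl i ∨ k = Sum.inr i := by
      rcases k with i | i
      exacts [⟨i, Or.inl rfl⟩, ⟨i, Or.inr rfl⟩]
    obtain ⟨j, hji⟩ := Fintype.exists_ne_of_one_lt_card (by simp; omega) i
    set p : Fin m ⊕ Fin m → ZMod 2 := Pi.single (Sum.inl j) 1 + Pi.single (Sum.inr j) 1
    have hp : qplus m p = 1 := by
      rw [qplus, Finset.sum_eq_single j (fun l _ hl => by simp [p, hl]) (by simp)]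
      simp [p]
    have hkp : qplus m (Pi.single k 1 + p) = 1 := by
      rw [qplus, Finset.sum_eq_single j (fun l _ hl => ?_) (by simp)]
      · rcases hk with rfl | rfl <;> simp [p, Pi.single_apply, hji]
      · rcases hk with rfl | rfl <;> simp [p, hl, Pi.single_apply]
    have h2 := hg' _ hkp
    rw [map_add, hg' p hp] at h2
    exact add_right_cancel h2
  exact LinearMap.congr_fun ((Pi.basisFun (ZMod 2) (Fin m ⊕ Fin m)).ext (f₂ := LinearMap.id) fun k => by
    rw [Pi.basisFun_apply]; exact hb k) v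

/-- The first pair apart. -/
def splitEquiv (m : ℕ) :
    (Fin (m + 1) ⊕ Fin (m + 1) → ZMod 2) ≃ₗ[ZMod 2] ((Fin m ⊕ Fin m) ⊕ Fin 2 → ZMod 2) where
  toFun v := Sum.elim (Sum.elim (fun i => v (Sum.inl i.succ)) fun i => v (Sum.inr i.succ)) ![v (Sum.inl 0), v (Sum.inr 0)]
  map_add' u v := by
    funext k
    rcases k with (k | k) | k <;> try fin_cases k
    all_goals rfl
  map_smul' c v := by
    funext k
    rcases k with (k | k) | k <;> try fin_cases k
    all_goals rfl
  invFun w := Sum.elim (Fin.cons (w (Sum.inr 0)) fun i => w (Sum.inl (Sum.inl i)))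
    (Fin.cons (w (Sum.inr 1)) fun i => w (Sum.inl (Sum.inr i)))
  left_inv v := by
    funext k
    rcases k with k | k <;> refine Fin.cases ?_ (fun i => ?_) k <;> simp
  right_inv w := by
    funext k
    rcases k with (k | k) | k
    · simp
    · simp
    · fin_cases k <;> simp

theorem split_form (m : ℕ) (v : Fin (m + 1) ⊕ Fin (m + 1) → ZMod 2) :
    minusQ m 1 1 (splitEquiv m v) = qminus m v := by
  rw [congrFun (minusQ_coe m 1 1) _, qminus, sform_delta0, qplus, Fin.sum_univ_succ]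
  simp only [Cfsg.quadFormMinus, splitEquiv, LinearEquiv.coe_mk, LinearMap.coe_mk, AddHom.coe_mk, Sum.elim_inl,
    Sum.elim_inr, Matrix.cons_val_zero, Matrix.cons_val_one]
  generalize ∑ i : Fin m, v (Sum.inl i.succ) * v (Sum.inr i.succ) = s
  generalize v (Sum.inl 0) = a; generalize v (Sum.inr 0) = b
  revert s a b; decide

/-- Elliptic coordinates give the minus type group. -/
theorem minus_model {m : ℕ} (hm : 2 ≤ m) (hD : Cfsg.IsThreeTranspositionClass D) (hZ : Subgroup.center G = ⊥)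
    {φ : G → Fin (m + 1) ⊕ Fin (m + 1) → ZMod 2} (f : TwoCo D (sform (m + 1)) {v | qminus m v = 1} φ) :
    ∃ e : G ≃* ↥(Cfsg.isometryGroup (ZMod 2) (Cfsg.quadFormMinus m (ZMod 2) 1 1)),
      e '' D = {g : ↥(Cfsg.isometryGroup (ZMod 2) (Cfsg.quadFormMinus m (ZMod 2) 1 1)) |
        (((g : GL ((Fin m ⊕ Fin m) ⊕ Fin 2) (ZMod 2)) :
          Matrix ((Fin m ⊕ Fin m) ⊕ Fin 2) ((Fin m ⊕ Fin m) ⊕ Fin 2) (ZMod 2)) - 1).rank = 1} := by
  classical
  have hq : IsQ (m + 1) (qminus m) := fun u v => by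
    simp only [qminus, qplus_isQ (m + 1) u v, map_add]
    ring
  refine quad_model hD hZ (minusQ m 1 1) (minusQ_coe m 1 1) (minusQ_nondeg CfsgLib.QuadStd.Two.one_aniso m)
    (by simp; omega) (splitEquiv m) hq (split_form m) (fun v g hg => ?_) f
  have hg' : ∀ d, Cfsg.quadFormMinus m (ZMod 2) 1 1 d = 1 → g d = d := fun d hd =>
    hg d ((congrFun (minusQ_coe m 1 1) d).trans hd)
  have hz : ∀ k : Fin 2, Cfsg.quadFormMinus m (ZMod 2) 1 1 (Pi.single (Sum.inr k) 1) = 1 := by
    intro k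
    simp only [Cfsg.quadFormMinus]
    fin_cases k <;> simp
  have hb : ∀ k : (Fin m ⊕ Fin m) ⊕ Fin 2, g (Pi.single k 1) = Pi.single k 1 := by
    rintro (k | k)
    · have hk : Cfsg.quadFormMinus m (ZMod 2) 1 1 (Pi.single (Sum.inl k) 1 + Pi.single (Sum.inr 0) 1) = 1 := by
        simp only [Cfsg.quadFormMinus]
        rw [Finset.sum_eq_zero fun l _ => by rcases k with k | k <;> simp [Pi.single_apply]]
        simp
      have h2 := hg' _ hk
      rw [map_add, hg' _ (hz 0)] at h2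
      exact add_right_cancel h2
    · exact hg' _ (hz k)
  exact LinearMap.congr_fun ((Pi.basisFun (ZMod 2) ((Fin m ⊕ Fin m) ⊕ Fin 2)).ext (f₂ := LinearMap.id) fun k => by
    rw [Pi.basisFun_apply]; exact hb k) v

end two

end CfsgLib.Fischer
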