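import Cfsg.Agent.Fischer.Local

/-!
Fischer's theorem: commuting components of a closed set.
-/

set_option autoImplicit false
set_option linter.unusedSectionVars false
set_option linter.style.haveILetI false

namespace CfsgLib.Fischer

open CfsgLib.ThreeT CfsgLib.ThreeT.Prod

universe u v

variable {G : Type u} [Group G]

/-- The inverse of an isomorphism of closed sets. -/
theorem SIso.symm {H : Type v} [Group H] {S : Set G} {S' : Set H} {φ : G → H} (f : SIso S S' φ) (hS : Closed S) :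
    ∃ ψ : H → G, SIso S' S ψ ∧ ∀ x ∈ S, ψ (φ x) = x := by
  classical
  refine ⟨Function.invFunOn φ S, ⟨(Set.InvOn.bijOn ⟨f.bij.surjOn.rightInvOn_invFunOn,
    f.bij.injOn.leftInvOn_invFunOn⟩ f.bij.surjOn.mapsTo_invFunOn f.bij.mapsTo), ?_, ?_⟩,
    fun x hx => f.bij.injOn.leftInvOn_invFunOn hx⟩
  · intro x hx y hy
    obtain ⟨a, ha, rfl⟩ := f.bij.surjOn hx
    obtain ⟨b, hb, rfl⟩ := f.bij.surjOn hy
    rw [f.bij.injOn.leftInvOn_invFunOn ha, f.bij.injOn.leftInvOn_invFunOn hb, f.com a ha b hb]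
  · intro x hx y hy
    obtain ⟨a, ha, rfl⟩ := f.bij.surjOn hx
    obtain ⟨b, hb, rfl⟩ := f.bij.surjOn hy
    rw [← f.conj a ha b hb, f.bij.injOn.leftInvOn_invFunOn (hS.conj a ha b hb),
      f.bij.injOn.leftInvOn_invFunOn ha, f.bij.injOn.leftInvOn_invFunOn hb]

/-- The commuting component of a member. -/
def comp (S : Set G) (a : G) : Set G := {x | x ∈ S ∧ Link S a x}

theorem mem_comp_self {S : Set G} {a : G} (ha : a ∈ S) : a ∈ comp S a := ⟨ha, Relation.ReflTransGen.refl⟩

theorem comp_subset {S : Set G} (a : G) : comp S a ⊆ S := fun _ h => h.1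

theorem comp_step {S : Set G} {a x y : G} (hx : x ∈ comp S a) (hy : y ∈ S) (h : Commute x y) : y ∈ comp S a :=
  ⟨hy, hx.2.trans (Link.of_commute hx.1 hy h)⟩

theorem comp_eq {S : Set G} {a x : G} (hx : x ∈ comp S a) : comp S x = comp S a :=
  Set.ext fun _ => ⟨fun h => ⟨h.1, hx.2.trans h.2⟩, fun h => ⟨h.1, hx.2.symm.trans h.2⟩⟩

theorem comp_nb {S : Set G} {a x : G} (hx : x ∈ comp S a) : nb (comp S a) x = nb S x :=
  Set.ext fun _ => ⟨fun h => ⟨h.1.1, h.2.1, h.2.2⟩, fun h => ⟨comp_step hx h.1 h.2.2, h.2.1, h.2.2⟩⟩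

theorem Link.conj {S : Set G} (hS : Closed S) {g a b : G} (hg : g ∈ S) (h : Link S a b) :
    Link S (g * a * g) (g * b * g) := by
  induction h with
  | refl => exact Relation.ReflTransGen.refl
  | tail _ hpq ih =>
    exact ih.tail ⟨hS.conj g hg _ hpq.1, hS.conj g hg _ hpq.2.1, (hS.commute_conj hg _ _).2 hpq.2.2⟩

theorem comp_closed {S : Set G} (hS : Closed S) (a : G) : Closed (comp S a) := by
  refine hS.mono (comp_subset a) fun x hx y hy => ⟨hS.conj x hx.1 y hy.1, ?_⟩
  have h1 := Link.conj hS hx.1 (hx.2.symm.trans hy.2)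
  rw [mul_assoc x x x, hS.sq hx.1, mul_one] at h1
  exact hx.2.trans h1

theorem comp_link {S : Set G} {a x y : G} (hx : x ∈ comp S a) (h : Link S x y) : Link (comp S a) x y := by
  induction h with
  | refl => exact Relation.ReflTransGen.refl
  | @tail p q hxp hpq ih =>
    exact ih.tail ⟨⟨hpq.1, hx.2.trans hxp⟩, ⟨hpq.2.1, hx.2.trans (hxp.tail hpq)⟩, hpq.2.2⟩

theorem comp_conn {S : Set G} (a : G) : Conn (comp S a) := fun _ hx _ hy => comp_link hx (hx.2.symm.trans hy.2)

/-- Members commuting with a common member and conjugate far from both give one class. -/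
theorem oneClass_of {S : Set G} (hS : Closed S) (hconn : Conn S)
    (h : ∀ x ∈ S, ∀ y ∈ S, x ≠ y → Commute x y → ∃ s ∈ S, ¬ Commute x s ∧ ¬ Commute y s) : OneClass S := by
  have far : ∀ x ∈ S, ∀ y ∈ S, ¬ Commute x y → ∃ g ∈ Subgroup.closure S, g * x * g⁻¹ = y := by
    intro x hx y hy hxy
    refine ⟨x * y, Subgroup.mul_mem _ (Subgroup.subset_closure hx) (Subgroup.subset_closure hy), ?_⟩
    rw [mul_inv_rev, hS.inv hx, hS.inv hy]
    calc x * y * x * (y * x) = (x * y * x) * y * x := by group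
      _ = (y * x * y) * y * x := by rw [hS.braid hx hy hxy]
      _ = y := by rw [hS.cancel_right hy, hS.cancel_right hx]
  have trans : ∀ {x y z : G}, (∃ g ∈ Subgroup.closure S, g * x * g⁻¹ = y) →
      (∃ g ∈ Subgroup.closure S, g * y * g⁻¹ = z) → ∃ g ∈ Subgroup.closure S, g * x * g⁻¹ = z := by
    rintro x y z ⟨g, hg, rfl⟩ ⟨k, hk, rfl⟩
    exact ⟨k * g, Subgroup.mul_mem _ hk hg, by group⟩
  intro a ha b hb
  have key : ∀ y, Link S a y → ∃ g ∈ Subgroup.closure S, g * a * g⁻¹ = y := by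
    intro y hy
    induction hy with
    | refl => exact ⟨1, Subgroup.one_mem _, by simp⟩
    | @tail p q _ hpq ih =>
      refine trans ih ?_
      by_cases e : p = q
      · exact ⟨1, Subgroup.one_mem _, by simp [e]⟩
      obtain ⟨s, hs, h1, h2⟩ := h p hpq.1 q hpq.2.1 e hpq.2.2
      exact trans (far p hpq.1 s hs h1) (far s hs q hpq.2.1 fun r => h2 r.symm)
  exact key b (hconn a ha b hb)

end CfsgLib.Fischer
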