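import Cfsg.Agent.Fischer.UniDet
import Cfsg.Agent.Fischer.Component

/-!
Fischer's theorem: the component of common neighbours of a unitary pair satisfies the hypothesis again.
-/

set_option autoImplicit false
set_option linter.unusedSectionVars false
set_option linter.style.haveILetI false

namespace CfsgLib.Fischer

open CfsgLib.ThreeT CfsgLib.ThreeT.Prod CfsgLib.ThreeT.Tv

universe u

theorem exists_iso_vec {K : Type} [Field K] [Finite K] (W : Wt K) {m : ℕ} (hm : 2 ≤ m) :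
    ∃ v : Fin m → K, v ≠ 0 ∧ Cfsg.hermForm m K 2 v v = 0 := by
  by_contra q
  push Not at q
  have h1 := iso_span W hm (v := fun _ => 1) fun u hu hu' => absurd hu' (q u hu)
  exact one_ne_zero (congrFun h1 ⟨0, by omega⟩)

section good

variable {G : Type u} [Group G] {S : Set G} {m : ℕ}

theorem uco_nonempty (hm : 2 ≤ m) (h : UCo S m) : S.Nonempty := by
  obtain ⟨K, i1, i2, hK, φ, f⟩ := h
  obtain ⟨W⟩ := exists_wt hK
  obtain ⟨v, hv, hv'⟩ := exists_iso_vec W hm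
  obtain ⟨x, hx, -⟩ := f.surj v hv hv'
  exact ⟨x, hx⟩

/-- Unitary neighbourhoods leave no twins. -/
theorem uni_notwins (hS : Closed S) (hm : 4 ≤ m) (hloc : ∀ x ∈ S, UCo (nb S x) m) : NoTwins S := by
  refine ⟨fun a ha b hb hab => ?_, fun a ha b hb hab => ?_⟩
  · by_contra hne
    have hc : Commute a b := (hab b hb).2 (Commute.refl b)
    obtain ⟨K, i1, i2, hK, φ, f⟩ := hloc a ha
    obtain ⟨W⟩ := exists_wt hK
    have hb' : b ∈ nb S a := ⟨hb, Ne.symm hne, hc⟩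
    obtain ⟨q, hq, hbq⟩ := exists_far W (f.nz b hb') (f.iso b hb')
    obtain ⟨z, hz, k, hk, ez⟩ := f.exists_rep W (v := q) (fun e => hbq (by rw [e, hh_zero_right W])) hq
    have h1 := (f.com_iff W (hS.nb a) hb' hz).1 ((hab z hz.1).1 hz.2.2)
    rw [ez, Wt.hh_smul_right] at h1
    exact hbq ((mul_eq_zero.1 h1).resolve_left (pow_ne_zero _ hk))
  · by_contra hne
    have hc : ¬ Commute a b := fun q => by
      have : b ∈ nb S b := hab ▸ (⟨hb, Ne.symm hne, q⟩ : b ∈ nb S a)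
      exact this.2.1 rfl
    obtain ⟨z, hz⟩ := uco_nonempty (by omega) (hloc a ha)
    have hz' : z ∈ nb S b := hab ▸ hz
    obtain ⟨K, i1, i2, hK, φ, f⟩ := hloc z hz.1
    obtain ⟨W⟩ := exists_wt hK
    have ha' : a ∈ nb S z := ⟨ha, hz.2.1.symm, hz.2.2.symm⟩
    have hb' : b ∈ nb S z := ⟨hb, hz'.2.1.symm, hz'.2.2.symm⟩
    have huv : Cfsg.hermForm m K 2 (φ a) (φ b) ≠ 0 := fun e => hc ((f.com_iff W (hS.nb z) ha' hb').2 e)
    obtain ⟨k, rfl⟩ : ∃ k, m = k + 2 := ⟨m - 2, by omega⟩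
    obtain ⟨E, hE, hEh, hEr⟩ := exists_embed W (f.iso a ha') (f.iso b hb') huv rfl
    obtain ⟨v, hv, hv'⟩ := exists_iso_vec W (m := k) (by omega)
    obtain ⟨h1, h2⟩ := (hEr (E v)).2 ⟨v, rfl⟩
    have hw0 : φ a + E v ≠ 0 := fun e => huv (by
      have := congrArg (fun x => Cfsg.hermForm (k + 2) K 2 x (φ b)) e
      simpa [Wt.hh_add_left, h2, hh_zero_left W] using this)
    obtain ⟨w, hw, l, hl, ew⟩ := f.exists_rep W (v := φ a + E v) hw0 (by
      rw [Wt.hh_add_left, W.hh_add_right, W.hh_add_right, f.iso a ha', hEh, hv', h1, (W.hh_comm _ _).1 h1]; simp)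
    have hwa : w ∈ nb S a := by
      refine ⟨hw.1, fun e => ?_, ((f.com_iff W (hS.nb z) hw ha').2 (by
        rw [ew, Wt.hh_smul_left, Wt.hh_add_left, f.iso a ha', h1, add_zero, mul_zero])).symm⟩
      subst e
      have e2 : E v = (l⁻¹ - 1) • φ w := by
        rw [sub_smul, one_smul]
        have h6 := congrArg (fun z => l⁻¹ • z) ew
        simp only [smul_smul, inv_mul_cancel₀ hl, one_smul] at h6
        rw [h6, add_sub_cancel_left]
      have h5 : (l⁻¹ - 1) * Cfsg.hermForm (k + 2) K 2 (φ w) (φ b) = 0 := by rw [← Wt.hh_smul_left, ← e2, h2]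
      rw [(mul_eq_zero.1 h5).resolve_right huv, zero_smul] at e2
      exact hv (hE (e2.trans (map_zero E).symm))
    have h3 := (f.com_iff W (hS.nb z) hw hb').1 (hab ▸ hwa : w ∈ nb S b).2.2.symm
    rw [ew, Wt.hh_smul_left, Wt.hh_add_left, h2, add_zero] at h3
    exact huv ((mul_eq_zero.1 h3).resolve_left hl)

/-- Connected sets with unitary neighbourhoods are twin-free and form one class. -/
theorem uni_good (hS : Closed S) (hconn : Conn S) (hne : S.Nonempty) (hm : 4 ≤ m)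
    (hloc : ∀ x ∈ S, UCo (nb S x) m) : NoTwins S ∧ OneClass S ∧ Edge S := by
  have common : ∀ x ∈ S, ∀ y ∈ S, x ≠ y → Commute x y → ∃ w ∈ S, w ≠ x ∧ w ≠ y ∧ Commute w x ∧ Commute w y := by
    intro x hx y hy hne hxy
    obtain ⟨K, i1, i2, hK, φ, f⟩ := hloc x hx
    obtain ⟨W⟩ := exists_wt hK
    have hy' : y ∈ nb S x := ⟨hy, hne.symm, hxy⟩
    obtain ⟨q, hq, hyq⟩ := exists_far W (f.nz y hy') (f.iso y hy')
    obtain ⟨k, rfl⟩ : ∃ k, m = k + 2 := ⟨m - 2, by omega⟩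
    obtain ⟨E, hE, hEh, hEr⟩ := exists_embed W (f.iso y hy') hq hyq rfl
    obtain ⟨v, hv, hv'⟩ := exists_iso_vec W (m := k) (by omega)
    obtain ⟨w, hw, l, hl, ew⟩ := f.exists_rep W (v := E v) (fun e => hv (hE (e.trans (map_zero E).symm)))
      (by rw [hEh]; exact hv')
    refine ⟨w, hw.1, hw.2.1, fun e => ?_, hw.2.2.symm,
      (f.com_iff W (hS.nb x) hw hy').2 (by rw [ew, Wt.hh_smul_left, ((hEr _).2 ⟨v, rfl⟩).1, mul_zero])⟩
    refine hyq ?_
    rw [← e, ew, Wt.hh_smul_left, ((hEr _).2 ⟨v, rfl⟩).2, mul_zero]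
  refine ⟨uni_notwins hS hm hloc, ?_, ?_⟩
  · refine oneClass_of hS hconn fun x hx y hy hne hxy => ?_
    obtain ⟨w, hw, hwx, hwy, hcx, hcy⟩ := common x hx y hy hne hxy
    obtain ⟨K, i1, i2, hK, φ, f⟩ := hloc w hw
    obtain ⟨W⟩ := exists_wt hK
    have hx' : x ∈ nb S w := ⟨hx, hwx.symm, hcx⟩
    have hy' : y ∈ nb S w := ⟨hy, hwy.symm, hcy⟩
    obtain ⟨q, hq, h1, h2⟩ := exists_far_two W (f.nz x hx') (f.iso x hx') (f.nz y hy') (f.iso y hy')
    obtain ⟨s, hs, k, hk, es⟩ := f.exists_rep W (v := q) (fun e => h1 (by rw [e, hh_zero_right W])) hq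
    refine ⟨s, hs.1, fun c => ?_, fun c => ?_⟩
    · have h3 := (f.com_iff W (hS.nb w) hx' hs).1 c
      rw [es, Wt.hh_smul_right] at h3
      exact h1 ((mul_eq_zero.1 h3).resolve_left (pow_ne_zero _ hk))
    · have h3 := (f.com_iff W (hS.nb w) hy' hs).1 c
      rw [es, Wt.hh_smul_right] at h3
      exact h2 ((mul_eq_zero.1 h3).resolve_left (pow_ne_zero _ hk))
  · obtain ⟨a, ha⟩ := hne
    obtain ⟨b, hb⟩ := uco_nonempty (by omega) (hloc a ha)
    exact ⟨a, ha, b, hb.1, hb.2.1.symm, hb.2.2⟩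

end good

variable {G : Type u} [Group G] [Finite G] {D : Set G} {n : ℕ} (h : Fi D) (hloc : ∀ a ∈ D, UCo (nb D a) (n + 2))
include h hloc

theorem tri_uco {d c a : G} (hd : d ∈ D) (hc : c ∈ D) (hdc : ¬ Commute d c) (ha : a ∈ tri D d c) :
    UCo (nb (tri D d c) a) n := by
  obtain ⟨K, i1, i2, hK, φ, f⟩ := hloc a ha.1.1
  obtain ⟨W⟩ := exists_wt hK
  obtain ⟨E, hE, hEh, hEr⟩ := exists_embed W (f.iso d ⟨hd, ha.1.2.1.symm, ha.1.2.2.symm⟩)
    (f.iso c ⟨hc, fun q => hdc (q ▸ ha.1.2.2), ha.2⟩) (pair_far W h f hd hc hdc ha) rfl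
  exact ⟨K, i1, i2, hK, _, nb_tri_uni W h f hd hc hdc ha hE hEh hEr⟩

/-- The component of one common neighbour. -/
theorem uni_component (hn : 4 ≤ n) {d c a : G} (hd : d ∈ D) (hc : c ∈ D) (hdc : ¬ Commute d c)
    (ha : a ∈ tri D d c) :
    NoTwins (comp (tri D d c) a) ∧ Fi (qimg (comp (tri D d c) a)) ∧
      ∀ x ∈ qimg (comp (tri D d c) a), UCo (nb (qimg (comp (tri D d c) a)) x) n := by
  set C := comp (tri D d c) a
  have hS : Closed C := comp_closed (h.closed.tri d c) a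
  have hl : ∀ x ∈ C, UCo (nb C x) n := fun x hx => by
    rw [comp_nb hx]
    exact tri_uco h hloc hd hc hdc hx.1
  obtain ⟨htw, hcl, he⟩ := uni_good hS (comp_conn a) ⟨a, mem_comp_self ha⟩ hn hl
  refine ⟨htw, fi_quot hS htw (comp_conn a) hcl he, fun x hx => ?_⟩
  obtain ⟨ψ, g, -⟩ := (SIso.qmap hS htw).symm hS
  exact (hl _ (g.bij.mapsTo hx)).comp (g.nb hx)

end CfsgLib.Fischer
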