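import Cfsg.Agent.Fischer.TwentyFour
import Cfsg.Agent.Fischer.UniStep
import Cfsg.Agent.Fischer.ModelsUnitary

/-!
Fischer's theorem: reflection coordinates satisfy the hypothesis.
-/

set_option autoImplicit false
set_option linter.unusedSectionVars false
set_option linter.style.haveILetI false

namespace CfsgLib.Fischer

open CfsgLib.ThreeT CfsgLib.ThreeT.Prod CfsgLib.ThreeT.Tv

universe u

theorem exists_perp_two {n : ℕ} {Q : QuadraticForm (ZMod 3) (Fin n → ZMod 3)}
    (hQ : (QuadraticMap.polarBilin Q).Nondegenerate) (hn : 5 ≤ n) {u v : Fin n → ZMod 3} (qu : Q u = 1) (qv : Q v = 1)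
    (hb : pb Q u v ≠ 0) (h1 : v ≠ u) (h2 : v ≠ -u) :
    ∃ x, Q x = 1 ∧ pb Q u x = 0 ∧ pb Q v x = 0 := by
  set v' := v + pb Q u v • u with hv'
  have hperp : pb Q u v' = 0 := by
    rw [hv', map_add, map_smul, pb_self, qu, smul_eq_mul]
    generalize pb Q u v = s; revert s; decide
  have qv' : Q v' = 0 := by
    rw [hv', sub_comb, qv, qu, pb_symm Q v u]
    revert hb; generalize pb Q u v = s; revert s; decide
  have hv0 : v' ≠ 0 := by
    intro e
    rw [hv'] at e
    rcases three_cases (pb Q u v) with r | r | r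
    · exact hb r
    · rw [r, one_smul] at e; exact h2 (eq_neg_of_add_eq_zero_left e)
    · rw [r, neg_one_smul, ← sub_eq_add_neg, sub_eq_zero] at e; exact h1 e
  have hZ := (nd_top hQ).perp_aniso (s := u) trivial (by rw [qu]; decide)
  obtain ⟨p, hp, qp, hpv⟩ := hZ.exists_partner (u := v') ⟨trivial, hperp⟩ hv0 qv'
  obtain ⟨x, hx, qx⟩ := (hZ.perp_pair (u := v') (w := p) ⟨trivial, hperp⟩ hp qv' qp hpv).exists_one (by
    have := finrank_pair (Q := Q) (perp Q ⊤ u) v' p
    have := finrank_perp Q (⊤ : Submodule (ZMod 3) (Fin n → ZMod 3)) u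
    have := finrank_top' (n := n)
    omega)
  have hux : pb Q u x = 0 := hx.1.1.2
  have hvx : pb Q v' x = 0 := hx.1.2
  refine ⟨x, qx, hux, ?_⟩
  rw [hv', map_add, map_smul, LinearMap.add_apply, LinearMap.smul_apply, hux, smul_zero, add_zero] at hvx
  exact hvx

variable {G : Type u} [Group G] {S : Set G}

/-- Reflection coordinates in dimension at least six: twin-free, connected, one class. -/
theorem rco_good {n : ℕ} {μ : ZMod 3} (hS : Closed S) (hn : 6 ≤ n) (h : RCo S n μ) :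
    NoTwins S ∧ Conn S ∧ OneClass S ∧ Edge S := by
  have h' := h
  obtain ⟨Q, hQ, hμ, φ, f⟩ := h
  have hne : ∀ {a b : G}, a ∈ S → b ∈ S → a ≠ b → pb Q (φ a) (φ b) = 0 → Commute a b := fun ha hb hne e =>
    (f.com_iff hS ha hb hne).2 e
  have orth : ∀ a ∈ S, ∃ w ∈ S, w ≠ a ∧ Commute a w := by
    intro a ha
    obtain ⟨v, qv, hv⟩ := exists_orth_one hQ (by omega) (f.norm a ha)
    obtain ⟨w, hw, k, hk, ew⟩ := f.exists_rep qv
    have e0 := (RC.rep_form f hk ew (φ a)).2 hv
    refine ⟨w, hw, fun e => ?_, f.commute_of_form hS ha hw e0⟩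
    rw [e, f.self_form ha] at e0
    exact absurd e0 (by decide)
  have hconn : Conn S := by
    intro a ha b hb
    by_cases hc : Commute a b
    · exact Link.of_commute ha hb hc
    have hab : a ≠ b := fun e => hc (e ▸ Commute.refl a)
    obtain ⟨h1, h2⟩ := f.ne_vec ha hb hab
    obtain ⟨x, qx, hax, hbx⟩ := exists_perp_two hQ (by omega) (f.norm a ha) (f.norm b hb)
      (fun e => hc (hne ha hb hab e)) h1 h2
    obtain ⟨w, hw, k, hk, ew⟩ := f.exists_rep qx
    exact (Link.of_commute ha hw (f.commute_of_form hS ha hw ((RC.rep_form f hk ew (φ a)).2 hax))).trans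
      (Link.of_commute hw hb (f.commute_of_form hS hb hw ((RC.rep_form f hk ew (φ b)).2 hbx)).symm)
  refine ⟨⟨fun a ha b hb hab => ?_, fun a ha b hb hab => ?_⟩, hconn, ?_, ?_⟩
  · by_contra hne'
    have hc : Commute a b := (hab b hb).2 (Commute.refl b)
    obtain ⟨x, w, qx, hax, hbx, hwa, hwx⟩ := exists_far_perp hQ hn (f.norm a ha) (f.norm b hb)
      ((f.com_iff hS ha hb hne').1 hc)
    obtain ⟨z, hz, k, hk, ez⟩ := f.exists_rep qx
    have hza : a ≠ z := fun e => hwx ((RC.rep_form f hk ez w).1 (e ▸ hwa))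
    have hbz : Commute b z := f.commute_of_form hS hb hz ((RC.rep_form f hk ez (φ b)).2 hbx)
    exact hax ((RC.rep_form f hk ez (φ a)).1 ((f.com_iff hS ha hz hza).1 ((hab z hz).2 hbz)))
  · by_contra hne'
    have hc : ¬ Commute a b := fun q => by
      have : b ∈ nb S b := hab ▸ (⟨hb, Ne.symm hne', q⟩ : b ∈ nb S a)
      exact this.2.1 rfl
    obtain ⟨h1, h2⟩ := f.ne_vec ha hb hne'
    obtain ⟨x, qx, hax, hbx⟩ := exists_perp_not_perp hQ (by omega) (f.norm a ha) (f.norm b hb)
      (fun e => hc (hne ha hb hne' e)) h1 h2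
    obtain ⟨z, hz, k, hk, ez⟩ := f.exists_rep qx
    have hza : z ≠ a := by
      intro e
      have := (RC.rep_form f hk ez (φ a)).2 hax
      rw [e, f.self_form ha] at this
      exact absurd this (by decide)
    have hzb : z ∈ nb S b := hab ▸ (⟨hz, hza,
      f.commute_of_form hS ha hz ((RC.rep_form f hk ez (φ a)).2 hax)⟩ : z ∈ nb S a)
    exact hbx ((RC.rep_form f hk ez (φ b)).1 ((f.com_iff hS hb hz hzb.2.1.symm).1 hzb.2.2))
  · refine oneClass_of hS hconn fun x hx y hy hne' hxy => ?_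
    have hxy0 := (f.com_iff hS hx hy hne').1 hxy
    obtain ⟨s, qs, h1, h2⟩ := exists_far_both hQ (by omega) (f.norm x hx) (f.norm y hy) hxy0
    obtain ⟨r, hr, l, hl, er⟩ := f.exists_rep qs
    refine ⟨r, hr, fun c => ?_, fun c => ?_⟩
    · by_cases e : x = r
      · exact h2 ((RC.rep_form f hl er (φ y)).1 (by rw [← e, pb_symm]; exact hxy0))
      · exact h1 ((RC.rep_form f hl er (φ x)).1 ((f.com_iff hS hx hr e).1 c))
    · by_cases e : y = r
      · exact h1 ((RC.rep_form f hl er (φ x)).1 (by rw [← e]; exact hxy0))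
      · exact h2 ((RC.rep_form f hl er (φ y)).1 ((f.com_iff hS hy hr e).1 c))
  · obtain ⟨a, ha⟩ := rco_nonempty (by omega) h'
    obtain ⟨b, hb, hba, hab⟩ := orth a ha
    exact ⟨a, ha, b, hb, hba.symm, hab⟩

variable [Finite G]

/-- The quotient of reflection coordinates satisfies the hypothesis and keeps them. -/
theorem rco_fi {n : ℕ} {μ : ZMod 3} (hS : Closed S) (hn : 6 ≤ n) (h : RCo S n μ) :
    NoTwins S ∧ Fi (qimg S) ∧ RCo (qimg S) n μ := by
  obtain ⟨htw, hconn, hcl, he⟩ := rco_good hS hn h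
  obtain ⟨ψ, g, -⟩ := (SIso.qmap hS htw).symm hS
  exact ⟨htw, fi_quot hS htw hconn hcl he, h.comp g⟩

/-- A group generated modulo its centre by reflection coordinates is a projective reflection group. -/
theorem rco_proj {n : ℕ} {μ : ZMod 3} (hS : Closed S) (hn : 6 ≤ n) (h : RCo S n μ) :
    Cfsg.IsProjReflectionGroupModThree (QG S) n μ 1 := by
  obtain ⟨-, hfi, hq⟩ := rco_fi hS hn h
  obtain ⟨Q, hQ, hμ, e, -⟩ := refl_model hfi.cls hfi.center hq
  exact ⟨Q, hQ, hμ, ⟨e⟩⟩

end CfsgLib.Fischer
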