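import Cfsg.Agent.Fischer.Derived

/-!
Fischer's theorem: three separated classes generate a triality group.
-/

set_option autoImplicit false
set_option linter.unusedSectionVars false
set_option linter.style.haveILetI false

open scoped commutatorElement

namespace CfsgLib.Fischer

open CfsgLib.ThreeT CfsgLib.ThreeT.Prod

universe u

/-- The transposition fixing one letter. -/
def tau3 (i : Fin 3) : Equiv.Perm (Fin 3) := Equiv.swap (i + 1) (i + 2)

theorem tau3_self : ∀ i, tau3 i i = i := by decide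

theorem tau3_other : ∀ i j k : Fin 3, i ≠ j → k ≠ i → k ≠ j → tau3 i j = k := by decide

theorem tau3_two : tau3 0 1 = 2 := by decide

theorem tau3_swap : ∀ σ : Equiv.Perm (Fin 3), σ = 1 ∨ σ = tau3 0 ∨ σ = tau3 1 ∨ σ = tau3 0 * tau3 1 ∨
    σ = tau3 1 * tau3 0 ∨ σ = tau3 0 * tau3 1 * tau3 0 := by decide

variable {G : Type u} [Group G] [Finite G] {S : Set G}

/-- The structure of the group of three separated orthogonal classes. -/
theorem three_group (hS : Closed S) (hgen : Subgroup.closure S = ⊤) (hZ : Subgroup.center G = ⊥) (h : ThreeR8 S) :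
    ∃ N : Subgroup G, ∃ _ : N.Normal, Nonempty (↥N ≃* Cfsg.POmega (ZMod 3) (Cfsg.quadFormPlus 4 (ZMod 3))) ∧
      Nonempty (G ⧸ N ≃* Equiv.Perm (Fin 3)) := by
  classical
  obtain ⟨C, hcov, hsub, hclC, hC, hfar, -⟩ := three_parts hS h
  choose rep hrep using fun i => rco_nonempty (by norm_num) (hC i)
  have huniq : ∀ {x : G} {i j}, x ∈ C i → x ∈ C j → i = j := fun {x i j} hi hj =>
    by_contra fun e => hfar i j e x hi x hj (Commute.refl x)
  have hfi : ∀ i, NoTwins (C i) ∧ Fi (qimg (C i)) ∧ RCo (qimg (C i)) 8 1 := fun i =>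
    rco_fi (hclC i) (by norm_num) (hC i)
  have hcls : ∀ i, OneClass (C i) := fun i => (rco_good (hclC i) (by norm_num) (hC i)).2.2.1
  have hstep : ∀ i, ∀ x ∈ C i, ∀ j, ∀ y ∈ C j, x * y * x ∈ C (tau3 i j) := by
    intro i x hx j y hy
    by_cases e : i = j
    · subst e
      rw [tau3_self]
      exact (hclC i).conj x hx y hy
    obtain ⟨k, hk⟩ := hcov _ (hS.conj x (hsub i hx) y (hsub j hy))
    have hxy := hfar i j e x hx y hy
    have hki : k ≠ i := by
      rintro rfl
      have h1 := (hclC k).conj x hx _ hk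
      rw [hS.conj_conj (hsub k hx)] at h1
      exact e (huniq h1 hy)
    have hkj : k ≠ j := by
      rintro rfl
      have hz : y * x * y ∈ C k := hS.braid (hsub i hx) (hsub k hy) hxy ▸ hk
      have h1 := (hclC k).conj y hy _ hz
      rw [hS.conj_conj (hsub k hy)] at h1
      exact e (huniq hx h1)
    rw [tau3_other i j k e hki hkj]
    exact hk
  -- the action on the three parts
  let A : Subgroup (G × Equiv.Perm (Fin 3)) :=
    { carrier := {p | ∀ j, ∀ y ∈ C j, p.1 * y * p.1⁻¹ ∈ C (p.2 j)}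
      one_mem' := fun j y hy => by simpa using hy
      mul_mem' := fun {p q} hp hq j y hy => by
        show p.1 * q.1 * y * (p.1 * q.1)⁻¹ ∈ C (p.2 (q.2 j))
        rw [show p.1 * q.1 * y * (p.1 * q.1)⁻¹ = p.1 * (q.1 * y * q.1⁻¹) * p.1⁻¹ by group]
        exact hp _ _ (hq j y hy)
      inv_mem' := fun {p} hp j y hy => by
        obtain ⟨i, hi⟩ := hcov _ (hS.conj_mem (hgen ▸ Subgroup.mem_top p.1⁻¹) y (hsub j hy))
        show p.1⁻¹ * y * p.1⁻¹⁻¹ ∈ C (p.2⁻¹ j)
        have h1 := hp i _ hi
        rw [show p.1 * (p.1⁻¹ * y * p.1⁻¹⁻¹) * p.1⁻¹ = y by group] at h1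
        rw [huniq hy h1, Equiv.Perm.inv_def, Equiv.symm_apply_apply]
        exact hi }
  have hmemA : ∀ i, ∀ x ∈ C i, (x, tau3 i) ∈ A := fun i x hx j y hy => by
    show x * y * x⁻¹ ∈ C (tau3 i j)
    rw [hS.inv (hsub i hx)]
    exact hstep i x hx j y hy
  let p₁ : ↥A →* G := (MonoidHom.fst G (Equiv.Perm (Fin 3))).comp A.subtype
  have hp1 : Function.Bijective p₁ := by
    constructor
    · rw [injective_iff_map_eq_one]
      intro p hp
      have h1 : (p : G × Equiv.Perm (Fin 3)).1 = 1 := hp
      refine Subtype.ext (_root_.Prod.ext h1 (Equiv.ext fun j => ?_))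
      have h2 := p.2 j _ (hrep j)
      rw [h1, one_mul, inv_one, mul_one] at h2
      exact (huniq (hrep j) h2).symm
    · rw [← MonoidHom.range_eq_top, eq_top_iff, ← hgen, Subgroup.closure_le]
      intro x hx
      obtain ⟨i, hi⟩ := hcov x hx
      exact ⟨⟨_, hmemA i x hi⟩, rfl⟩
  let E := MulEquiv.ofBijective p₁ hp1
  let π : G →* Equiv.Perm (Fin 3) :=
    ((MonoidHom.snd G (Equiv.Perm (Fin 3))).comp A.subtype).comp E.symm.toMonoidHom
  have hπval : ∀ i, ∀ x ∈ C i, π x = tau3 i := fun i x hx => by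
    have e : E.symm x = ⟨_, hmemA i x hx⟩ := E.symm_apply_eq.2 rfl
    show ((E.symm x : ↥A) : G × Equiv.Perm (Fin 3)).2 = _
    rw [e]
  have hπact : ∀ g : G, ∀ j, ∀ y ∈ C j, g * y * g⁻¹ ∈ C (π g j) := fun g j y hy => by
    have h1 : ((E.symm g : ↥A) : G × Equiv.Perm (Fin 3)).1 = g := E.apply_symm_apply g
    have h2 := (E.symm g).2 j y hy
    rw [h1] at h2
    exact h2
  -- the derived subgroups
  set M : Fin 3 → Subgroup G := fun i => ⁅Subgroup.closure (C i), Subgroup.closure (C i)⁆ with hM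
  have hMperf : ∀ i, ⁅M i, M i⁆ = M i := fun i => derived_perfect (hclC i) (hcls i) (hfi i).2.1 (hrep i)
  have hMker : ∀ i, M i ≤ π.ker := by
    intro i
    rw [← Subgroup.map_eq_bot_iff, Subgroup.map_commutator, Subgroup.commutator_eq_bot_iff_le_centralizer]
    have hle : (Subgroup.closure (C i)).map π ≤ Subgroup.zpowers (tau3 i) := by
      rw [MonoidHom.map_closure, Subgroup.closure_le]
      rintro _ ⟨x, hx, rfl⟩
      rw [hπval i x hx]
      exact Subgroup.mem_zpowers _
    intro a ha
    refine Subgroup.mem_centralizer_iff.2 fun b hb => ?_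
    obtain ⟨k, rfl⟩ := Subgroup.mem_zpowers_iff.1 (hle ha)
    obtain ⟨l, rfl⟩ := Subgroup.mem_zpowers_iff.1 (hle hb)
    exact ((Commute.refl _).zpow_zpow l k).eq
  have hMconj : ∀ (g : G) (j : Fin 3), ∀ n ∈ M j, g * n * g⁻¹ ∈ M (π g j) := by
    intro g j n hn
    have hle : (Subgroup.closure (C j)).map (MulAut.conj g).toMonoidHom ≤ Subgroup.closure (C (π g j)) := by
      rw [MonoidHom.map_closure, Subgroup.closure_le]
      rintro _ ⟨y, hy, rfl⟩
      exact Subgroup.subset_closure (hπact g j y hy)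
    have h1 : (MulAut.conj g).toMonoidHom n ∈ (M j).map (MulAut.conj g).toMonoidHom := Subgroup.mem_map_of_mem _ hn
    rw [Subgroup.map_commutator] at h1
    exact Subgroup.commutator_mono hle hle h1
  have hfix : ∀ i j, (∀ m ∈ M i, ∀ n ∈ M j, Commute m n) → ∀ m ∈ M i, ∀ b ∈ C j, Commute m b := by
    intro i j hcom m hm b hb
    refine commute_of_derived (hclC j) (hfi j).1 (hfi j).2.1 (hcom m hm) (fun y hy => ?_) hb
    have h1 := hπact m j y hy
    rwa [show π m = 1 from hMker i hm] at h1
  have hle : ∀ i j, M i ≤ M j := by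
    intro i j
    by_cases e : i = j
    · rw [e]
    set I := M i ⊓ M j
    set K := Subgroup.closure (C i)
    have hMK : M i ≤ K := Subgroup.commutator_le_self K
    set q := QuotientGroup.mk' (Subgroup.center ↥K)
    have hnorm : ∀ m ∈ M i, ∀ t ∈ I, m * t * m⁻¹ ∈ I := by
      intro m hm t ht
      refine ⟨(M i).mul_mem ((M i).mul_mem hm ht.1) ((M i).inv_mem hm), ?_⟩
      have h1 := hMconj m j t ht.2
      rwa [show π m = 1 from hMker i hm] at h1
    have hK' : ∀ k : ↥K, k ∈ commutator ↥K ↔ (k : G) ∈ M i := by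
      intro k
      rw [← Subgroup.mem_map_iff_mem (f := K.subtype) K.subtype_injective, Subgroup.map_subtype_commutator]
      rfl
    haveI hsimple := (hfi i).2.1.simple
    set J : Subgroup ↥(commutator (QG (C i))) := ((I.subgroupOf K).map q).subgroupOf (commutator (QG (C i)))
    have hJn : J.Normal := by
      refine ⟨fun x hx g => ?_⟩
      obtain ⟨m, hm, em⟩ := commutator_map_mk.ge g.2
      obtain ⟨t, ht, et⟩ := Subgroup.mem_subgroupOf.1 hx
      refine Subgroup.mem_subgroupOf.2 ⟨m * t * m⁻¹, hnorm _ ((hK' m).1 hm) _ ht, ?_⟩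
      rw [map_mul, map_mul, map_inv]
      show q m * q t * (q m)⁻¹ = ((g * x * g⁻¹ : ↥(commutator (QG (C i)))) : QG (C i))
      rw [show q m = (g : QG (C i)) from em, show q t = (x : QG (C i)) from et]
      rfl
    rcases hJn.eq_bot_or_eq_top with hb | ht
    · exfalso
      have hIc : ∀ t ∈ I, ∀ m ∈ M i, Commute t m := by
        intro t ht m hm
        let t' : ↥K := ⟨t, hMK ht.1⟩
        have ht' : q t' ∈ commutator (QG (C i)) := commutator_map_mk.le (Subgroup.mem_map_of_mem q ((hK' t').2 ht.1))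
        have h1 : (⟨q t', ht'⟩ : ↥(commutator (QG (C i)))) ∈ J :=
          Subgroup.mem_subgroupOf.2 (Subgroup.mem_map_of_mem q (Subgroup.mem_subgroupOf.2 ht))
        rw [hb, Subgroup.mem_bot] at h1
        have h2 : t' ∈ Subgroup.center ↥K := (QuotientGroup.eq_one_iff t').1 (congrArg Subtype.val h1)
        exact (congrArg Subtype.val (Subgroup.mem_center_iff.1 h2 ⟨m, hMK hm⟩)).symm
      have hbot : ⁅⁅M i, M j⁆, M i⁆ = ⊥ := by
        rw [Subgroup.commutator_eq_bot_iff_le_centralizer]
        intro t ht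
        have htI : t ∈ I := by
          have hle' : ⁅M i, M j⁆ ≤ I := by
            rw [Subgroup.commutator_le]
            intro p hp r hr
            have h1 := hMconj r i p⁻¹ ((M i).inv_mem hp)
            rw [show π r = 1 from hMker j hr] at h1
            have h2 := hMconj p j r hr
            rw [show π p = 1 from hMker i hp] at h2
            refine ⟨?_, ?_⟩
            · rw [commutatorElement_def, show p * r * p⁻¹ * r⁻¹ = p * (r * p⁻¹ * r⁻¹) by group]
              exact (M i).mul_mem hp h1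
            · rw [commutatorElement_def]
              exact (M j).mul_mem h2 ((M j).inv_mem hr)
          exact hle' ht
        exact Subgroup.mem_centralizer_iff.2 fun m hm => (hIc t htI m hm).eq.symm
      have h0 : ⁅⁅M i, M i⁆, M j⁆ = ⊥ :=
        Subgroup.commutator_commutator_eq_bot_of_rotate hbot (by rw [Subgroup.commutator_comm (M j)]; exact hbot)
      rw [hMperf i, Subgroup.commutator_eq_bot_iff_le_centralizer] at h0
      have hfixb := hfix i j (fun m hm n hn => (Subgroup.mem_centralizer_iff.1 (h0 hm) n hn).symm)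
      obtain ⟨a₁, a₂, hne, hnc⟩ : ∃ a₁ a₂ : C i, a₁ ≠ a₂ ∧ ¬ Commute (a₁ : G) a₂ := by
        obtain ⟨d, hd, -⟩ := (hfi i).2.1.width
        obtain ⟨c, hc, hdc⟩ := (hfi i).2.1.exists_far hd
        obtain ⟨x, hx, rfl⟩ := (qmap_bijOn (hclC i) (hfi i).1).surjOn hd
        obtain ⟨y, hy, rfl⟩ := (qmap_bijOn (hclC i) (hfi i).1).surjOn hc
        exact ⟨⟨x, hx⟩, ⟨y, hy⟩, fun q' => hdc (by rw [show x = y from congrArg Subtype.val q']),
          fun q' => hdc ((qmap_commute (hclC i) (hfi i).1 hx hy).2 q')⟩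
      obtain ⟨a, ha⟩ := a₁
      obtain ⟨a', ha'⟩ := a₂
      have hb' := hrep j
      set b := rep j
      have hmM : ⁅a, a'⁆ ∈ M i :=
        Subgroup.commutator_mem_commutator (Subgroup.subset_closure ha) (Subgroup.subset_closure ha')
      have hm : ⁅a, a'⁆ = a' * a := by
        have hbr := hS.braid (hsub i ha) (hsub i ha') hnc
        rw [commutatorElement_def, hS.inv (hsub i ha), hS.inv (hsub i ha'), hbr, hS.cancel_right (hsub i ha')]
      have h1 := hfixb _ hmM b hb'
      rw [hm] at h1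
      have h2 : a * b * a = a' * b * a' := by
        have h3 : a' * a * b * (a' * a)⁻¹ = b := by rw [h1.eq, mul_inv_cancel_right]
        rw [mul_inv_rev, hS.inv (hsub i ha), hS.inv (hsub i ha')] at h3
        calc a * b * a = a' * (a' * a * b * (a * a')) * a' := by
              rw [show a' * (a' * a * b * (a * a')) * a' = a' * a' * (a * b * a) * (a' * a') by group,
                hS.sq (hsub i ha'), one_mul, mul_one]
          _ = a' * b * a' := by rw [h3]
      rw [hS.braid (hsub i ha) (hsub j hb') (hfar i j e a ha b hb'),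
        hS.braid (hsub i ha') (hsub j hb') (hfar i j e a' ha' b hb')] at h2
      exact hne (Subtype.ext (mul_left_cancel (mul_right_cancel h2)))
    · have hlift : ∀ m : ↥K, (m : G) ∈ M i → ∃ t : ↥K, (t : G) ∈ I ∧ m⁻¹ * t ∈ Subgroup.center ↥K := by
        intro m hm
        have hm' : q m ∈ commutator (QG (C i)) := commutator_map_mk.le (Subgroup.mem_map_of_mem q ((hK' m).2 hm))
        obtain ⟨t, ht', et⟩ := Subgroup.mem_subgroupOf.1 (show (⟨q m, hm'⟩ : ↥(commutator (QG (C i)))) ∈ J from
          ht ▸ Subgroup.mem_top _)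
        exact ⟨t, ht', QuotientGroup.eq.1 et.symm⟩
      rw [← hMperf i, Subgroup.commutator_le]
      intro p hp r hr
      obtain ⟨t, ht, hz⟩ := hlift ⟨p, hMK hp⟩ hp
      obtain ⟨t', ht', hz'⟩ := hlift ⟨r, hMK hr⟩ hr
      set z := (⟨p, hMK hp⟩ : ↥K)⁻¹ * t with hzd
      set z' := (⟨r, hMK hr⟩ : ↥K)⁻¹ * t' with hzd'
      have e1 : ⁅t, t'⁆ = ⁅(⟨p, hMK hp⟩ : ↥K), (⟨r, hMK hr⟩ : ↥K)⁆ := by
        rw [show t = (⟨p, hMK hp⟩ : ↥K) * z by rw [hzd]; group, show t' = (⟨r, hMK hr⟩ : ↥K) * z' by rw [hzd']; group]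
        set P : ↥K := ⟨p, hMK hp⟩
        set R : ↥K := ⟨r, hMK hr⟩
        have hc : ∀ k, z * k = k * z := fun k => (Subgroup.mem_center_iff.1 hz k).symm
        have hc' : ∀ k, z' * k = k * z' := fun k => (Subgroup.mem_center_iff.1 hz' k).symm
        rw [commutatorElement_def, commutatorElement_def]
        calc P * z * (R * z') * (P * z)⁻¹ * (R * z')⁻¹ = P * (z * (R * z')) * z⁻¹ * P⁻¹ * z'⁻¹ * R⁻¹ := by group
          _ = P * R * z' * (z * z⁻¹) * P⁻¹ * z'⁻¹ * R⁻¹ := by rw [hc]; group
          _ = P * R * (z' * P⁻¹) * z'⁻¹ * R⁻¹ := by group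
          _ = P * R * P⁻¹ * R⁻¹ := by rw [hc']; group
      have e2 : ((⁅t, t'⁆ : ↥K) : G) = ⁅(t : G), (t' : G)⁆ := map_commutatorElement K.subtype t t'
      rw [e1] at e2
      rw [show ⁅p, r⁆ = ((⁅(⟨p, hMK hp⟩ : ↥K), (⟨r, hMK hr⟩ : ↥K)⁆ : ↥K) : G) from
        (map_commutatorElement K.subtype ⟨p, hMK hp⟩ ⟨r, hMK hr⟩).symm, e2]
      exact Subgroup.commutator_le_self _ (Subgroup.commutator_mem_commutator ht.2 ht'.2)
  have heq : ∀ i, M i = M 0 := fun i => le_antisymm (hle i 0) (hle 0 i)
  haveI hN : (M 0).Normal := ⟨fun n hn g => heq _ ▸ hMconj g 0 n hn⟩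
  refine ⟨M 0, hN, ?_, ?_⟩
  · -- the derived subgroup
    set K := Subgroup.closure (C 0)
    set q := QuotientGroup.mk' (Subgroup.center ↥K)
    have hK' : (commutator ↥K).map K.subtype = M 0 := Subgroup.map_subtype_commutator K
    let f : ↥(commutator ↥K) →* ↥(commutator (QG (C 0))) :=
      (q.comp (commutator ↥K).subtype).codRestrict _ fun k => commutator_map_mk.le (Subgroup.mem_map_of_mem q k.2)
    have hf : Function.Bijective f := by
      refine ⟨(injective_iff_map_eq_one _).2 fun k hk => ?_, fun x => ?_⟩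
      · have hz : (k : ↥K) ∈ Subgroup.center ↥K :=
          (QuotientGroup.eq_one_iff (k : ↥K)).1 (congrArg Subtype.val hk)
        set z : G := ((k : ↥K) : G)
        have hzM : ∀ i, z ∈ M i := fun i => heq i ▸ hK' ▸ Subgroup.mem_map_of_mem K.subtype k.2
        have hzK : ∀ g ∈ K, Commute z g := fun g hg =>
          (congrArg Subtype.val (Subgroup.mem_center_iff.1 hz ⟨g, hg⟩)).symm
        have hall : ∀ j, ∀ b ∈ C j, Commute z b := by
          intro j b hb
          refine commute_of_derived (hclC j) (hfi j).1 (hfi j).2.1 (fun n hn => ?_) (fun y hy => ?_) hb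
          · exact hzK n (Subgroup.commutator_le_self K (show n ∈ M 0 from heq j ▸ hn))
          · have h1 := hπact z j y hy
            rwa [show π z = 1 from hMker 0 (hzM 0)] at h1
        have hzc : z ∈ Subgroup.center G := Subgroup.mem_center_iff.2 fun g =>
          (Prod.commute_of_closure (S := S) (fun y hy => by
            obtain ⟨j, hj⟩ := hcov y hy
            exact (hall j y hj).symm) g (hgen ▸ Subgroup.mem_top g)).eq
        rw [hZ, Subgroup.mem_bot] at hzc
        exact Subtype.ext (Subtype.ext hzc)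
      · obtain ⟨k, hk, ek⟩ := commutator_map_mk.ge x.2
        exact ⟨⟨k, hk⟩, Subtype.ext ek⟩
    obtain ⟨Q, hQ, hμ, e, -⟩ := refl_model (hfi 0).2.1.cls (hfi 0).2.1.center (hfi 0).2.2
    obtain ⟨eo⟩ := refl_omega hQ (by norm_num)
    obtain ⟨ep⟩ := pomega_eight hQ hμ
    exact ⟨(((MulEquiv.subgroupCongr hK').symm.trans
      (Subgroup.equivMapOfInjective _ _ K.subtype_injective).symm).trans (MulEquiv.ofBijective f hf)).trans
      ((((e.subgroupMap (commutator (QG (C 0)))).trans
        (MulEquiv.subgroupCongr (CfsgLib.Quad.commutator_map_equiv e))).trans eo).trans ep)⟩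
  · -- the quotient
    set q := QuotientGroup.mk' (M 0)
    let pb : G ⧸ M 0 →* Equiv.Perm (Fin 3) := QuotientGroup.lift _ π (hMker 0)
    have hpb : ∀ g, pb (q g) = π g := fun g => rfl
    have ha := hrep 0
    have hb := hrep 1
    set a := rep 0
    set b := rep 1
    set α := q a with hα
    set β := q b with hβ
    have hαα : α * α = 1 := by rw [hα, ← map_mul, hS.sq (hsub 0 ha), map_one]
    have hββ : β * β = 1 := by rw [hβ, ← map_mul, hS.sq (hsub 1 hb), map_one]
    have hαβ : α * β * α = β * α * β := by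
      rw [hα, hβ, ← map_mul, ← map_mul, ← map_mul, ← map_mul,
        hS.braid (hsub 0 ha) (hsub 1 hb) (hfar 0 1 (by decide) a ha b hb)]
    have hsame : ∀ i, ∀ x ∈ C i, ∀ y ∈ C i, q x = q y := by
      intro i x hx y hy
      obtain ⟨k, hk, ek⟩ := exists_derived (hcls i) hy hx
      rw [ek, map_mul, show q k = 1 from (QuotientGroup.eq_one_iff k).2 (show k ∈ M 0 from heq i ▸ hk), one_mul]
    have hgens : ∀ x ∈ S, q x = α ∨ q x = β ∨ q x = α * β * α := by
      intro x hx
      obtain ⟨i, hi⟩ := hcov x hx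
      have hc : a * b * a ∈ C 2 := tau3_two ▸ hstep 0 a ha 1 b hb
      fin_cases i
      · exact Or.inl (hsame 0 x hi a ha)
      · exact Or.inr (Or.inl (hsame 1 x hi b hb))
      · refine Or.inr (Or.inr ?_)
        rw [hα, hβ, ← map_mul, ← map_mul]
        exact hsame 2 x hi _ hc
    let U : Set (G ⧸ M 0) := {1, α, β, α * β, β * α, α * β * α}
    have hαU : ∀ w ∈ U, α * w ∈ U := by
      intro w hw
      simp only [U, Set.mem_insert_iff, Set.mem_singleton_iff] at hw ⊢
      rcases hw with rfl | rfl | rfl | rfl | rfl | rfl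
      · simp
      · simp [hαα]
      · simp
      · simp [← mul_assoc, hαα]
      · simp [← mul_assoc]
      · simp [← mul_assoc, hαα]
    have hβU : ∀ w ∈ U, β * w ∈ U := by
      intro w hw
      simp only [U, Set.mem_insert_iff, Set.mem_singleton_iff] at hw ⊢
      rcases hw with rfl | rfl | rfl | rfl | rfl | rfl
      · simp
      · simp
      · simp [hββ]
      · simp [← mul_assoc, hαβ]
      · simp [← mul_assoc, hββ]
      · rw [hαβ]; simp [← mul_assoc, hββ]
    have htopU : ∀ g : G, q g ∈ U := by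
      intro g
      have hg : g ∈ Subgroup.closure S := hgen ▸ Subgroup.mem_top g
      induction hg using Subgroup.closure_induction_left with
      | one => rw [map_one]; simp [U]
      | mul_left x hx y _ ih =>
        rw [map_mul]
        rcases hgens x hx with e | e | e <;> rw [e]
        exacts [hαU _ ih, hβU _ ih, by rw [mul_assoc, mul_assoc]; exact hαU _ (hβU _ (hαU _ ih))]
      | inv_mul_cancel x hx y _ ih =>
        rw [map_mul, hS.inv hx]
        rcases hgens x hx with e | e | e <;> rw [e]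
        exacts [hαU _ ih, hβU _ ih, by rw [mul_assoc, mul_assoc]; exact hαU _ (hβU _ (hαU _ ih))]
    have hcard : Nat.card (G ⧸ M 0) ≤ Nat.card (Equiv.Perm (Fin 3)) := by
      rw [Nat.card_perm, Nat.card_fin]
      calc Nat.card (G ⧸ M 0) = (Set.univ : Set (G ⧸ M 0)).ncard := (Set.ncard_univ _).symm
        _ ≤ U.ncard := Set.ncard_le_ncard (fun z _ => by
            obtain ⟨g, rfl⟩ := QuotientGroup.mk_surjective z
            exact htopU g) (Set.toFinite _)
        _ ≤ 6 := by
            refine (Set.ncard_insert_le _ _).trans ?_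
            refine Nat.succ_le_succ ((Set.ncard_insert_le _ _).trans ?_)
            refine Nat.succ_le_succ ((Set.ncard_insert_le _ _).trans ?_)
            refine Nat.succ_le_succ ((Set.ncard_insert_le _ _).trans ?_)
            refine Nat.succ_le_succ ((Set.ncard_insert_le _ _).trans ?_)
            simp
    have hsurj : Function.Surjective pb := by
      intro σ
      have h0 : π a = tau3 0 := hπval 0 a ha
      have h1 : π b = tau3 1 := hπval 1 b hb
      rcases tau3_swap σ with rfl | rfl | rfl | rfl | rfl | rfl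
      · exact ⟨1, map_one _⟩
      · exact ⟨q a, by rw [hpb, h0]⟩
      · exact ⟨q b, by rw [hpb, h1]⟩
      · exact ⟨q (a * b), by rw [hpb, map_mul, h0, h1]⟩
      · exact ⟨q (b * a), by rw [hpb, map_mul, h0, h1]⟩
      · exact ⟨q (a * b * a), by rw [hpb, map_mul, map_mul, h0, h1]⟩
    exact ⟨MulEquiv.ofBijective pb (hsurj.bijective_of_nat_card_le hcard)⟩

end CfsgLib.Fischer
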