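import Cfsg.Agent.Fischer.UniStep

/-!
Fischer's theorem: unitary coordinates are twin-free, connected and form one class.
-/

set_option autoImplicit false
set_option linter.unusedSectionVars false
set_option linter.style.haveILetI false

namespace CfsgLib.Fischer

open CfsgLib.ThreeT CfsgLib.ThreeT.Prod CfsgLib.ThreeT.Tv

universe u

variable {G : Type u} [Group G] {S : Set G}

/-- Unitary coordinates in dimension at least four. -/
theorem uco_good {n : ℕ} (hS : Closed S) (hn : 4 ≤ n) (h : UCo S n) :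
    NoTwins S ∧ Conn S ∧ OneClass S ∧ Edge S := by
  obtain ⟨K, i1, i2, hK, φ, f⟩ := h
  obtain ⟨W⟩ := exists_wt hK
  obtain ⟨k, rfl⟩ : ∃ k, n = k + 2 := ⟨n - 2, by omega⟩
  obtain ⟨v₀, hv₀, hv₀'⟩ := exists_iso_vec W (m := k) (by omega)
  have perp2 : ∀ {p q : Fin (k + 2) → K}, Cfsg.hermForm (k + 2) K 2 p p = 0 → Cfsg.hermForm (k + 2) K 2 q q = 0 →
      Cfsg.hermForm (k + 2) K 2 p q ≠ 0 → ∃ z ∈ S, ∃ l : K, l ≠ 0 ∧
        Cfsg.hermForm (k + 2) K 2 (φ z) p = 0 ∧ Cfsg.hermForm (k + 2) K 2 (φ z) q = 0 := by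
    intro p q hp hq hpq
    obtain ⟨E, hE, hEh, hEr⟩ := exists_embed W hp hq hpq rfl
    obtain ⟨h1, h2⟩ := (hEr (E v₀)).2 ⟨v₀, rfl⟩
    obtain ⟨z, hz, l, hl, ez⟩ := f.exists_rep W (v := E v₀) (fun e => hv₀ (hE (e.trans (map_zero E).symm)))
      (by rw [hEh]; exact hv₀')
    exact ⟨z, hz, l, hl, by rw [ez, Wt.hh_smul_left, h1, mul_zero], by rw [ez, Wt.hh_smul_left, h2, mul_zero]⟩
  have hconn : Conn S := by
    intro a ha b hb
    by_cases hc : Commute a b
    · exact Link.of_commute ha hb hc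
    obtain ⟨z, hz, l, -, h1, h2⟩ := perp2 (f.iso a ha) (f.iso b hb) fun e => hc ((f.com_iff W hS ha hb).2 e)
    exact (Link.of_commute hz ha ((f.com_iff W hS hz ha).2 h1)).symm.trans
      (Link.of_commute hz hb ((f.com_iff W hS hz hb).2 h2))
  refine ⟨⟨fun a ha b hb hab => ?_, fun a ha b hb hab => ?_⟩, hconn, ?_, ?_⟩
  · by_contra hne
    have hc : Commute a b := (hab b hb).2 (Commute.refl b)
    have hab0 := (f.com_iff W hS ha hb).1 hc
    obtain ⟨q, hq, hbq⟩ := exists_far W (f.nz b hb) (f.iso b hb)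
    obtain ⟨E, hE, hEh, hEr⟩ := exists_embed W (f.iso b hb) hq hbq rfl
    set α : K := Cfsg.hermForm (k + 2) K 2 (φ a) q / Cfsg.hermForm (k + 2) K 2 (φ b) q with hα
    set x := φ a + α • φ b with hx
    have hx1 : Cfsg.hermForm (k + 2) K 2 x (φ b) = 0 := by
      rw [hx, Wt.hh_add_left, hab0, Wt.hh_smul_left, f.iso b hb, mul_zero, add_zero]
    have hx2 : Cfsg.hermForm (k + 2) K 2 x q = 0 := by
      rw [hx, Wt.hh_add_left, Wt.hh_smul_left, hα, div_mul_cancel₀ _ hbq, W.add_self]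
    obtain ⟨w, hw⟩ := (hEr x).1 ⟨hx1, hx2⟩
    have hx0 : x ≠ 0 := by
      intro e
      rw [hx] at e
      refine hne (f.inj a ha b hb α ?_)
      rw [eq_neg_of_add_eq_zero_left e]
      funext i
      show -(α • φ b) i = (α • φ b) i
      exact neg_eq_of_add_eq_zero_left (W.add_self _)
    have hxx : Cfsg.hermForm (k + 2) K 2 x x = 0 := by
      have h3 : Cfsg.hermForm (k + 2) K 2 (φ b) (φ a) = 0 := (W.hh_comm _ _).1 hab0
      rw [hx, Wt.hh_add_left, W.hh_add_right, W.hh_add_right, Wt.hh_smul_left, Wt.hh_smul_left,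
        Wt.hh_smul_right, Wt.hh_smul_right, f.iso a ha, f.iso b hb, hab0, h3]
      simp
    have hw0 : w ≠ 0 := fun e => hx0 (by rw [← hw, e, map_zero])
    have hww : Cfsg.hermForm k K 2 w w = 0 := by rw [← hEh, hw, hxx]
    obtain ⟨v, hv, hwv⟩ := exists_far W hw0 hww
    obtain ⟨h1, h2⟩ := (hEr (E v)).2 ⟨v, rfl⟩
    obtain ⟨z, hz, l, hl, ez⟩ := f.exists_rep W (v := E v)
      (fun e => hwv (by rw [hE (e.trans (map_zero E).symm), hh_zero_right W]))
      (by rw [hEh]; exact hv)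
    have hbz : Cfsg.hermForm (k + 2) K 2 (φ b) (φ z) = 0 := by
      rw [ez, Wt.hh_smul_right, (W.hh_comm _ _).1 h1, mul_zero]
    have haz := (f.com_iff W hS ha hz).1 ((hab z hz).2 ((f.com_iff W hS hb hz).2 hbz))
    have hxz : Cfsg.hermForm (k + 2) K 2 x (φ z) = 0 := by
      rw [hx, Wt.hh_add_left, Wt.hh_smul_left, haz, hbz, mul_zero, add_zero]
    rw [ez, Wt.hh_smul_right, ← hw, hEh] at hxz
    exact hwv ((mul_eq_zero.1 hxz).resolve_left (pow_ne_zero _ hl))
  · by_contra hne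
    have hc : ¬ Commute a b := fun q => by
      have : b ∈ nb S b := hab ▸ (⟨hb, Ne.symm hne, q⟩ : b ∈ nb S a)
      exact this.2.1 rfl
    have huv : Cfsg.hermForm (k + 2) K 2 (φ a) (φ b) ≠ 0 := fun e => hc ((f.com_iff W hS ha hb).2 e)
    obtain ⟨E, hE, hEh, hEr⟩ := exists_embed W (f.iso a ha) (f.iso b hb) huv rfl
    obtain ⟨h1, h2⟩ := (hEr (E v₀)).2 ⟨v₀, rfl⟩
    have hw0 : φ a + E v₀ ≠ 0 := fun e => huv (by
      have := congrArg (fun x => Cfsg.hermForm (k + 2) K 2 x (φ b)) e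
      simpa [Wt.hh_add_left, h2, hh_zero_left W] using this)
    obtain ⟨w, hw, l, hl, ew⟩ := f.exists_rep W (v := φ a + E v₀) hw0 (by
      rw [Wt.hh_add_left, W.hh_add_right, W.hh_add_right, f.iso a ha, hEh, hv₀', h1, (W.hh_comm _ _).1 h1]; simp)
    have hwa : w ∈ nb S a := by
      refine ⟨hw, fun e => ?_, ((f.com_iff W hS hw ha).2 (by
        rw [ew, Wt.hh_smul_left, Wt.hh_add_left, f.iso a ha, h1, add_zero, mul_zero])).symm⟩
      subst e
      have e2 : E v₀ = (l⁻¹ - 1) • φ w := by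
        rw [sub_smul, one_smul]
        have h6 := congrArg (fun z => l⁻¹ • z) ew
        simp only [smul_smul, inv_mul_cancel₀ hl, one_smul] at h6
        rw [h6, add_sub_cancel_left]
      have h5 : (l⁻¹ - 1) * Cfsg.hermForm (k + 2) K 2 (φ w) (φ b) = 0 := by rw [← Wt.hh_smul_left, ← e2, h2]
      rw [(mul_eq_zero.1 h5).resolve_right huv, zero_smul] at e2
      exact hv₀ (hE (e2.trans (map_zero E).symm))
    have h3 := (f.com_iff W hS hw hb).1 (hab ▸ hwa : w ∈ nb S b).2.2.symm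
    rw [ew, Wt.hh_smul_left, Wt.hh_add_left, h2, add_zero] at h3
    exact huv ((mul_eq_zero.1 h3).resolve_left hl)
  · refine oneClass_of hS hconn fun x hx y hy _ _ => ?_
    obtain ⟨q, hq, h1, h2⟩ := exists_far_two W (f.nz x hx) (f.iso x hx) (f.nz y hy) (f.iso y hy)
    obtain ⟨s, hs, l, hl, es⟩ := f.exists_rep W (v := q) (fun e => h1 (by rw [e, hh_zero_right W])) hq
    refine ⟨s, hs, fun c => ?_, fun c => ?_⟩
    · have h3 := (f.com_iff W hS hx hs).1 c
      rw [es, Wt.hh_smul_right] at h3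
      exact h1 ((mul_eq_zero.1 h3).resolve_left (pow_ne_zero _ hl))
    · have h3 := (f.com_iff W hS hy hs).1 c
      rw [es, Wt.hh_smul_right] at h3
      exact h2 ((mul_eq_zero.1 h3).resolve_left (pow_ne_zero _ hl))
  · obtain ⟨u, hu, hu'⟩ := exists_iso_vec W (m := k + 2) (by omega)
    obtain ⟨a, ha, -⟩ := f.exists_rep W hu hu'
    obtain ⟨q, hq, haq⟩ := exists_far W (f.nz a ha) (f.iso a ha)
    obtain ⟨z, hz, l, -, h1, h2⟩ := perp2 (f.iso a ha) hq haq
    exact ⟨a, ha, z, hz, fun e => haq (e ▸ h2), ((f.com_iff W hS hz ha).2 h1).symm⟩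

end CfsgLib.Fischer
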