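import Cfsg.Agent.Fischer.Main
import Cfsg.Agent.Fischer.RcoGood
import Cfsg.Agent.Fischer.UcoGood
import Cfsg.Agent.Fischer.ThreeParts

/-!
Fischer's theorem: the groups of type M(22), M(23) and M(24), and the step from good neighbourhoods.
-/

set_option autoImplicit false
set_option linter.unusedSectionVars false
set_option linter.style.haveILetI false

namespace CfsgLib.Fischer

open CfsgLib.ThreeT CfsgLib.ThreeT.Prod CfsgLib.ThreeT.Tv

universe u

/-- The types that occur above a good neighbourhood. -/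
inductive Stepped {G : Type u} [Group G] (S : Set G) : Prop
  | sym (m : ℕ) (hm : 7 ≤ m) (h : SymCo S m)
  | quad (m : ℕ) (hm : 4 ≤ m) (h : QuadCo S m)
  | refl (n : ℕ) (hn : 5 ≤ n) (μ : ZMod 3) (h : RCo S n μ)
  | t22 (h : T22 S)
  | t23 (h : T23 S)
  | t24 (h : T24 S)

variable {G : Type u} [Group G] [Finite G] {D : Set G}

/-- One good neighbourhood makes all good. -/
theorem good_all (h : Fi D) {d : G} (hd : d ∈ D) (htw : NoTwins (nb D d)) (he : Edge (nb D d)) :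
    ∀ a ∈ D, NoTwins (nb D a) ∧ Fi (qimg (nb D a)) := by
  intro a ha
  obtain ⟨φ, f⟩ := h.nb_siso hd ha
  have htw' := f.symm_noTwins htw
  have he' := f.edge he
  exact ⟨htw', fi_quot (h.nb_closed a) htw' (h.nb_conn ha htw' he') (h.nb_oneClass ha) he'⟩

/-- Good neighbourhoods determine the type. -/
theorem stepped_of_good (h : Fi D) (hgood : ∀ a ∈ D, NoTwins (nb D a) ∧ Fi (qimg (nb D a))) : Stepped D := by
  obtain ⟨d, hd, -⟩ := h.width
  have hk : Known (nb D d) := (known_of_fi (hgood d hd).2).comp (SIso.qmap (h.nb_closed d) (hgood d hd).1)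
  have hs : ∀ a ∈ D, ∃ φ : G → G, SIso (nb D a) (nb D d) φ := fun a ha => h.nb_siso ha hd
  cases hk with
  | sym m hm h' =>
    exact .sym (m + 2) (by omega) (step_sym h
      (fun a ha => let ⟨_, f⟩ := hs a ha; h'.comp f) (by omega) (by omega))
  | symp m hm h' =>
    have hq := step_symp (m := m) h (fun a ha => let ⟨_, f⟩ := hs a ha; h'.comp f)
    by_cases h2 : m = 2
    · subst h2
      rcases quad_three h.closed hq with hq | hq
      · exact .sym 8 (by omega) hq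
      · exact .refl 5 le_rfl 1 hq
    · exact .quad (m + 1) (by omega) hq
  | quad m hm h' =>
    exact (step_quad (m := m) h (fun a ha => let ⟨_, f⟩ := hs a ha; h'.comp f) hm).elim
  | uni n hn h' =>
    exact .t22 (step_uni h (fun a ha => let ⟨_, f⟩ := hs a ha; h'.comp f) hn)
  | refl n hn μ h' =>
    exact .refl (n + 1) (by omega) (2 * μ) (step_refl h (fun a ha => let ⟨_, f⟩ := hs a ha; h'.comp f) hn)
  | t22 h' =>
    exact .t23 (step_t22 h (fun a ha => let ⟨_, f⟩ := hs a ha; h'.comp f) hgood)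
  | t23 h' =>
    exact .t24 (step_t23 h (fun a ha => let ⟨_, f⟩ := hs a ha; h'.comp f) hgood)
  | t24 h' =>
    exact (twentyFour_false h fun a ha => let ⟨_, f⟩ := hs a ha; h'.comp f).elim

/-- Members of both neighbourhoods of a far pair. -/
theorem inter_nb_eq_tri {d c : G} (hdc : ¬ Commute d c) :
    {y : G | y ∈ D ∧ y ≠ d ∧ Commute d y} ∩ {y : G | y ∈ D ∧ y ≠ c ∧ Commute c y} = tri D d c := by
  ext y
  exact ⟨fun q => ⟨q.1, q.2.2.2.symm⟩,
    fun q => ⟨q.1, q.1.1, fun e => hdc (e ▸ q.1.2.2), q.2.symm⟩⟩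

/-- A group of type M(22). -/
theorem type22 (h : Fi D) (ht : T22 D) : Cfsg.IsOfTypeM22 G D := by
  obtain ⟨d, hd, -⟩ := h.width
  obtain ⟨c, hc, hdc⟩ := h.exists_far hd
  refine ⟨h.center, d, hd, c, hc, hdc, ?_, ?_⟩
  · obtain ⟨htw, hconn, hcl, he⟩ := uco_good (h.nb_closed d) (by norm_num) (ht.1 d hd)
    have hfi := fi_quot (h.nb_closed d) htw hconn hcl he
    obtain ⟨ψ, g, -⟩ := (SIso.qmap (h.nb_closed d) htw).symm (h.nb_closed d)
    obtain ⟨K, i1, i2, hK, φ, f⟩ := (ht.1 d hd).comp g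
    obtain ⟨e, -⟩ := uni_model hK (by norm_num) hfi.cls hfi.center
      (let ⟨a, ha, _⟩ := hfi.width; ⟨a, ha⟩) f
    exact ⟨K, i1, i2, hK, ⟨e⟩⟩
  · suffices hT : ∀ T, T = tri D d c → ∃ c₃ : ZMod 3, c₃ ≠ 0 ∧
        Cfsg.IsProjReflectionGroupModThree (QG T) 6 1 c₃ from hT _ (inter_nb_eq_tri hdc)
    rintro _ rfl
    exact ⟨1, one_ne_zero, rco_proj (h.closed.tri d c) (by norm_num) (ht.2 d hd c hc hdc)⟩

/-- A group of type M(23). -/
theorem type23 (h : Fi D) (ht : T23 D) : Cfsg.IsOfTypeM23 G D := by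
  obtain ⟨d, hd, -⟩ := h.width
  obtain ⟨c, hc, hdc⟩ := h.exists_far hd
  obtain ⟨htw, hfi⟩ := t22_good h ht.1 hd
  obtain ⟨ψ, g, -⟩ := (SIso.qmap (h.nb_closed d) htw).symm (h.nb_closed d)
  refine ⟨h.center, d, hd, c, hc, hdc, type22 hfi ((T22.comp g (ht.1 d hd))), ?_⟩
  suffices hT : ∀ T, T = tri D d c → ∃ c₃ : ZMod 3, c₃ ≠ 0 ∧
      Cfsg.IsProjReflectionGroupModThree (QG T) 7 (-c₃) c₃ from hT _ (inter_nb_eq_tri hdc)
  rintro _ rfl
  exact ⟨1, one_ne_zero, rco_proj (h.closed.tri d c) (by norm_num) (ht.2 d hd c hc hdc)⟩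

/-- The image of a twin-free set whose members all have far members is closed. -/
theorem closed_qimg {H : Type u} [Group H] {S : Set H} (hS : Closed S) (htw : NoTwins S)
    (hfar : ∀ x ∈ S, ∃ z ∈ S, ¬ Commute x z) : Closed (qimg S) := by
  have hbij := qmap_bijOn hS htw
  refine ⟨⟨fun d hd => ?_, fun d hd e he => ?_⟩, fun d hd e he => ?_⟩
  · obtain ⟨x, hx, rfl⟩ := hbij.surjOn hd
    refine orderOf_eq_prime ?_ fun h1 => ?_
    · rw [qmap_eq hx, ← map_pow, show (⟨x, Subgroup.subset_closure hx⟩ : ↥(Subgroup.closure S)) ^ 2 = 1 from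
        Subtype.ext (by simpa [pow_two] using hS.sq hx), map_one]
    · obtain ⟨z, hz, hxz⟩ := hfar x hx
      exact hxz ((qmap_commute hS htw hx hz).1 (h1 ▸ Commute.one_left _))
  · obtain ⟨x, hx, rfl⟩ := hbij.surjOn hd
    obtain ⟨y, hy, rfl⟩ := hbij.surjOn he
    rw [qmap_eq hx, qmap_eq hy, ← map_mul, ← map_pow, ← map_pow]
    rcases hS.tts.2 x hx y hy with h | h
    · left; rw [show (⟨x, Subgroup.subset_closure hx⟩ * ⟨y, Subgroup.subset_closure hy⟩ :
        ↥(Subgroup.closure S)) ^ 2 = 1 from Subtype.ext (by simpa using h), map_one]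
    · right; rw [show (⟨x, Subgroup.subset_closure hx⟩ * ⟨y, Subgroup.subset_closure hy⟩ :
        ↥(Subgroup.closure S)) ^ 3 = 1 from Subtype.ext (by simpa using h), map_one]
  · obtain ⟨x, hx, rfl⟩ := hbij.surjOn hd
    obtain ⟨y, hy, rfl⟩ := hbij.surjOn he
    rw [← qmap_conj hS hx hy]
    exact hbij.mapsTo (hS.conj x hx y hy)

/-- The quotient by the centre has trivial centre for a twin-free set. -/
theorem center_qimg {H : Type u} [Group H] {S : Set H} (hS : Closed S) (htw : NoTwins S) :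
    Subgroup.center (QG S) = ⊥ := by
  refine (Subgroup.eq_bot_iff_forall _).2 fun q hq => ?_
  obtain ⟨g, rfl⟩ := QuotientGroup.mk_surjective q
  rw [QuotientGroup.eq_one_iff]
  refine Subgroup.mem_center_iff.2 fun z => Subtype.ext ?_
  refine (Prod.commute_of_closure (fun y hy => ?_) (z : H) z.2).eq
  have hy' := hS.conj_mem g.2 y hy
  have h1 : qmap S ((g : H) * y * (g : H)⁻¹) = qmap S y := by
    refine Eq.trans ?_ (show (g : QG S) * qmap S y * (g : QG S)⁻¹ = qmap S y by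
      rw [← Subgroup.mem_center_iff.1 hq (qmap S y), mul_inv_cancel_right])
    rw [qmap_eq hy, qmap_eq hy']
    rfl
  exact (mul_inv_eq_iff_eq_mul.1 (qmap_injOn hS htw hy' hy h1)).symm

/-- A group of type M(24). -/
theorem type24 (h : Fi D) (hgood : ∀ a ∈ D, NoTwins (nb D a) ∧ Fi (qimg (nb D a))) (ht : T24 D) :
    Cfsg.IsOfTypeM24 G D := by
  obtain ⟨d, hd, -⟩ := h.width
  obtain ⟨c, hc, hdc⟩ := h.exists_far hd
  obtain ⟨htw, hfi⟩ := hgood d hd
  obtain ⟨ψ, g, -⟩ := (SIso.qmap (h.nb_closed d) htw).symm (h.nb_closed d)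
  refine ⟨h.center, d, hd, c, hc, hdc, type23 hfi ((ht.1 d hd).comp g), ?_⟩
  suffices hS : ∀ T, T = tri D d c → ∃ N : Subgroup (QG T), ∃ _ : N.Normal,
      Nonempty (↥N ≃* Cfsg.POmega (ZMod 3) (Cfsg.quadFormPlus 4 (ZMod 3))) ∧
        Nonempty (QG T ⧸ N ≃* Equiv.Perm (Fin 3)) from hS _ (inter_nb_eq_tri hdc)
  rintro _ rfl
  have hT : Closed (tri D d c) := h.closed.tri d c
  have hR := ht.2 d hd c hc hdc
  obtain ⟨htwT, -, -⟩ := three_good hT hR
  obtain ⟨χ, k, -⟩ := (SIso.qmap hT htwT).symm hT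
  refine three_group (closed_qimg hT htwT fun x hx => ?_) (qgen _) (center_qimg hT htwT) (ThreeR8.comp k hR)
  obtain ⟨C, hcov, hsub, -, hC, hfar, -⟩ := three_parts hT hR
  obtain ⟨i, hi⟩ := hcov x hx
  obtain ⟨j, hji⟩ := exists_ne i
  obtain ⟨z, hz⟩ := rco_nonempty (by norm_num) (hC j)
  exact ⟨z, hsub j hz, hfar i j hji.symm x hi z hz⟩

end CfsgLib.Fischer
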