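import Cfsg.Agent.Spor3T.GraphIso
import Cfsg.Agent.Spor3T.SolvableLocal

/-!
Fischer's theorem: closed sets of transpositions, the standing hypothesis, and the passage from a
twin-free connected closed set to a group satisfying the hypothesis.
-/

set_option autoImplicit false
set_option linter.unusedSectionVars false
set_option linter.style.haveILetI false

namespace CfsgLib.Fischer

open CfsgLib.ThreeT CfsgLib.ThreeT.Prod

universe u

variable {G : Type u} [Group G]

/-- Transpositions closed under conjugation by each other. -/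
structure Closed (S : Set G) : Prop where
  tts : Cfsg.IsThreeTranspositionSet S
  conj : ∀ x ∈ S, ∀ y ∈ S, x * y * x ∈ S

/-- Membership of a graph component. -/
def Link (S : Set G) (a b : G) : Prop :=
  Relation.ReflTransGen (fun p q => p ∈ S ∧ q ∈ S ∧ Commute p q) a b

/-- The commuting graph is connected. -/
def Conn (S : Set G) : Prop := ∀ a ∈ S, ∀ b ∈ S, Link S a b

/-- The members are conjugate in the subgroup they generate. -/
def OneClass (S : Set G) : Prop := ∀ a ∈ S, ∀ b ∈ S, ∃ g ∈ Subgroup.closure S, g * a * g⁻¹ = b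

/-- Neither equal closed nor equal open neighbourhoods. -/
structure NoTwins (S : Set G) : Prop where
  near : ∀ a ∈ S, ∀ b ∈ S, (∀ z ∈ S, Commute a z ↔ Commute b z) → a = b
  far : ∀ a ∈ S, ∀ b ∈ S, nb S a = nb S b → a = b

/-- A commuting pair. -/
def Edge (S : Set G) : Prop := ∃ a ∈ S, ∃ b ∈ S, a ≠ b ∧ Commute a b

namespace Closed

variable {S : Set G} (hS : Closed S)
include hS

theorem sq {x : G} (hx : x ∈ S) : x * x = 1 := ThreeT.sq hS.tts hx

theorem inv {x : G} (hx : x ∈ S) : x⁻¹ = x := ThreeT.inv hS.tts hx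

theorem cancel {x : G} (hx : x ∈ S) (y : G) : x * (x * y) = y := invol_cancel (hS.tts.1 x hx) y

theorem cancel_right {x : G} (hx : x ∈ S) (y : G) : y * x * x = y := by rw [mul_assoc, hS.sq hx, mul_one]

theorem fix_iff {x : G} (hx : x ∈ S) (y : G) : x * y * x = y ↔ Commute x y := by
  constructor
  · intro h
    have := congrArg (· * x) h
    rwa [hS.cancel_right hx] at this
  · intro h
    rw [h.eq, hS.cancel_right hx]

theorem conj_conj {x : G} (hx : x ∈ S) (y : G) : x * (x * y * x) * x = y := by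
  simp only [mul_assoc, hS.sq hx, mul_one, hS.cancel hx]

theorem braid {x y : G} (hx : x ∈ S) (hy : y ∈ S) (h : ¬ Commute x y) : x * y * x = y * x * y :=
  ThreeT.braid hS.tts hx hy h

theorem third_far {x y : G} (hx : x ∈ S) (h : ¬ Commute x y) : ¬ Commute x (x * y * x) := fun c => h (by
  have := (commute_conj_iff x x (x * y * x)).2 c
  rwa [hS.inv hx, hS.cancel_right hx, hS.conj_conj hx] at this)

theorem commute_conj {x : G} (hx : x ∈ S) (y z : G) : Commute (x * y * x) (x * z * x) ↔ Commute y z := by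
  have := commute_conj_iff x y z
  rwa [hS.inv hx] at this

theorem commute_conj' {x : G} (hx : x ∈ S) (y z : G) : Commute (x * y * x) z ↔ Commute y (x * z * x) := by
  conv_lhs => rw [← hS.conj_conj hx z]
  exact hS.commute_conj hx _ _

theorem third_ne {x y : G} (hx : x ∈ S) (h : ¬ Commute x y) : x * y * x ≠ y := fun e => h ((hS.fix_iff hx y).1 e)

theorem mono {R : Set G} (hRS : R ⊆ S) (h : ∀ x ∈ R, ∀ y ∈ R, x * y * x ∈ R) : Closed R :=
  ⟨⟨fun d hd => hS.tts.1 d (hRS hd), fun a ha b hb => hS.tts.2 a (hRS ha) b (hRS hb)⟩, h⟩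

theorem inter_commute (c : G) : Closed {y | y ∈ S ∧ Commute y c} :=
  hS.mono (fun y hy => hy.1) fun x hx y hy => ⟨hS.conj x hx.1 y hy.1, (hx.2.mul_left hy.2).mul_left hx.2⟩

theorem nb (a : G) : Closed (Prod.nb S a) := by
  refine hS.mono (fun y hy => hy.1) fun x hx y hy => ⟨hS.conj x hx.1 y hy.1, fun e => hy.2.1 ?_,
    (hx.2.2.mul_right hy.2.2).mul_right hx.2.2⟩
  rw [← hS.conj_conj hx.1 y, e, (hS.fix_iff hx.1 a).2 hx.2.2.symm]

theorem tri (a c : G) : Closed (Prod.tri S a c) :=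
  (hS.nb a).mono (fun _ hy => hy.1) fun x hx y hy =>
    ⟨(hS.nb a).conj x hx.1 y hy.1, (hx.2.mul_left hy.2).mul_left hx.2⟩

theorem conj_mem {g : G} (hg : g ∈ Subgroup.closure S) : ∀ y ∈ S, g * y * g⁻¹ ∈ S := by
  induction hg using Subgroup.closure_induction'' with
  | mem x hx => intro y hy; rw [hS.inv hx]; exact hS.conj x hx y hy
  | inv_mem x hx => intro y hy; rw [inv_inv, hS.inv hx]; exact hS.conj x hx y hy
  | one => intro y hy; simpa using hy
  | mul a b _ _ ha hb => intro y hy; simpa [mul_assoc] using ha _ (hb y hy)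

theorem tt0 (hgen : Subgroup.closure S = ⊤) : TT0 S :=
  ⟨fun _ hx => hS.sq hx, hS.tts.2, fun g y hy => hS.conj_mem (hgen ▸ Subgroup.mem_top g) y hy⟩

end Closed

theorem Link.symm {S : Set G} {a b : G} (h : Link S a b) : Link S b a := by
  induction h with
  | refl => exact Relation.ReflTransGen.refl
  | tail _ hpq ih => exact Relation.ReflTransGen.head ⟨hpq.2.1, hpq.1, hpq.2.2.symm⟩ ih

theorem Link.of_commute {S : Set G} {a b : G} (ha : a ∈ S) (hb : b ∈ S) (h : Commute a b) : Link S a b :=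
  Relation.ReflTransGen.single ⟨ha, hb, h⟩

/-- The quotient of the generated subgroup by its centre. -/
abbrev QG (S : Set G) : Type u := ↥(Subgroup.closure S) ⧸ Subgroup.center ↥(Subgroup.closure S)

/-- The image of the set in it. -/
abbrev qimg (S : Set G) : Set (QG S) :=
  (QuotientGroup.mk : ↥(Subgroup.closure S) → _) '' {x : ↥(Subgroup.closure S) | (x : G) ∈ S}

open Classical in
/-- The map into the quotient. -/
noncomputable def qmap (S : Set G) (x : G) : QG S :=
  if h : x ∈ S then (QuotientGroup.mk ⟨x, Subgroup.subset_closure h⟩) else 1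

theorem qmap_eq {S : Set G} {x : G} (h : x ∈ S) :
    qmap S x = QuotientGroup.mk' (Subgroup.center ↥(Subgroup.closure S)) ⟨x, Subgroup.subset_closure h⟩ := by
  classical
  exact dif_pos h

theorem qgen (S : Set G) : Subgroup.closure (qimg S) = ⊤ := by
  refine ((MonoidHom.map_closure (QuotientGroup.mk' (Subgroup.center ↥(Subgroup.closure S)))
    {x : ↥(Subgroup.closure S) | (x : G) ∈ S}).symm).trans ?_
  rw [show Subgroup.closure {x : ↥(Subgroup.closure S) | (x : G) ∈ S} = ⊤ from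
    Subgroup.closure_closure_coe_preimage, Subgroup.map_top_of_surjective _ (QuotientGroup.mk'_surjective _)]

section quot

variable {S : Set G} (hS : Closed S)
include hS

theorem qmap_conj {x y : G} (hx : x ∈ S) (hy : y ∈ S) :
    qmap S (x * y * x) = qmap S x * qmap S y * qmap S x := by
  rw [qmap_eq hx, qmap_eq hy, qmap_eq (hS.conj x hx y hy), ← map_mul, ← map_mul]
  rfl

theorem qmap_injOn (htw : NoTwins S) : Set.InjOn (qmap S) S := by
  intro x hx y hy h
  rw [qmap_eq hx, qmap_eq hy, QuotientGroup.mk'_apply, QuotientGroup.mk'_apply, QuotientGroup.eq] at h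
  set w : ↥(Subgroup.closure S) := (⟨x, Subgroup.subset_closure hx⟩ : ↥(Subgroup.closure S))⁻¹ *
    ⟨y, Subgroup.subset_closure hy⟩ with hw
  have hz : ∀ z ∈ S, Commute (x * y) z := fun z hz => by
    have := congrArg Subtype.val (Subgroup.mem_center_iff.1 h ⟨z, Subgroup.subset_closure hz⟩)
    simp only [hw, Subgroup.coe_mul, Subgroup.coe_inv, hS.inv hx] at this
    exact this.symm
  by_contra hne
  have hxy : Commute x y := by
    have h1 : x * y * x = x * (x * y) := (hz x hx).eq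
    rw [hS.cancel hx] at h1
    exact (hS.fix_iff hx y).1 h1
  refine hne (htw.near x hx y hy fun z hz' => ?_)
  have h2 := (commute_mul_iff hS.tts hx hy hz' hxy hne).1 (hz z hz')
  exact ⟨fun _ => h2.2, fun _ => h2.1⟩

theorem qmap_bijOn (htw : NoTwins S) : Set.BijOn (qmap S) S (qimg S) := by
  refine ⟨fun x hx => ?_, qmap_injOn hS htw, ?_⟩
  · rw [qmap_eq hx]; exact ⟨_, hx, rfl⟩
  · rintro _ ⟨⟨x, hxc⟩, hx, rfl⟩
    exact ⟨x, hx, qmap_eq (show x ∈ S from hx)⟩

theorem qmap_commute (htw : NoTwins S) {x y : G} (hx : x ∈ S) (hy : y ∈ S) :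
    Commute (qmap S x) (qmap S y) ↔ Commute x y := by
  have hsq : qmap S x * qmap S x = 1 := by
    rw [qmap_eq hx, ← map_mul]
    rw [show (⟨x, Subgroup.subset_closure hx⟩ : ↥(Subgroup.closure S)) * ⟨x, Subgroup.subset_closure hx⟩ = 1 from
      Subtype.ext (hS.sq hx), map_one]
  constructor
  · intro h
    refine (hS.fix_iff hx y).1 (qmap_injOn hS htw (hS.conj x hx y hy) hy ?_)
    rw [qmap_conj hS hx hy, h.eq, mul_assoc, hsq, mul_one]
  · intro h
    rw [qmap_eq hx, qmap_eq hy]
    exact (show Commute (⟨x, Subgroup.subset_closure hx⟩ : ↥(Subgroup.closure S))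
      ⟨y, Subgroup.subset_closure hy⟩ from Subtype.ext h.eq).map _

end quot

/-- The standing hypothesis. -/
structure Fi (D : Set G) : Prop where
  cls : Cfsg.IsThreeTranspositionClass D
  center : Subgroup.center G = ⊥
  prim : Cfsg.IsPrimitiveUnderConj D
  width : Edge D

/-- A twin-free connected closed class with an edge gives a group satisfying the hypothesis. -/
theorem fi_quot [Finite G] {S : Set G} (hS : Closed S) (htw : NoTwins S) (hconn : Conn S)
    (hcls : OneClass S) (he : Edge S) : Fi (qimg S) := by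
  classical
  have hbij := qmap_bijOn hS htw
  obtain ⟨a₀, ha₀, b₀, hb₀, hab₀, hcab⟩ := he
  have hmk : ∀ (g : ↥(Subgroup.closure S)) {x : G}, x ∈ S →
      (g : QG S) * qmap S x * (g : QG S)⁻¹ = qmap S ((g : G) * x * (g : G)⁻¹) := fun g x hx => by
    rw [qmap_eq hx, qmap_eq (hS.conj_mem g.2 x hx)]
    rfl
  have hne1 : ∀ x ∈ S, qmap S x ≠ 1 := by
    intro x hx h1
    rw [qmap_eq hx, QuotientGroup.mk'_apply, QuotientGroup.eq_one_iff] at h1
    have hc : ∀ z ∈ S, Commute x z := fun z hz =>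
      (congrArg Subtype.val (Subgroup.mem_center_iff.1 h1 ⟨z, Subgroup.subset_closure hz⟩)).symm
    have hall : ∀ z ∈ S, z = x := fun z hz => by
      obtain ⟨g, hg, rfl⟩ := hcls x hx z hz
      have hgx : Commute g x := Prod.commute_of_closure (fun y hy => (hc y hy).symm) g hg
      rw [hgx.eq, mul_inv_cancel_right]
    exact hab₀ ((hall a₀ ha₀).trans (hall b₀ hb₀).symm)
  have hsq : ∀ x ∈ S, qmap S x * qmap S x = 1 := fun x hx => by
    rw [qmap_eq hx, ← map_mul, show (⟨x, Subgroup.subset_closure hx⟩ : ↥(Subgroup.closure S)) *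
      ⟨x, Subgroup.subset_closure hx⟩ = 1 from Subtype.ext (hS.sq hx), map_one]
  have htts : Cfsg.IsThreeTranspositionSet (qimg S) := by
    refine ⟨fun d hd => ?_, fun d hd e he => ?_⟩
    · obtain ⟨x, hx, rfl⟩ := hbij.surjOn hd
      exact orderOf_eq_prime (by rw [pow_two, hsq x hx]) (hne1 x hx)
    · obtain ⟨x, hx, rfl⟩ := hbij.surjOn hd
      obtain ⟨y, hy, rfl⟩ := hbij.surjOn he
      rw [qmap_eq hx, qmap_eq hy, ← map_mul, ← map_pow, ← map_pow]
      rcases hS.tts.2 x hx y hy with h | h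
      · left; rw [show (⟨x, Subgroup.subset_closure hx⟩ * ⟨y, Subgroup.subset_closure hy⟩ :
          ↥(Subgroup.closure S)) ^ 2 = 1 from Subtype.ext (by simpa using h), map_one]
      · right; rw [show (⟨x, Subgroup.subset_closure hx⟩ * ⟨y, Subgroup.subset_closure hy⟩ :
          ↥(Subgroup.closure S)) ^ 3 = 1 from Subtype.ext (by simpa using h), map_one]
  have hclass : Cfsg.IsThreeTranspositionClass (qimg S) := by
    refine ⟨htts, ⟨qmap S a₀, hbij.mapsTo ha₀, Set.ext fun e => ⟨fun he => ?_, fun he => ?_⟩⟩, qgen S⟩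
    · obtain ⟨x, hx, rfl⟩ := hbij.surjOn he
      obtain ⟨g, hg, rfl⟩ := hcls a₀ ha₀ x hx
      exact isConj_iff.2 ⟨_, hmk ⟨g, hg⟩ ha₀⟩
    · obtain ⟨q, rfl⟩ := isConj_iff.1 (show IsConj (qmap S a₀) e from he)
      obtain ⟨g, rfl⟩ := QuotientGroup.mk_surjective q
      rw [hmk g ha₀]
      exact hbij.mapsTo (hS.conj_mem g.2 a₀ ha₀)
  have hZ : Subgroup.center (QG S) = ⊥ := by
    refine (Subgroup.eq_bot_iff_forall _).2 fun q hq => ?_
    obtain ⟨g, rfl⟩ := QuotientGroup.mk_surjective q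
    rw [QuotientGroup.eq_one_iff]
    refine Subgroup.mem_center_iff.2 fun z => Subtype.ext ?_
    refine (Prod.commute_of_closure (fun y hy => ?_) (z : G) z.2).eq
    have h1 : qmap S ((g : G) * y * (g : G)⁻¹) = qmap S y := by
      rw [← hmk g hy, ← Subgroup.mem_center_iff.1 hq (qmap S y), mul_inv_cancel_right]
    have h2 := qmap_injOn hS htw (hS.conj_mem g.2 y hy) hy h1
    exact (mul_inv_eq_iff_eq_mul.1 h2).symm
  have h2 : Cfsg.pCore 2 (QG S) = ⊥ := by
    by_contra hne
    obtain ⟨v, hv, hvd, hq⟩ := exists_twin hclass 2 (by rw [hZ]; exact fun h => hne (le_bot_iff.1 h))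
      (hbij.mapsTo ha₀)
    obtain ⟨y, hy, rfl⟩ := hbij.surjOn hv
    refine hvd (congrArg _ (htw.near y hy a₀ ha₀ fun z hz => ?_))
    rw [← qmap_commute hS htw hy hz, ← qmap_commute hS htw ha₀ hz]
    exact same_commuting_of_mem_two_core hclass (hbij.mapsTo ha₀) hv hq _ (hbij.mapsTo hz)
  have h3 : Cfsg.pCore 3 (QG S) = ⊥ := by
    by_contra hne
    obtain ⟨v, hv, hvd, hq⟩ := exists_twin hclass 3 (by rw [hZ]; exact fun h => hne (le_bot_iff.1 h))
      (hbij.mapsTo ha₀)
    obtain ⟨y, hy, rfl⟩ := hbij.surjOn hv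
    have hs := same_others_of_mem_three_core hclass (hbij.mapsTo ha₀) hv hq
    refine hvd (congrArg _ (htw.far y hy a₀ ha₀ (Set.ext fun z => ?_)))
    by_cases hz : z ∈ S
    · have := Set.ext_iff.1 hs (qmap S z)
      simp only [Set.mem_setOf_eq, hbij.mapsTo hz, true_and, ne_eq, hbij.injOn.eq_iff hz ha₀,
        hbij.injOn.eq_iff hz hy, qmap_commute hS htw ha₀ hz, qmap_commute hS htw hy hz] at this
      simp only [Prod.nb, Set.mem_setOf_eq, hz, true_and, ne_eq]
      exact this.symm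
    · exact iff_of_false (fun h => hz h.1) fun h => hz h.1
  have hsol := solvable_normal_eq_bot hclass hZ h2 h3
  have hC : ∀ p q : qimg S, Relation.ReflTransGen (fun p q : qimg S => Commute (p : QG S) q) p q := by
    rintro ⟨p, hp⟩ ⟨q, hq⟩
    obtain ⟨x, hx, rfl⟩ := hbij.surjOn hp
    obtain ⟨y, hy, rfl⟩ := hbij.surjOn hq
    have key : ∀ y, Link S x y → ∀ (hy : y ∈ S),
        Relation.ReflTransGen (fun p q : qimg S => Commute (p : QG S) q) ⟨qmap S x, hp⟩ ⟨qmap S y, hbij.mapsTo hy⟩ := by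
      intro y h
      induction h with
      | refl => exact fun _ => Relation.ReflTransGen.refl
      | tail _ hst ih => exact fun ht => (ih hst.1).tail ((qmap_commute hS htw hst.1 ht).2 hst.2.2)
    exact key y (hconn x hx y hy) hy
  have hne : qmap S a₀ ≠ qmap S b₀ := fun e => hab₀ (hbij.injOn ha₀ hb₀ e)
  exact ⟨hclass, hZ, primitive_of_connected hclass hsol hC ⟨_, hbij.mapsTo ha₀, _, hbij.mapsTo hb₀, hne⟩,
    _, hbij.mapsTo ha₀, _, hbij.mapsTo hb₀, hne, (qmap_commute hS htw ha₀ hb₀).2 hcab⟩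

namespace Fi

variable [Finite G] {D : Set G} (h : Fi D)
include h

theorem mem {d : G} (hd : d ∈ D) (g : G) : g * d * g⁻¹ ∈ D := ThreeT.conj_mem h.cls hd g

theorem closed : Closed D :=
  ⟨h.cls.1, fun x hx y hy => by
    have := h.mem hy x
    rwa [ThreeT.inv h.cls.1 hx] at this⟩

theorem gen : Subgroup.closure D = ⊤ := h.cls.2.2

theorem two : ∃ a b : D, a ≠ b :=
  let ⟨a, ha, b, hb, hne, _⟩ := h.width
  ⟨⟨a, ha⟩, ⟨b, hb⟩, fun e => hne (congrArg Subtype.val e)⟩

theorem cores : Cfsg.pCore 2 G = ⊥ ∧ Cfsg.pCore 3 G = ⊥ := cores_of_primitive h.cls h.center h.prim h.width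

theorem sol : ∀ N : Subgroup G, N.Normal → Group.IsSolvable N → N = ⊥ :=
  solvable_normal_eq_bot h.cls h.center h.cores.1 h.cores.2

theorem simple : IsSimpleGroup (commutator G) := simple_of_primitive h.cls h.center h.prim h.width

theorem conn' : ∀ p q : D, Relation.ReflTransGen (fun p q : D => Commute (p : G) q) p q :=
  connected_of_primitive h.cls h.prim h.width

theorem conn : Conn D := by
  intro a ha b hb
  have key : ∀ q : D, Relation.ReflTransGen (fun p q : D => Commute (p : G) q) ⟨a, ha⟩ q → Link D a q := by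
    intro q hq
    induction hq with
    | refl => exact Relation.ReflTransGen.refl
    | @tail p q _ hpq ih => exact ih.tail ⟨p.2, q.2, hpq⟩
  exact key ⟨b, hb⟩ (h.conn' _ _)

theorem exists_near {a : G} (ha : a ∈ D) : (nb D a).Nonempty :=
  let ⟨b, hb, hne, hc⟩ := (rank_three_of_connected h.cls h.sol h.conn' h.two ha).1
  ⟨b, hb, hne, hc⟩

theorem exists_far {a : G} (ha : a ∈ D) : ∃ c ∈ D, ¬ Commute a c :=
  (rank_three_of_connected h.cls h.sol h.conn' h.two ha).2.1

theorem conj_near {a b b' : G} (ha : a ∈ D) (hb : b ∈ nb D a) (hb' : b' ∈ nb D a) :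
    ∃ g ∈ Subgroup.closure (nb D a), g * b * g⁻¹ = b' :=
  (rank_three_of_connected h.cls h.sol h.conn' h.two ha).2.2.1 b hb.1 b' hb'.1 hb.2.1 hb'.2.1 hb.2.2 hb'.2.2

theorem conj_far {a c c' : G} (ha : a ∈ D) (hc : c ∈ D) (hc' : c' ∈ D) (hac : ¬ Commute a c)
    (hac' : ¬ Commute a c') : ∃ g : G, Commute g a ∧ g * c * g⁻¹ = c' :=
  (rank_three_of_connected h.cls h.sol h.conn' h.two ha).2.2.2 c hc c' hc' hac hac'

/-- Far pairs are conjugate. -/
theorem conj_pair {a c a' c' : G} (ha : a ∈ D) (hc : c ∈ D) (hac : ¬ Commute a c) (ha' : a' ∈ D) (hc' : c' ∈ D)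
    (hac' : ¬ Commute a' c') : ∃ g : G, g * a * g⁻¹ = a' ∧ g * c * g⁻¹ = c' := by
  obtain ⟨g, rfl⟩ := exists_conj h.cls ha ha'
  have h1 : ¬ Commute (g * a * g⁻¹) (g * c * g⁻¹) := fun q => hac ((commute_conj_iff g a c).1 q)
  obtain ⟨k, hk, rfl⟩ := h.conj_far (h.mem ha g) (h.mem hc g) hc' h1 hac'
  refine ⟨k * g, ?_, by group⟩
  rw [show k * g * a * (k * g)⁻¹ = k * (g * a * g⁻¹) * k⁻¹ by group, hk.eq, mul_inv_cancel_right]

theorem noTwins : NoTwins D := by
  constructor
  · intro a ha b hb hab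
    have := mul_mem_two_core h.cls ha hb (fun e he => (hab e he).symm)
    rw [h.cores.1, Subgroup.mem_bot] at this
    rw [← h.closed.inv ha]
    exact inv_eq_of_mul_eq_one_right this
  · intro a ha b hb hab
    have := mul_mem_three_core h.cls ha hb hab
    rw [h.cores.2, Subgroup.mem_bot] at this
    rw [← h.closed.inv ha]
    exact inv_eq_of_mul_eq_one_right this

theorem nb_closed (a : G) : Closed (nb D a) := h.closed.nb a

theorem nb_oneClass {a : G} (ha : a ∈ D) : OneClass (nb D a) := fun _ hb _ hb' => h.conj_near ha hb hb'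

/-- A far pair has a common neighbour. -/
theorem tri_nonempty {d c : G} (hd : d ∈ D) (hc : c ∈ D) (hdc : ¬ Commute d c) : (tri D d c).Nonempty := by
  suffices h1 : ∃ a ∈ D, ∃ b ∈ D, ¬ Commute a b ∧ (tri D a b).Nonempty by
    obtain ⟨a, ha, b, hb, hab, t, ht⟩ := h1
    obtain ⟨g, rfl, rfl⟩ := h.conj_pair ha hb hab hd hc hdc
    exact ⟨g * t * g⁻¹, ⟨h.mem ht.1.1 g, fun e => ht.1.2.1 (mul_left_cancel (mul_right_cancel e)),
      (commute_conj_iff g _ _).2 ht.1.2.2⟩, (commute_conj_iff g _ _).2 ht.2⟩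
  by_contra hcon
  push Not at hcon
  have key : ∀ y, Link D d y → Commute d y := by
    intro y hy
    induction hy with
    | refl => exact Commute.refl _
    | @tail p q _ hpq ih =>
      by_contra hdq
      refine Set.notMem_empty p ((hcon d hd q hpq.2.1 hdq).subset ⟨⟨hpq.1, fun e => hdq ?_, ih⟩, hpq.2.2⟩)
      exact e ▸ hpq.2.2
  exact hdc (key c (h.conn d hd c hc))

/-- All far pairs have equally many common neighbours. -/
theorem tri_ncard {a c a' c' : G} (ha : a ∈ D) (hc : c ∈ D) (hac : ¬ Commute a c) (ha' : a' ∈ D) (hc' : c' ∈ D)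
    (hac' : ¬ Commute a' c') : (tri D a c).ncard = (tri D a' c').ncard := by
  obtain ⟨g, rfl, rfl⟩ := h.conj_pair ha hc hac ha' hc' hac'
  have himg : (fun z => g * z * g⁻¹) '' tri D a c = tri D (g * a * g⁻¹) (g * c * g⁻¹) := by
    ext y
    constructor
    · rintro ⟨t, ht, rfl⟩
      exact ⟨⟨h.mem ht.1.1 g, fun e => ht.1.2.1 (mul_left_cancel (mul_right_cancel e)),
        (commute_conj_iff g _ _).2 ht.1.2.2⟩, (commute_conj_iff g _ _).2 ht.2⟩
    · intro hy
      refine ⟨g⁻¹ * y * g⁻¹⁻¹, ⟨⟨h.mem hy.1.1 _, fun e => hy.1.2.1 (by rw [← e]; group), ?_⟩, ?_⟩,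
        show g * (g⁻¹ * y * g⁻¹⁻¹) * g⁻¹ = y by group⟩
      · rw [← commute_conj_iff g, show g * (g⁻¹ * y * g⁻¹⁻¹) * g⁻¹ = y by group]; exact hy.1.2.2
      · rw [← commute_conj_iff g, show g * (g⁻¹ * y * g⁻¹⁻¹) * g⁻¹ = y by group]; exact hy.2
  rw [← himg, Set.ncard_image_of_injective _ (LocalTwins_inj g)]
where
  LocalTwins_inj (g : G) : Function.Injective fun z : G => g * z * g⁻¹ := fun _ _ e =>
    mul_left_cancel (mul_right_cancel e)

end Fi

end CfsgLib.Fischer
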