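import Cfsg.Agent.Fischer.StepSymEnd

/-!
Fischer's theorem: symplectic neighbourhoods give an orthogonal group over two elements.
-/

set_option autoImplicit false
set_option linter.unusedSectionVars false

namespace CfsgLib.Fischer

open CfsgLib.ThreeT CfsgLib.ThreeT.Prod

universe u

section form

variable {m : ℕ}

theorem sform_apply (u v : Fin m ⊕ Fin m → ZMod 2) : sform m u v = CfsgLib.Symp.form u v := rfl

theorem sform_self (u : Fin m ⊕ Fin m → ZMod 2) : sform m u u = 0 := by
  rw [sform_apply, CfsgLib.Symp.form_apply]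
  exact Finset.sum_eq_zero fun i _ => by ring

theorem sform_symm (u v : Fin m ⊕ Fin m → ZMod 2) : sform m u v = sform m v u := by
  have := sform_self (u + v)
  simp only [map_add, LinearMap.add_apply, sform_self, zero_add, add_zero] at this
  revert this
  generalize sform m u v = a
  generalize sform m v u = b
  revert a b; decide

theorem sform_ext {v : Fin m ⊕ Fin m → ZMod 2} (h : ∀ x, sform m v x = 0) : v = 0 := by
  funext i
  rcases i with i | i
  · have := h (Pi.single (Sum.inr i) 1)
    rw [sform_symm, sform_apply, CfsgLib.Symp.form_single_inr] at this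
    simpa using this
  · have := h (Pi.single (Sum.inl i) 1)
    rw [sform_symm, sform_apply, CfsgLib.Symp.form_single_inl] at this
    simpa using this

theorem sform_exists {δ : Fin m ⊕ Fin m → ZMod 2} (hδ : δ ≠ 0) : ∃ e, sform m δ e = 1 := by
  by_contra q
  push Not at q
  exact hδ (sform_ext fun x => (two_cases _).resolve_right (q x))

/-- A functional vanishing on the hyperplane of a vector belongs to it. -/
theorem sform_perp_perp {δ v : Fin m ⊕ Fin m → ZMod 2} (hδ : δ ≠ 0)
    (h : ∀ x, sform m δ x = 0 → sform m v x = 0) : v = 0 ∨ v = δ := by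
  obtain ⟨e, he⟩ := sform_exists hδ
  have hk : ∀ x, sform m v x = sform m δ x * sform m v e := by
    intro x
    have := h (x + sform m δ x • e) (by rw [map_add, map_smul, he, smul_eq_mul, mul_one]; exact vadd_self _)
    rw [map_add, map_smul, smul_eq_mul] at this
    revert this
    generalize sform m v x = a
    generalize sform m δ x * sform m v e = b
    revert a b; decide
  rcases two_cases (sform m v e) with q | q
  · exact Or.inl (sform_ext fun x => by rw [hk, q, mul_zero])
  · refine Or.inr ?_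
    have : v + δ = 0 := sform_ext fun x => by rw [map_add, LinearMap.add_apply, hk, q, mul_one, vadd_self]
    rw [← add_zero v, ← vadd_self δ, ← add_assoc, this, zero_add]

theorem IsQ.zero {q : (Fin m ⊕ Fin m → ZMod 2) → ZMod 2} (hq : IsQ m q) : q 0 = 0 := by
  have := hq 0 0
  rw [add_zero, sform_self, add_zero, vadd_self] at this
  exact this

theorem IsQ.smul {q : (Fin m ⊕ Fin m → ZMod 2) → ZMod 2} (hq : IsQ m q) (k : ZMod 2)
    (v : Fin m ⊕ Fin m → ZMod 2) : q (k • v) = k * q v := by
  rcases two_cases k with rfl | rfl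
  · rw [zero_smul, hq.zero, zero_mul]
  · rw [one_smul, one_mul]

theorem IsQ.tvec_apply {q : (Fin m ⊕ Fin m → ZMod 2) → ZMod 2} (hq : IsQ m q) (p x : Fin m ⊕ Fin m → ZMod 2) :
    q (tvec (sform m) p x) = q x + sform m p x * q p + sform m p x := by
  rw [tvec, hq, hq.smul, map_smul, smul_eq_mul, sform_symm x p]
  congr 1
  generalize sform m p x = k
  revert k; decide

/-- Two quadratic forms with one polar form differ by a functional. -/
theorem IsQ.exists_diff {q q' : (Fin m ⊕ Fin m → ZMod 2) → ZMod 2} (hq : IsQ m q) (hq' : IsQ m q') :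
    ∃ v, ∀ x, q' x = q x + sform m v x := by
  let L : (Fin m ⊕ Fin m → ZMod 2) →ₗ[ZMod 2] ZMod 2 :=
    { toFun := fun x => q x + q' x
      map_add' := fun x y => by
        rw [hq, hq']
        generalize q x = a; generalize q y = b; generalize q' x = a'; generalize q' y = b'
        generalize sform m x y = s
        revert a b a' b' s; decide
      map_smul' := fun k x => by rw [hq.smul, hq'.smul, RingHom.id_apply, smul_eq_mul, mul_add] }
  refine ⟨Sum.elim (fun i => L (Pi.single (Sum.inr i) 1)) (fun i => L (Pi.single (Sum.inl i) 1)), fun x => ?_⟩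
  set v := Sum.elim (fun i => L (Pi.single (Sum.inr i) 1)) (fun i => L (Pi.single (Sum.inl i) 1))
  have hL : sform m v = L := by
    refine (Pi.basisFun (ZMod 2) (Fin m ⊕ Fin m)).ext fun i => ?_
    rw [Pi.basisFun_apply]
    rcases i with i | i
    · rw [sform_symm, sform_apply, CfsgLib.Symp.form_single_inl]; simp [v]
    · rw [sform_symm, sform_apply, CfsgLib.Symp.form_single_inr]; simp [v]
  rw [hL]
  show q' x = q x + (q x + q' x)
  rw [← add_assoc, vadd_self, zero_add]

/-- A further hyperbolic pair in front. -/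
def uph (a b : ZMod 2) (w : Fin m ⊕ Fin m → ZMod 2) : Fin (m + 1) ⊕ Fin (m + 1) → ZMod 2 :=
  Sum.elim (Fin.cons a fun i => w (Sum.inl i)) (Fin.cons b fun i => w (Sum.inr i))

theorem uph_add (a b a' b' : ZMod 2) (w w' : Fin m ⊕ Fin m → ZMod 2) :
    uph a b w + uph a' b' w' = uph (a + a') (b + b') (w + w') := by
  funext i
  rcases i with i | i <;> refine Fin.cases ?_ (fun j => ?_) i <;> simp [uph]

theorem uph_form (a b a' b' : ZMod 2) (w w' : Fin m ⊕ Fin m → ZMod 2) :
    sform (m + 1) (uph a b w) (uph a' b' w') = a * b' + b * a' + sform m w w' := by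
  simp only [sform_apply, CfsgLib.Symp.form_apply, Fin.sum_univ_succ, uph, Sum.elim_inl, Sum.elim_inr,
    Fin.cons_zero, Fin.cons_succ, CharTwo.sub_eq_add]
  rw [add_comm (b * a')]

theorem uph_inj {a b a' b' : ZMod 2} {w w' : Fin m ⊕ Fin m → ZMod 2} (e : uph a b w = uph a' b' w') :
    a = a' ∧ b = b' ∧ w = w' := by
  refine ⟨congrFun e (Sum.inl 0), congrFun e (Sum.inr 0), funext fun i => ?_⟩
  rcases i with i | i
  · exact congrFun e (Sum.inl i.succ)
  · exact congrFun e (Sum.inr i.succ)

theorem uph_surj (v : Fin (m + 1) ⊕ Fin (m + 1) → ZMod 2) : ∃ a b w, v = uph a b w := by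
  refine ⟨v (Sum.inl 0), v (Sum.inr 0), Sum.elim (fun i => v (Sum.inl i.succ)) (fun i => v (Sum.inr i.succ)),
    funext fun i => ?_⟩
  rcases i with i | i <;> refine Fin.cases ?_ (fun j => ?_) i <;> simp [uph]

end form

variable {G : Type u} [Group G] [Finite G] {D : Set G} {m : ℕ}
variable (h : Fi D) (hloc : ∀ a ∈ D, SympCo (nb D a) m)
include h hloc

/-- Agreement near one common neighbour identifies a far member. -/
theorem symp_det {d c z t : G} (hd : d ∈ D) (hc : c ∈ D) (hz : z ∈ D) (hdc : ¬ Commute d c) (hdz : ¬ Commute d z)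
    (ht : t ∈ tri D d c) (htz : Commute t z)
    (hagree : ∀ x ∈ nb D d, x ≠ t → Commute t x → (Commute x c ↔ Commute x z)) : z = c ∨ z = d * c * d := by
  obtain ⟨ψ, g⟩ := hloc t ht.1.1
  have hS := h.nb_closed t
  have hdt : d ∈ nb D t := ⟨hd, ht.1.2.1.symm, ht.1.2.2.symm⟩
  have hct : c ∈ nb D t := ⟨hc, fun e => hdc (e ▸ ht.1.2.2), ht.2⟩
  have hzt : z ∈ nb D t := ⟨hz, fun e => hdz (e ▸ ht.1.2.2), htz⟩
  have g1 := (g.form_eq_one hS hdt hct).1 hdc
  have g2 := (g.form_eq_one hS hdt hzt).1 hdz
  rcases sform_perp_perp (v := ψ c + ψ z) (g.ne_zero hdt) fun x hx => by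
    by_cases hx0 : x = 0
    · rw [hx0, map_zero]
    obtain ⟨w, hw, rfl⟩ := g.bij.surjOn (show x ∈ {v | v ≠ 0} from hx0)
    rw [map_add, LinearMap.add_apply]
    by_cases hwd : w = d
    · rw [hwd, g.symm (ψ c), g.symm (ψ z), g1, g2]; exact vadd_self _
    have hdw := (g.commute_iff hS hdt hw).2 hx
    have := hagree w ⟨hw.1, hwd, hdw⟩ hw.2.1 hw.2.2
    rw [g.commute_iff hS hw hct, g.commute_iff hS hw hzt, g.symm (ψ w), g.symm (ψ w)] at this
    revert this
    generalize sform m (ψ c) (ψ w) = a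
    generalize sform m (ψ z) (ψ w) = b
    revert a b; decide
    with e | e
  · left
    refine g.bij.injOn hzt hct ?_
    rw [← zero_add (ψ z), ← vadd_self (ψ c), add_assoc, e, add_zero]
  · right
    refine g.bij.injOn hzt (hS.conj d hdt c hct) ?_
    rw [g.conj_add hS hdt hct hdc, ← e, ← add_assoc, vadd_self, zero_add]

theorem symp_tdet : TDet D := by
  intro d hd c hc z hz hdc hdz e
  obtain ⟨t, ht⟩ := h.tri_nonempty hd hc hdc
  refine symp_det h hloc hd hc hz hdc hdz ht ((e.symm ▸ ht : t ∈ tri D d z).2) fun x hx _ _ => ?_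
  exact ⟨fun q => ((e.symm ▸ (⟨hx, q⟩ : x ∈ tri D d c)) : x ∈ tri D d z).2,
    fun q => ((e ▸ (⟨hx, q⟩ : x ∈ tri D d z)) : x ∈ tri D d c).2⟩

variable {d c : G} (hd : d ∈ D) (hc : c ∈ D) (hdc : ¬ Commute d c) {φ : G → Fin m ⊕ Fin m → ZMod 2}
  (f : TwoCo (nb D d) (sform m) {v | v ≠ 0} φ)
include hd hc hdc f

/-- Exactly one of the two members over a point next to a common neighbour is one. -/
theorem symp_section {t x z : G} (ht : t ∈ tri D d c) (hx : x ∈ nb D d) (hz : z ∈ nb D d) (hxt : x ≠ t)
    (htx : Commute t x) (e : φ z = φ x + φ t) : x ∈ tri D d c ↔ z ∉ tri D d c := by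
  obtain ⟨ψ, g⟩ := hloc t ht.1.1
  have hS := h.nb_closed t
  have hSd := h.nb_closed d
  have hdt : d ∈ nb D t := ⟨hd, ht.1.2.1.symm, ht.1.2.2.symm⟩
  have hct : c ∈ nb D t := ⟨hc, fun q => hdc (q ▸ ht.1.2.2), ht.2⟩
  have hxnt : x ∈ nb D t := ⟨hx.1, hxt, htx⟩
  have htxf : sform m (φ t) (φ x) = 0 := (f.commute_iff hSd ht.1 hx).1 htx
  have hzt : z ∈ nb D t := ⟨hz.1, fun q => f.ne_zero hx (by rw [q] at e; exact add_eq_right.1 e.symm),
    (f.commute_iff hSd ht.1 hz).2 (by rw [e, map_add, htxf, sform_self, add_zero])⟩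
  have hne : x ≠ z := fun q => f.ne_zero ht.1 (by rw [← q] at e; exact add_eq_left.1 e.symm)
  rcases sform_perp_perp (v := ψ x + ψ z) (g.ne_zero hdt) fun y hy => by
    by_cases hy0 : y = 0
    · rw [hy0, map_zero]
    obtain ⟨w, hw, rfl⟩ := g.bij.surjOn (show y ∈ {v | v ≠ 0} from hy0)
    rw [map_add, LinearMap.add_apply]
    by_cases hwd : w = d
    · rw [hwd, (g.commute_iff hS hxnt hdt).1 hx.2.2.symm, (g.commute_iff hS hzt hdt).1 hz.2.2.symm, add_zero]
    have hw' : w ∈ nb D d := ⟨hw.1, hwd, (g.commute_iff hS hdt hw).2 hy⟩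
    have htw : sform m (φ t) (φ w) = 0 := (f.commute_iff hSd ht.1 hw').1 hw.2.2
    have : Commute x w ↔ Commute z w := by
      rw [f.commute_iff hSd hx hw', f.commute_iff hSd hz hw', e, map_add, LinearMap.add_apply, htw, add_zero]
    rw [g.commute_iff hS hxnt hw, g.commute_iff hS hzt hw] at this
    revert this
    generalize sform m (ψ x) (ψ w) = a
    generalize sform m (ψ z) (ψ w) = b
    revert a b; decide
    with q | q
  · exact absurd (g.bij.injOn hxnt hzt (by rw [← add_zero (ψ x), ← vadd_self (ψ z), ← add_assoc, q, zero_add])) hne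
  · have h1 : sform m (ψ x) (ψ c) + sform m (ψ z) (ψ c) = 1 := by
      rw [← LinearMap.add_apply, ← map_add, q]; exact (g.form_eq_one hS hdt hct).1 hdc
    rw [show (x ∈ tri D d c) ↔ Commute x c from ⟨fun r => r.2, fun r => ⟨hx, r⟩⟩,
      show (z ∈ tri D d c) ↔ Commute z c from ⟨fun r => r.2, fun r => ⟨hz, r⟩⟩,
      g.commute_iff hS hxnt hct, g.commute_iff hS hzt hct]
    revert h1
    generalize sform m (ψ x) (ψ c) = a
    generalize sform m (ψ z) (ψ c) = b
    revert a b; decide

/-- Outside the common neighbours there are no full lines. -/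
theorem symp_out {a b : G} (ha : a ∈ nb D d) (hb : b ∈ nb D d) (haT : a ∉ tri D d c) (hbT : b ∉ tri D d c)
    (hab : ¬ Commute a b) : a * b * a ∈ tri D d c := by
  by_contra habT
  have hSd := h.nb_closed d
  have hB := (f.form_eq_one hSd ha hb).1 hab
  have hthird := f.conj_add hSd ha hb hab
  obtain ⟨t, ht⟩ := h.tri_nonempty hd hc hdc
  have hP : ∀ u : Fin m ⊕ Fin m → ZMod 2, ∀ i j : ZMod 2, u = i • φ a + j • φ b → ∀ s ∈ tri D d c, φ s ≠ u ∨ u = 0 := by
    intro u i j hu s hs
    refine or_iff_not_imp_right.2 fun hu0 q => ?_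
    rcases two_cases i with rfl | rfl <;> rcases two_cases j with rfl | rfl <;>
      simp only [zero_smul, one_smul, zero_add, add_zero] at hu
    · exact hu0 hu
    · exact hbT (f.bij.injOn hs.1 hb (q.trans hu) ▸ hs)
    · exact haT (f.bij.injOn hs.1 ha (q.trans hu) ▸ hs)
    · exact habT (f.bij.injOn hs.1 (hSd.conj a ha b hb) (by rw [q, hu, hthird, add_comm]) ▸ hs)
  set p := sform m (φ t) (φ b) • φ a + sform m (φ t) (φ a) • φ b with hp
  set w := φ t + p with hw
  have hwa : sform m w (φ a) = 0 := by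
    rw [hw, hp]
    simp only [map_add, map_smul, LinearMap.add_apply, LinearMap.smul_apply, smul_eq_mul, sform_self,
      sform_symm (φ b) (φ a), hB, mul_zero, zero_add, mul_one]
    exact vadd_self _
  have hwb : sform m w (φ b) = 0 := by
    rw [hw, hp]
    simp only [map_add, map_smul, LinearMap.add_apply, LinearMap.smul_apply, smul_eq_mul, sform_self, hB, mul_zero,
      add_zero, mul_one]
    exact vadd_self _
  obtain ⟨s, hs, hsa, hsb⟩ : ∃ s ∈ tri D d c, sform m (φ s) (φ a) = 0 ∧ sform m (φ s) (φ b) = 0 := by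
    by_cases hp0 : p = 0
    · refine ⟨t, ht, ?_, ?_⟩ <;> rw [← add_zero (φ t), ← hp0, ← hw] <;> assumption
    have hw0 : w ≠ 0 := fun q => by
      rcases hP p _ _ hp t ht with r | r
      · exact r (by rw [← add_zero (φ t), ← vadd_self p, ← add_assoc, ← hw, q, zero_add])
      · exact hp0 r
    obtain ⟨x, hx, ex⟩ := f.bij.surjOn (show w ∈ {v | v ≠ 0} from hw0)
    obtain ⟨z, hz, ez⟩ := f.bij.surjOn (show p ∈ {v | v ≠ 0} from hp0)
    have hxt : x ≠ t := fun q => hp0 (by rw [q, hw] at ex; exact add_eq_left.1 ex.symm)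
    have htx : Commute t x := by
      rw [f.commute_iff hSd ht.1 hx, ex, sform_symm]
      have : sform m w p = 0 := by
        rw [hp, map_add, map_smul, map_smul, hwa, hwb, smul_zero, smul_zero, add_zero]
      have e2 : φ t = w + p := by rw [hw, add_assoc, vadd_self, add_zero]
      rw [e2, map_add, sform_self, this, add_zero]
    have hzT : z ∉ tri D d c := fun q => ((hP p _ _ hp z q).resolve_right hp0) ez
    have hxT := (symp_section h hloc hd hc hdc f ht hx hz hxt htx
      (by rw [ez, ex, hw, add_comm (φ t) p, add_assoc, vadd_self, add_zero])).2 hzT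
    exact ⟨x, hxT, by rw [ex]; exact hwa, by rw [ex]; exact hwb⟩
  obtain ⟨ψ, g⟩ := hloc s hs.1.1
  have hS := h.nb_closed s
  have hne : ∀ {x}, x ∈ nb D d → x ∉ tri D d c → sform m (φ s) (φ x) = 0 → x ∈ nb D s := fun {x} hx hxT q =>
    ⟨hx.1, fun e => hxT (e ▸ hs), (f.commute_iff hSd hs.1 hx).2 q⟩
  have hsan := hne ha haT hsa
  have hsbn := hne hb hbT hsb
  have hct : c ∈ nb D s := ⟨hc, fun q => hdc (q ▸ hs.1.2.2), hs.2⟩
  refine habT ⟨hSd.conj a ha b hb, (g.commute_iff hS (hS.conj a hsan b hsbn) hct).2 ?_⟩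
  rw [g.conj_add hS hsan hsbn hab, map_add, LinearMap.add_apply,
    (g.form_eq_one hS hsan hct).1 (fun q => haT ⟨ha, q⟩), (g.form_eq_one hS hsbn hct).1 (fun q => hbT ⟨hb, q⟩)]
  decide

/-- The common neighbours are the norm one vectors of a quadratic form. -/
theorem symp_exists_q : ∃ q, IsQ m q ∧ ∀ x ∈ nb D d, (x ∈ tri D d c ↔ q (φ x) = 1) := by
  classical
  have hSd := h.nb_closed d
  let q : (Fin m ⊕ Fin m → ZMod 2) → ZMod 2 := fun v => if ∃ x ∈ tri D d c, φ x = v then 1 else 0
  have hqm : ∀ x ∈ nb D d, (x ∈ tri D d c ↔ q (φ x) = 1) := fun x hx => by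
    constructor
    · intro r; simp only [q]; rw [if_pos ⟨x, r, rfl⟩]
    · intro r
      simp only [q] at r
      split_ifs at r with w
      · obtain ⟨y, hy, ey⟩ := w
        exact f.bij.injOn hy.1 hx ey ▸ hy
      · exact absurd r (by decide)
  refine ⟨q, fun u v => ?_, hqm⟩
  have q0 : q 0 = 0 := by simp only [q]; rw [if_neg]; rintro ⟨x, hx, e⟩; exact f.ne_zero hx.1 e
  by_cases hu : u = 0
  · rw [hu, zero_add, q0, zero_add, map_zero, LinearMap.zero_apply, add_zero]
  by_cases hv : v = 0
  · rw [hv, add_zero, q0, add_zero, map_zero, add_zero]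
  by_cases huv : u + v = 0
  · have : u = v := by rw [← add_zero u, ← vadd_self v, ← add_assoc, huv, zero_add]
    rw [this, vadd_self, q0, vadd_self, sform_self, add_zero]
  obtain ⟨x, hx, rfl⟩ := f.bij.surjOn (show u ∈ {v | v ≠ 0} from hu)
  obtain ⟨y, hy, rfl⟩ := f.bij.surjOn (show v ∈ {v | v ≠ 0} from hv)
  obtain ⟨z, hz, ez⟩ := f.bij.surjOn (show φ x + φ y ∈ {v | v ≠ 0} from huv)
  rw [← ez]
  have hval : ∀ w ∈ nb D d, (w ∈ tri D d c → q (φ w) = 1) ∧ (w ∉ tri D d c → q (φ w) = 0) := fun w hw =>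
    ⟨(hqm w hw).1, fun r => (two_cases _).resolve_right fun e => r ((hqm w hw).2 e)⟩
  by_cases hxy : Commute x y
  · rw [(f.commute_iff hSd hx hy).1 hxy, add_zero]
    have hxne : x ≠ y := fun e => huv (by rw [e, vadd_self])
    by_cases hxT : x ∈ tri D d c
    · have := symp_section h hloc hd hc hdc f hxT hy hz (Ne.symm hxne) hxy (by rw [ez, add_comm])
      rw [(hval x hx).1 hxT]
      by_cases hyT : y ∈ tri D d c
      · rw [(hval y hy).1 hyT, (hval z hz).2 (this.1 hyT)]; decide
      · rw [(hval y hy).2 hyT, (hval z hz).1 (by_contra fun r => hyT (this.2 r))]; decide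
    · by_cases hyT : y ∈ tri D d c
      · have := symp_section h hloc hd hc hdc f hyT hx hz hxne hxy.symm ez
        rw [(hval y hy).1 hyT, (hval x hx).2 hxT, (hval z hz).1 (by_contra fun r => hxT (this.2 r))]; decide
      · rw [(hval x hx).2 hxT, (hval y hy).2 hyT]
        refine (hval z hz).2 fun hzT => hxT ?_
        refine (symp_section h hloc hd hc hdc f hzT hx hy (fun e => hyT ?_) ?_ ?_).2 hyT
        · refine absurd ?_ (f.ne_zero hy)
          rw [e] at ez
          exact add_eq_left.1 ez.symm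
        · rw [f.commute_iff hSd hz hx, ez, map_add, LinearMap.add_apply, sform_self, sform_symm,
            (f.commute_iff hSd hx hy).1 hxy, add_zero]
        · rw [ez, ← add_assoc, vadd_self, zero_add]
  · rw [(f.form_eq_one hSd hx hy).1 hxy]
    have e1 : φ (x * y * x) = φ z := by rw [f.conj_add hSd hx hy hxy, ez, add_comm]
    have e2 := f.bij.injOn (hSd.conj x hx y hy) hz e1
    by_cases hxT : x ∈ tri D d c
    · have := tri_conj_mem h hd hc hdc hxT hy
      rw [e2] at this
      rw [(hval x hx).1 hxT]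
      by_cases hyT : y ∈ tri D d c
      · rw [(hval y hy).1 hyT, (hval z hz).1 (this.2 hyT)]; decide
      · rw [(hval y hy).2 hyT, (hval z hz).2 fun r => hyT (this.1 r)]; decide
    · by_cases hyT : y ∈ tri D d c
      · have := tri_conj_mem h hd hc hdc hyT hx
        rw [← h.closed.braid hx.1 hy.1 hxy, e2] at this
        rw [(hval y hy).1 hyT, (hval x hx).2 hxT, (hval z hz).2 fun r => hxT (this.1 r)]; decide
      · rw [(hval x hx).2 hxT, (hval y hy).2 hyT,
          (hval z hz).1 (e2 ▸ symp_out h hloc hd hc hdc f hx hy hxT hyT hxy)]; decide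

omit hd hc hdc f in
/-- Symplectic neighbourhoods give an orthogonal group. -/
theorem step_symp : QuadCo D (m + 1) := by
  classical
  obtain ⟨a, ha, -⟩ := h.width
  obtain ⟨c, hc, hdc⟩ := h.exists_far ha
  obtain ⟨φ, f⟩ := hloc a ha
  obtain ⟨q, hq, hp⟩ := symp_exists_q h hloc ha hc hdc f
  have hS := h.nb_closed a
  have hdet := symp_tdet h hloc
  let δ : Fin (m + 1) ⊕ Fin (m + 1) → ZMod 2 := uph 1 0 0
  let γ : Fin (m + 1) ⊕ Fin (m + 1) → ZMod 2 := uph 0 1 0
  have hq0 : ∀ x ∈ nb D a, x ∉ tri D a c → q (φ x) = 0 := fun x hx r =>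
    (two_cases _).resolve_right fun e => r ((hp x hx).2 e)
  have E : Ext D (sform (m + 1)) a c (fun x => uph (1 + q (φ x)) 0 (φ x)) δ γ := by
    refine ⟨sform_symm, sform_self _, sform_self _, ?_, fun x hx y hy e => f.bij.injOn hx hy (uph_inj e).2.2,
      fun x _ => sform_self _, fun x _ => ?_, fun x hx => ?_, fun x hx hxT => ?_, fun x hx y hy => ?_,
      fun x hx y hy r => ?_, fun x hx e => f.ne_zero hx ?_, fun x hx e => f.ne_zero hx ?_,
      fun x hx y hy hxT hyT e => ?_, fun x hx y hy hxT hyT r => symp_out h hloc ha hc hdc f hx hy hxT hyT r,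
      fun z hz hdz => ?_⟩
    · simp only [δ, γ, uph_form, map_zero]; decide
    · simp [δ, uph_form]
    · simp only [γ, uph_form, map_zero, (hp x hx.1).1 hx]; decide
    · simp only [γ, uph_form, map_zero, hq0 x hx hxT]; decide
    · rw [f.commute_iff hS hx hy, uph_form, mul_zero, zero_mul, add_zero, zero_add]
    · show uph (1 + q (φ (x * y * x))) 0 (φ (x * y * x)) = _
      rw [f.conj_add hS hx hy r, uph_add, add_zero, hq, sform_symm, (f.form_eq_one hS hx hy).1 r]
      congr 1
      generalize q (φ x) = i; generalize q (φ y) = j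
      revert i j; decide
    · have h2 : uph (1 + q (φ x)) 0 (φ x) = uph 0 0 0 := by
        refine e.trans (funext fun i => ?_)
        rcases i with i | i <;> refine Fin.cases ?_ (fun j => ?_) i <;> simp [uph]
      exact (uph_inj h2).2.2
    · exact (uph_inj e).2.2
    · simp only [δ, uph_add, hq0 x hx hxT, hq0 y hy hyT] at e
      exact absurd (uph_inj e).1 (by decide)
    · obtain ⟨q', hq', hp'⟩ := symp_exists_q h hloc ha hz hdz f
      obtain ⟨v, hv⟩ := hq.exists_diff hq'
      have same : tri D a z = tri D a c → Commute z c ∨ Commute z (a * c * a) := fun e => by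
        rcases hdet a ha c hc z hz hdc hdz e with rfl | rfl
        exacts [Or.inl (Commute.refl _), Or.inr (Commute.refl _)]
      by_cases hv0 : v = 0
      · refine same (Set.ext fun x => ?_)
        constructor
        · intro r
          exact (hp x r.1).2 (by have := (hp' x r.1).1 r; rwa [hv, hv0, map_zero, LinearMap.zero_apply, add_zero] at this)
        · intro r
          exact (hp' x r.1).2 (by rw [hv, hv0, map_zero, LinearMap.zero_apply, add_zero]; exact (hp x r.1).1 r)
      obtain ⟨u, hu, eu⟩ := f.bij.surjOn (show v ∈ {v | v ≠ 0} from hv0)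
      rcases two_cases (q v) with e0 | e1
      · have huT : u ∉ tri D a c := fun r => absurd ((hp u hu).1 r) (by rw [eu, e0]; decide)
        have heq : tri D a z = tri D a (xx c u) := by
          ext x
          by_cases hx : x ∈ nb D a
          swap
          · exact iff_of_false (fun r => hx r.1) fun r => hx r.1
          have h1 : x ∈ tri D a (xx c u) ↔ u * x * u ∈ tri D a c :=
            ⟨fun r => (commute_xx_nb h ha hc hdc hu hx).1 r.2.symm,
              fun r => ⟨hx, ((commute_xx_nb h ha hc hdc hu hx).2 r).symm⟩⟩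
          rw [h1, hp' x hx, hp _ (hS.conj u hu x hx), f.conj u hu x hx, hq.tvec_apply, eu, e0, mul_zero, add_zero, hv]
        rcases hdet a ha (xx c u) (xx_mem h ha hc hdc hu) z hz (xx_far_d h ha hc hdc hu) hdz heq with rfl | rfl
        · exact Or.inr (xx_comm_c' h ha hc hdc hu huT)
        · rw [← yy_eq_dxd h ha hc hdc hu]
          exact Or.inl (yy_comm_c h ha hc hdc hu huT)
      · have huT : u ∈ tri D a c := (hp u hu).2 (by rw [eu]; exact e1)
        have huz : u ∈ tri D a z := (hp' u hu).2 (by rw [hv, eu, sform_self, add_zero]; exact e1)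
        rcases symp_det h hloc ha hc hz hdc hdz huT huz.2 (fun x hx hxu hux => by
          have h1 := hp x hx
          have h2 := hp' x hx
          rw [hv, ← eu, (f.commute_iff hS hu hx).1 hux, add_zero, ← h1] at h2
          exact ⟨fun r => (h2.2 ⟨hx, r⟩).2, fun r => (h2.1 ⟨hx, r⟩).2⟩) with rfl | rfl
        exacts [Or.inl (Commute.refl _), Or.inr (Commute.refl _)]
  obtain ⟨Ψ, hΨ, hcom, -, -, -⟩ := Ext.exists_map h ha hc hdc E
  let Q : (Fin (m + 1) ⊕ Fin (m + 1) → ZMod 2) → ZMod 2 := fun v =>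
    v (Sum.inl 0) + v (Sum.inr 0) + v (Sum.inl 0) * v (Sum.inr 0) +
      q (Sum.elim (fun i => v (Sum.inl i.succ)) (fun i => v (Sum.inr i.succ)))
  have hQu : ∀ i j w, Q (uph i j w) = i + j + i * j + q w := by
    intro i j w
    simp only [Q, uph, Sum.elim_inl, Sum.elim_inr, Fin.cons_zero, Fin.cons_succ]
    congr 2
    funext k; rcases k with k | k <;> rfl
  have hQ : IsQ (m + 1) Q := by
    intro u v
    obtain ⟨i, j, w, rfl⟩ := uph_surj u
    obtain ⟨i', j', w', rfl⟩ := uph_surj v
    rw [uph_add, hQu, hQu, hQu, uph_form, hq]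
    generalize q w = s; generalize q w' = s'; generalize sform m w w' = r
    revert i j i' j' s s' r; decide
  have hrange : Ext.range D a c (fun x => uph (1 + q (φ x)) 0 (φ x)) δ γ = {v | Q v = 1} := by
    ext v
    simp only [Ext.range, Set.mem_setOf_eq]
    constructor
    · rintro (rfl | ⟨x, hx, rfl⟩ | rfl | rfl | ⟨x, hx, hxT, rfl⟩ | ⟨x, hx, hxT, rfl⟩)
      · rw [hQu, hq.zero]; decide
      · rw [hQu]; generalize q (φ x) = s; revert s; decide
      · rw [hQu, hq.zero]; decide
      · simp only [γ, δ, uph_add, hQu, add_zero, hq.zero]; decide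
      · simp only [γ, uph_add, hQu, zero_add, hq0 x hx hxT]; decide
      · simp only [γ, δ, uph_add, hQu, zero_add, add_zero, hq0 x hx hxT]; decide
    · intro hv
      obtain ⟨i, j, w, rfl⟩ := uph_surj v
      rw [hQu] at hv
      by_cases hw : w = 0
      · subst hw
        rw [hq.zero] at hv
        rcases two_cases i with rfl | rfl <;> rcases two_cases j with rfl | rfl
        · exact absurd hv (by decide)
        · exact Or.inr (Or.inr (Or.inl rfl))
        · exact Or.inl rfl
        · exact Or.inr (Or.inr (Or.inr (Or.inl (by simp only [γ, δ, uph_add, add_zero]; rfl))))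
      obtain ⟨x, hx, rfl⟩ := f.bij.surjOn (show w ∈ {v | v ≠ 0} from hw)
      rcases two_cases j with rfl | rfl
      · refine Or.inr (Or.inl ⟨x, hx, ?_⟩)
        congr 1
        revert hv
        generalize q (φ x) = s; revert i s; decide
      · have hs : q (φ x) = 0 := by revert hv; generalize q (φ x) = s; revert i s; decide
        have hxT : x ∉ tri D a c := fun r => absurd ((hp x hx).1 r) (by rw [hs]; decide)
        rcases two_cases i with rfl | rfl
        · exact Or.inr (Or.inr (Or.inr (Or.inr (Or.inr ⟨x, hx, hxT, by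
            simp only [γ, δ, uph_add, hs, add_zero, zero_add]; rfl⟩))))
        · exact Or.inr (Or.inr (Or.inr (Or.inr (Or.inl ⟨x, hx, hxT, by
            simp only [γ, uph_add, hs, add_zero, zero_add]⟩))))
  rw [hrange] at hΨ
  exact ⟨Q, hQ, Ψ, twoCo_of_graph (R := {v | Q v = 1}) h hdet sform_symm (fun v _ => sform_self v)
    (fun r => by rw [Set.mem_setOf_eq, hQ.zero] at r; exact absurd r (by decide))
    (fun p hp' r hr => by
      show Q (tvec _ p r) = 1
      rw [hQ.tvec_apply, hr, (show Q p = 1 from hp'), mul_one, add_assoc, vadd_self, add_zero])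
    Ψ hΨ hcom⟩

end CfsgLib.Fischer
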