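import Cfsg.Agent.Fischer.StepSym
import Cfsg.Agent.Fischer.StepSymp
import Cfsg.Agent.Spor3T.SymFive
import Cfsg.Agent.Spor3T.Tv.Unitary
import Mathlib.FieldTheory.Finite.GaloisField

/-!
Fischer's theorem: local groups with a non-central core give symmetric, symplectic or unitary coordinates.
-/

set_option autoImplicit false
set_option linter.unusedSectionVars false
set_option linter.style.haveILetI false

namespace CfsgLib.Fischer

open CfsgLib.ThreeT CfsgLib.ThreeT.Prod

universe u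

variable {G : Type u} [Group G] {m : ℕ}

theorem edge_inj_pair {a b c d : Fin m} (hab : a ≠ b) (hcd : c ≠ d) (e : edge a b = edge c d) :
    Equiv.swap a b = Equiv.swap c d := by
  rcases (edge_apply_eq_one hcd).1 (e ▸ (edge_apply_eq_one hab).2 (Or.inl rfl)) with h | h
  · subst h
    rw [edge_inj hab hcd e]
  · subst h
    rw [edge_comm c a] at e
    rw [edge_inj hab (Ne.symm hcd) e, Equiv.swap_comm]

theorem edge_swap (a b i j : Fin m) (hij : i ≠ j) :
    edge (Equiv.swap a b i) (Equiv.swap a b j) = tvec (dot m) (edge a b) (edge i j) := by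
  have h1 : ∀ k, edge (Equiv.swap a b i) (Equiv.swap a b j) k = edge i j (Equiv.swap a b k) := by
    intro k
    simp only [edge_apply, Equiv.swap_apply_eq_iff]
  funext k
  rw [h1, tvec, dot_edge, Pi.add_apply, Pi.smul_apply, smul_eq_mul, edge_apply a b]
  generalize edge i j = v
  by_cases hab : a = b
  · subst hab
    simp [CharTwo.add_self_eq_zero]
  by_cases ha : k = a
  · subst ha
    simp only [Equiv.swap_apply_left, if_true, if_neg hab, add_zero, mul_one]
    exact (show ∀ p q : ZMod 2, q = p + (p + q) by decide) _ _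
  by_cases hb : k = b
  · subst hb
    simp only [Equiv.swap_apply_right, if_true, if_neg (Ne.symm hab), zero_add, mul_one]
    exact (show ∀ p q : ZMod 2, q = p + (q + p) by decide) _ _
  rw [Equiv.swap_apply_of_ne_of_ne ha hb, if_neg ha, if_neg hb]
  simp

/-- Transpositions of a symmetric group are weight two vectors. -/
theorem symCo_of_swaps {D : Set G} (e : G ≃* Equiv.Perm (Fin m)) (hD : ∀ x, x ∈ D ↔ (e x).IsSwap) : SymCo D m := by
  classical
  let φ : G → Fin m → ZMod 2 := fun x k => if e x k = k then 0 else 1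
  have hφ : ∀ x (i j : Fin m), i ≠ j → e x = Equiv.swap i j → φ x = edge i j := by
    intro x i j hij h
    funext k
    simp only [φ, h, edge_apply]
    by_cases h1 : k = i
    · subst h1; simp [hij, Ne.symm hij]
    by_cases h2 : k = j
    · subst h2; simp [hij, Ne.symm hij]
    simp [Equiv.swap_apply_of_ne_of_ne h1 h2, h1, h2]
  refine ⟨φ, ⟨fun x hx => ?_, fun x hx y hy q => ?_, ?_⟩, dot_symm, ?_, ?_, fun x hx y hy => ?_⟩
  · obtain ⟨i, j, hij, he⟩ := (hD x).1 hx
    rw [hφ x i j hij he]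
    exact edge_mem hij
  · obtain ⟨i, j, hij, he⟩ := (hD x).1 hx
    obtain ⟨k, l, hkl, he'⟩ := (hD y).1 hy
    rw [hφ x i j hij he, hφ y k l hkl he'] at q
    exact e.injective (by rw [he, he', edge_inj_pair hij hkl q])
  · rintro _ ⟨i, j, hij, rfl⟩
    have hm : e.symm (Equiv.swap i j) ∈ D := (hD _).2 (by rw [e.apply_symm_apply]; exact ⟨i, j, hij, rfl⟩)
    exact ⟨_, hm, hφ _ i j hij (e.apply_symm_apply _)⟩
  · rintro _ ⟨i, j, hij, rfl⟩
    show dot m (edge i j) (edge i j) = 0
    rw [dot_edge, (edge_apply_eq_one hij).2 (Or.inl rfl), (edge_apply_eq_one hij).2 (Or.inr rfl)]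
    decide
  · rintro ⟨i, j, hij, h⟩
    have := congrFun h i
    rw [Pi.zero_apply, show (Pi.single i 1 + Pi.single j 1 : Fin m → ZMod 2) = edge i j from rfl,
      (edge_apply_eq_one hij).2 (Or.inl rfl)] at this
    exact one_ne_zero this.symm
  · obtain ⟨i, j, hij, he⟩ := (hD x).1 hx
    obtain ⟨k, l, hkl, he'⟩ := (hD y).1 hy
    have hconj : e (x * y * x) = Equiv.swap (Equiv.swap i j k) (Equiv.swap i j l) := by
      rw [map_mul, map_mul, he, he', Equiv.swap_apply_apply, Equiv.swap_inv]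
    have hne : Equiv.swap i j k ≠ Equiv.swap i j l := fun q => hkl ((Equiv.swap i j).injective q)
    rw [hφ _ _ _ hne hconj, hφ x i j hij he, hφ y k l hkl he']
    exact edge_swap _ _ _ _ hkl

theorem five_swap : ∀ σ : Equiv.Perm (Fin 5), σ * σ = 1 → Equiv.Perm.sign σ = -1 →
    ∃ i j, i ≠ j ∧ σ = Equiv.swap i j := by decide +kernel

variable [Finite G] {D : Set G}

/-- A non-central odd core gives five letters. -/
theorem start_five (h : Fi D) {x : G} (hx : x ∈ D)
    (ho : ¬ Cfsg.oddCore ↥(Subgroup.closure (nb D x)) ≤ Subgroup.center ↥(Subgroup.closure (nb D x))) :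
    SymCo D 5 := by
  obtain ⟨e⟩ := CfsgLib.ThreeT.sym_five_of_odd_core h.cls h.sol h.perf hx ho
  have hodd : ∃ y ∈ D, Equiv.Perm.sign (e y) = -1 := by
    by_contra q
    push Not at q
    have hle : (⊤ : Subgroup G) ≤ (Equiv.Perm.sign.comp e.toMonoidHom).ker := by
      rw [← h.gen, Subgroup.closure_le]
      exact fun y hy => (Int.units_eq_one_or (Equiv.Perm.sign (e y))).resolve_right (q y hy)
    have := hle (Subgroup.mem_top (e.symm (Equiv.swap 0 1)))
    rw [MonoidHom.mem_ker, MonoidHom.comp_apply, MulEquiv.coe_toMonoidHom, e.apply_symm_apply,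
      Equiv.Perm.sign_swap (by decide)] at this
    exact absurd this (by decide)
  obtain ⟨y, hy, hs⟩ := hodd
  have hsw : (e y).IsSwap := five_swap _ (by rw [← map_mul, h.closed.sq hy, map_one]) hs
  refine symCo_of_swaps e fun z => ⟨fun hz => ?_, fun hz => ?_⟩
  · obtain ⟨g, rfl⟩ := exists_conj h.cls hy hz
    obtain ⟨a, b, hab, e'⟩ := hsw
    refine ⟨e g a, e g b, fun q => hab ((e g).injective q), ?_⟩
    rw [map_mul, map_mul, map_inv, e', Equiv.swap_apply_apply]
  · obtain ⟨a, b, hab, e'⟩ := hsw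
    obtain ⟨c, d, hcd, e''⟩ := hz
    obtain ⟨τ, hτ⟩ := isConj_iff.1 (Equiv.Perm.isConj_swap hab hcd)
    have : z = e.symm τ * y * (e.symm τ)⁻¹ := e.injective (by
      rw [map_mul, map_mul, map_inv, e.apply_symm_apply, e', e'', hτ])
    exact this ▸ h.mem hy _

open CfsgLib.ThreeT.Tv in
/-- A non-central two-core gives symplectic or unitary coordinates. -/
theorem start_tv (h : Fi D) {x : G} (hx : x ∈ D)
    (h2 : ¬ Cfsg.pCore 2 ↥(Subgroup.closure (nb D x)) ≤ Subgroup.center ↥(Subgroup.closure (nb D x))) :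
    (∃ m, 2 ≤ m ∧ SympCo D m) ∨ ∃ n, 4 ≤ n ∧ UCo D n := by
  classical
  have P := pol_of h.sol h.perf h.cls hx h2
  let ext' : {V : Type} → [Zero V] → (D → V) → G → V := fun {V} _ f x => if hx : x ∈ D then f ⟨x, hx⟩ else 0
  have ht : ∀ a b : D, ((P.t a b : D) : G) = (a : G) * b * a := fun a b => by rw [Pol.coe_cj, P.inv']
  by_cases hA : NoTriangle P
  · obtain ⟨m, vec, hinj, hne, hsurj, hform, hvt⟩ := exists_coord P hA
    let φ : G → Fin m ⊕ Fin m → ZMod 2 := ext' vec
    have eφ : ∀ a : D, φ a = vec a := fun a => dif_pos a.2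
    refine Or.inl ⟨m, ?_, φ, ⟨fun y hy => ?_, fun y hy z hz q => ?_, fun v hv => ?_⟩, sform_symm,
      fun p _ => sform_self p, fun q => q rfl, fun y hy z hz => ?_⟩
    · obtain ⟨a, ha, b, hb, hab, hc⟩ := h.width
      by_contra hlt
      have key : ∀ m, m < 2 → ∀ u v : Fin m ⊕ Fin m → ZMod 2, u ≠ 0 → v ≠ 0 → u ≠ v →
          CfsgLib.Symp.form u v ≠ 0 := by
        intro m hm
        interval_cases m
        · exact fun u v hu => absurd (Subsingleton.elim u 0) hu
        · intro u v hu hv huv q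
          have e : ∀ w : Fin 1 ⊕ Fin 1 → ZMod 2, w = Sum.elim (fun _ => w (Sum.inl 0)) (fun _ => w (Sum.inr 0)) :=
            fun w => funext fun i => by rcases i with i | i <;> simp [Subsingleton.elim i 0]
          rw [← sform_apply, e u, e v] at q
          rw [e u] at hu huv
          rw [e v] at hv huv
          revert hu hv huv q
          generalize u (Sum.inl 0) = p1; generalize u (Sum.inr 0) = p2
          generalize v (Sum.inl 0) = p3; generalize v (Sum.inr 0) = p4
          rw [sform_apply]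
          revert p1 p2 p3 p4
          decide
      exact key m (by omega) _ _ (hne ⟨a, ha⟩) (hne ⟨b, hb⟩)
        (fun q => hab (congrArg Subtype.val (hinj q))) (by rw [hform]; exact phi_com hc)
    · show φ y ≠ 0
      rw [show φ y = vec ⟨y, hy⟩ from eφ ⟨y, hy⟩]
      exact hne _
    · rw [show φ y = vec ⟨y, hy⟩ from eφ ⟨y, hy⟩, show φ z = vec ⟨z, hz⟩ from eφ ⟨z, hz⟩] at q
      exact congrArg Subtype.val (hinj q)
    · obtain ⟨a, rfl⟩ := hsurj v hv
      exact ⟨a, a.2, eφ a⟩
    · have := hvt ⟨y, hy⟩ ⟨z, hz⟩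
      rw [← eφ, ht, ← eφ, ← eφ, CfsgLib.Symp.tv_smul, one_mul, ← sform_apply, sform_symm] at this
      exact this
  · obtain ⟨n, hn, ⟨F⟩, hmax⟩ := exists_maximal_frame hA
    haveI : Fact (Nat.Prime 2) := ⟨Nat.prime_two⟩
    letI : Fintype (GaloisField 2 2) := Fintype.ofFinite _
    have hK : Fintype.card (GaloisField 2 2) = 4 := by
      rw [← Nat.card_eq_fintype_card, GaloisField.card 2 2 (by norm_num)]; norm_num
    obtain ⟨W⟩ := Tv.exists_wt hK
    choose v hv using fun d : D => exists_vec (F := F) (W := W) hn hmax d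
    let φ : G → Fin n → GaloisField 2 2 := ext' v
    have eφ : ∀ a : D, φ a = v a := fun a => dif_pos a.2
    refine Or.inr ⟨n, hn, _, inferInstance, inferInstance, hK, φ, fun y hy => ?_, fun y hy => ?_,
      fun y hy z hz k q => ?_, fun w hw hw' => ?_, fun y hy z hz => ?_⟩
    · exact (eφ ⟨y, hy⟩).symm ▸ (hv _).1
    · exact (eφ ⟨y, hy⟩).symm ▸ (hv _).2.1
    · rw [show φ y = v ⟨y, hy⟩ from eφ ⟨y, hy⟩, show φ z = v ⟨z, hz⟩ from eφ ⟨z, hz⟩] at q
      have hk : k ≠ 0 := fun e => (hv ⟨y, hy⟩).1 (by rw [q, e, zero_smul])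
      exact congrArg Subtype.val (vec_inj hn hmax (hv ⟨y, hy⟩) (q ▸ (hv ⟨z, hz⟩).smul hk))
    · obtain ⟨a, ha⟩ := vec_surj (F := F) (W := W) hn hmax hw hw'
      obtain ⟨k, -, hk⟩ := ha.unique (hv a)
      exact ⟨a, a.2, k, (eφ a).trans hk⟩
    · obtain ⟨k, -, hk⟩ := (vec_t hn hmax (hv ⟨y, hy⟩) (hv ⟨z, hz⟩)).unique (hv (P.t ⟨y, hy⟩ ⟨z, hz⟩))
      rw [← eφ, ht, ← eφ, ← eφ] at hk
      exact ⟨k, hk⟩

end CfsgLib.Fischer
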