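import Cfsg.Agent.Fischer.Basic

/-!
Fischer's theorem: what holds around every far pair, and how a bijection of commuting graphs becomes
compatible with conjugation.
-/

set_option autoImplicit false
set_option linter.unusedSectionVars false

namespace CfsgLib.Fischer

open CfsgLib.ThreeT CfsgLib.ThreeT.Prod

universe u

variable {G : Type u} [Group G]

/-- Two commuting members moving `y`: it commutes with its image under both. -/
theorem Closed.chain {S : Set G} (hS : Closed S) {x x' y : G} (hx : x ∈ S) (hx' : x' ∈ S) (hy : y ∈ S)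
    (hc : Commute x x') (h1 : ¬ Commute x y) (h2 : ¬ Commute x' y) : Commute y (x * (x' * y * x') * x) := by
  refine (?_ : Commute (x * (x' * y * x') * x) y).symm
  rw [hS.commute_conj' hx, hS.braid hx' hy h2, hS.braid hx hy h1, hS.commute_conj hy]
  exact hc.symm

/-- A member commuting with two members of a line commutes with the third. -/
theorem Closed.third_commute {S : Set G} (hS : Closed S) {x y z : G} (h1 : Commute z x) (h2 : Commute z y) :
    Commute z (x * y * x) :=
  (h1.mul_right h2).mul_right h1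

/-- The member commuting with `c` attached to a member of `nb d` outside the common neighbours. -/
def yy (d c a : G) : G := a * (d * c * d) * a

/-- The member commuting with the third point. -/
def xx (c a : G) : G := a * c * a

section pair

variable [Finite G] {D : Set G} (h : Fi D) {d c : G} (hd : d ∈ D) (hc : c ∈ D) (hdc : ¬ Commute d c)
include h hd hc hdc

theorem c'_mem : d * c * d ∈ D := h.closed.conj d hd c hc

theorem c'_far_d : ¬ Commute d (d * c * d) := h.closed.third_far hd hdc

theorem c'_far_c : ¬ Commute c (d * c * d) := by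
  rw [h.closed.braid hd hc hdc]
  exact h.closed.third_far hc fun q => hdc q.symm

theorem commute_c'_iff {z : G} (hz : Commute z d) : Commute z (d * c * d) ↔ Commute z c := by
  refine ⟨fun q => ?_, fun q => h.closed.third_commute hz q⟩
  have := h.closed.third_commute (S := D) hz q
  rwa [h.closed.conj_conj hd] at this

theorem not_commute_both {z : G} (h1 : Commute z c) (h2 : Commute z (d * c * d)) : Commute z d := by
  rw [h.closed.braid hd hc hdc] at h2
  have := h.closed.third_commute (S := D) h1 h2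
  rwa [h.closed.conj_conj hc] at this

theorem far_c {a : G} (ha : a ∈ nb D d) (haT : a ∉ tri D d c) : ¬ Commute a c := fun q => haT ⟨ha, q⟩

theorem xx_eq {a : G} (ha : a ∈ nb D d) (haT : a ∉ tri D d c) : xx c a = c * a * c :=
  h.closed.braid ha.1 hc (far_c h hd hc hdc ha haT)

theorem yy_eq_dxd {a : G} (ha : a ∈ nb D d) : yy d c a = d * xx c a * d := by
  unfold yy xx
  calc a * (d * c * d) * a = (a * d) * c * (d * a) := by group
    _ = (d * a) * c * (a * d) := by rw [ha.2.2.eq]
    _ = _ := by group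

theorem yy_eq_conj {a : G} (ha : a ∈ nb D d) (haT : a ∉ tri D d c) :
    yy d c a = d * c * a * (d * c)⁻¹ := by
  rw [yy_eq_dxd h hd hc hdc ha, xx_eq h hd hc hdc ha haT, mul_inv_rev, h.closed.inv hc, h.closed.inv hd]
  group

theorem xx_mem {a : G} (ha : a ∈ nb D d) : xx c a ∈ D := h.closed.conj a ha.1 c hc

theorem yy_mem {a : G} (ha : a ∈ nb D d) : yy d c a ∈ D := h.closed.conj a ha.1 _ (c'_mem h hd hc hdc)

theorem xx_far_d {a : G} (ha : a ∈ nb D d) : ¬ Commute d (xx c a) := fun q => hdc (by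
  have := (h.closed.commute_conj ha.1 d (xx c a)).2 q
  rwa [xx, h.closed.conj_conj ha.1, (h.closed.fix_iff ha.1 d).2 ha.2.2.symm] at this)

theorem yy_far_d {a : G} (ha : a ∈ nb D d) : ¬ Commute d (yy d c a) := fun q => by
  rw [yy_eq_dxd h hd hc hdc ha] at q
  refine h.closed.third_far hd (fun q' => ?_) q
  exact xx_far_d h hd hc hdc ha q'

theorem xx_comm_c' {a : G} (ha : a ∈ nb D d) (haT : a ∉ tri D d c) : Commute (xx c a) (d * c * d) := by
  rw [xx_eq h hd hc hdc ha haT, h.closed.braid hd hc hdc, h.closed.commute_conj hc]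
  exact ha.2.2.symm

theorem yy_comm_c {a : G} (ha : a ∈ nb D d) (haT : a ∉ tri D d c) : Commute (yy d c a) c := by
  rw [yy_eq_dxd h hd hc hdc ha, h.closed.commute_conj' hd]
  exact xx_comm_c' h hd hc hdc ha haT

theorem xx_far_c {a : G} (ha : a ∈ nb D d) (haT : a ∉ tri D d c) : ¬ Commute (xx c a) c := fun q =>
  xx_far_d h hd hc hdc ha (not_commute_both h hd hc hdc q (xx_comm_c' h hd hc hdc ha haT)).symm

theorem yy_far_c' {a : G} (ha : a ∈ nb D d) (haT : a ∉ tri D d c) : ¬ Commute (yy d c a) (d * c * d) := fun q =>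
  yy_far_d h hd hc hdc ha (not_commute_both h hd hc hdc (yy_comm_c h hd hc hdc ha haT) q).symm

theorem xx_ne_yy {a b : G} (ha : a ∈ nb D d) (haT : a ∉ tri D d c) (hb : b ∈ nb D d) (hbT : b ∉ tri D d c) :
    xx c a ≠ yy d c b := fun e => xx_far_c h hd hc hdc ha haT (e ▸ yy_comm_c h hd hc hdc hb hbT)

theorem yy_ne_c {a : G} (ha : a ∈ nb D d) (haT : a ∉ tri D d c) : yy d c a ≠ c := fun e =>
  yy_far_c' h hd hc hdc ha haT (by
    have e2 : a = d := by
      have h1 := yy_eq_conj h hd hc hdc ha haT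
      rw [e] at h1
      have h2 : d = (d * c)⁻¹ * c * (d * c) := by
        rw [mul_inv_rev, h.closed.inv hc, h.closed.inv hd]
        calc d = c * (c * d * c) * c := (h.closed.conj_conj hc d).symm
          _ = c * (d * c * d) * c := by rw [h.closed.braid hd hc hdc]
          _ = _ := by group
      refine (?_ : a = (d * c)⁻¹ * c * (d * c)).trans h2.symm
      calc a = (d * c)⁻¹ * (d * c * a * (d * c)⁻¹) * (d * c) := by group
        _ = _ := by rw [← h1]
    exact absurd e2 ha.2.1)

theorem xx_ne_c' {a : G} (ha : a ∈ nb D d) (haT : a ∉ tri D d c) : xx c a ≠ d * c * d := fun e => by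
  refine yy_ne_c h hd hc hdc ha haT ?_
  rw [yy_eq_dxd h hd hc hdc ha, e, h.closed.conj_conj hd]

theorem xx_injOn {a b : G} (ha : a ∈ nb D d) (haT : a ∉ tri D d c) (hb : b ∈ nb D d) (hbT : b ∉ tri D d c)
    (e : xx c a = xx c b) : a = b := by
  rw [xx_eq h hd hc hdc ha haT, xx_eq h hd hc hdc hb hbT] at e
  exact mul_left_cancel (mul_right_cancel e)

theorem yy_injOn {a b : G} (ha : a ∈ nb D d) (haT : a ∉ tri D d c) (hb : b ∈ nb D d) (hbT : b ∉ tri D d c)
    (e : yy d c a = yy d c b) : a = b := by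
  rw [yy_eq_conj h hd hc hdc ha haT, yy_eq_conj h hd hc hdc hb hbT] at e
  exact mul_left_cancel (mul_right_cancel e)

theorem commute_xx_xx {a b : G} (ha : a ∈ nb D d) (haT : a ∉ tri D d c) (hb : b ∈ nb D d)
    (hbT : b ∉ tri D d c) : Commute (xx c a) (xx c b) ↔ Commute a b := by
  rw [xx_eq h hd hc hdc ha haT, xx_eq h hd hc hdc hb hbT, h.closed.commute_conj hc]

theorem commute_yy_yy {a b : G} (ha : a ∈ nb D d) (haT : a ∉ tri D d c) (hb : b ∈ nb D d)
    (hbT : b ∉ tri D d c) : Commute (yy d c a) (yy d c b) ↔ Commute a b := by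
  rw [yy_eq_conj h hd hc hdc ha haT, yy_eq_conj h hd hc hdc hb hbT, commute_conj_iff]

theorem commute_xx_nb {a b : G} (ha : a ∈ nb D d) (hb : b ∈ nb D d) :
    Commute (xx c a) b ↔ a * b * a ∈ tri D d c := by
  rw [xx, h.closed.commute_conj' ha.1]
  exact ⟨fun q => ⟨(h.nb_closed d).conj a ha b hb, q.symm⟩, fun q => q.2.symm⟩

theorem commute_yy_nb {a b : G} (ha : a ∈ nb D d) (hb : b ∈ nb D d) :
    Commute (yy d c a) b ↔ a * b * a ∈ tri D d c := by
  rw [yy_eq_dxd h hd hc hdc ha, h.closed.commute_conj' hd, (h.closed.fix_iff hd b).2 hb.2.2]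
  exact commute_xx_nb h hd hc hdc ha hb

theorem tri_conj_mem {a t : G} (ha : a ∈ tri D d c) (ht : t ∈ nb D d) :
    a * t * a ∈ tri D d c ↔ t ∈ tri D d c := by
  refine ⟨fun q => ?_, fun q => (h.closed.tri d c).conj a ha t q⟩
  have := (h.closed.tri d c).conj a ha _ q
  rwa [h.closed.conj_conj ha.1.1] at this

/-- When can `xx a` and `yy b` commute. -/
theorem commute_xx_yy {a b : G} (ha : a ∈ nb D d) (haT : a ∉ tri D d c) (hb : b ∈ nb D d)
    (hbT : b ∉ tri D d c) :
    (Commute a b → ¬ Commute (xx c a) (yy d c b)) ∧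
      (a * b * a ∈ tri D d c → Commute (xx c a) (yy d c b)) := by
  refine ⟨fun hab q => ?_, fun haba => ?_⟩
  · by_cases e : a = b
    · subst e
      unfold xx yy at q
      exact c'_far_c h hd hc hdc ((h.closed.commute_conj ha.1 _ _).1 q)
    · have hch := h.closed.chain ha.1 hb.1 hc hab (far_c h hd hc hdc ha haT) (far_c h hd hc hdc hb hbT)
      have q' : Commute (b * (a * c * a) * b) (d * c * d) := by
        unfold xx yy at q
        rwa [h.closed.commute_conj' hb.1]
      have hswap : a * (b * c * b) * a = b * (a * c * a) * b := by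
        calc a * (b * c * b) * a = (a * b) * c * (b * a) := by group
          _ = (b * a) * c * (a * b) := by rw [hab.eq]
          _ = _ := by group
      rw [hswap] at hch
      have hw := not_commute_both h hd hc hdc hch.symm q'
      have hfix : ∀ x ∈ nb D d, x * d * x = d := fun x hx => (h.closed.fix_iff hx.1 d).2 hx.2.2.symm
      rw [h.closed.commute_conj' hb.1, hfix b hb, h.closed.commute_conj' ha.1, hfix a ha] at hw
      exact hdc hw.symm
  · unfold xx yy
    rw [h.closed.commute_conj' ha.1]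
    have e : a * (b * (d * c * d) * b) * a = (a * b * a) * (a * (d * c * d) * a) * (a * b * a) := by
      calc a * (b * (d * c * d) * b) * a
          = a * b * (a * a) * (d * c * d) * (a * a) * b * a := by rw [h.closed.sq ha.1]; group
        _ = _ := by group
    rw [e]
    exact (h.closed.third_commute (S := D) haba.2.symm (yy_comm_c h hd hc hdc ha haT).symm)

/-- The members far from `d` commuting with `c`. -/
theorem exists_yy {z : G} (hz : z ∈ nb D c) (hzd : ¬ Commute d z) :
    ∃ a ∈ nb D d, a ∉ tri D d c ∧ yy d c a = z := by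
  set g := d * c with hg
  have hgd : g * d * g⁻¹ = c := by
    rw [hg, mul_inv_rev, h.closed.inv hc, h.closed.inv hd]
    calc d * c * d * (c * d) = (d * c * d) * c * d := by group
      _ = (c * d * c) * c * d := by rw [h.closed.braid hd hc hdc]
      _ = c := by rw [h.closed.cancel_right hc, h.closed.cancel_right hd]
  set a := g⁻¹ * z * g⁻¹⁻¹ with ha'
  have hga : g * a * g⁻¹ = z := by rw [ha']; group
  have ha : a ∈ nb D d := by
    refine ⟨h.mem hz.1 _, fun e => hz.2.1 (by rw [← hga, e, hgd]), ?_⟩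
    rw [← commute_conj_iff g, hgd, hga]
    exact hz.2.2
  have haT : a ∉ tri D d c := fun q => hzd (by
    have hga' : Commute g a := q.1.2.2.mul_left q.2.symm
    rw [← hga, hga'.eq, mul_inv_cancel_right]
    exact q.1.2.2)
  exact ⟨a, ha, haT, by rw [yy_eq_conj h hd hc hdc ha haT, ← hg, hga]⟩

/-- The members far from `d` commuting with the third point. -/
theorem exists_xx {z : G} (hz : z ∈ nb D (d * c * d)) (hzd : ¬ Commute d z) :
    ∃ a ∈ nb D d, a ∉ tri D d c ∧ xx c a = z := by
  have hz' : d * z * d ∈ nb D c := by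
    refine ⟨h.closed.conj d hd z hz.1, fun e => hz.2.1 ?_, ?_⟩
    · rw [← e, h.closed.conj_conj hd]
    · rw [← h.closed.conj_conj hd c, h.closed.commute_conj hd]; exact hz.2.2
  obtain ⟨a, ha, haT, e⟩ := exists_yy h hd hc hdc hz' (h.closed.third_far hd hzd)
  refine ⟨a, ha, haT, ?_⟩
  rw [yy_eq_dxd h hd hc hdc ha] at e
  exact mul_left_cancel (mul_right_cancel e)

end pair

/-- The common neighbours determine a far pair. -/
def TDet (D : Set G) : Prop :=
  ∀ d ∈ D, ∀ c ∈ D, ∀ c2 ∈ D, ¬ Commute d c → ¬ Commute d c2 → tri D d c2 = tri D d c →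
    c2 = c ∨ c2 = d * c * d

variable {P : Type*}

/-- A graph model with third points. -/
structure IsModel (R : Set P) (com : P → P → Prop) (t : P → P → P) : Prop where
  symm : ∀ p ∈ R, ∀ q ∈ R, com p q → com q p
  fix : ∀ p ∈ R, ∀ q ∈ R, com p q → t p q = q
  mem : ∀ p ∈ R, ∀ q ∈ R, t p q ∈ R
  ne : ∀ p ∈ R, ∀ q ∈ R, ¬ com p q → t p q ≠ q
  far : ∀ p ∈ R, ∀ q ∈ R, ¬ com p q → ¬ com p (t p q)
  common : ∀ p ∈ R, ∀ q ∈ R, ∀ r ∈ R, com r p → com r q → com r (t p q)

/-- A bijection keeping commutation respects conjugation if common neighbours determine pairs. -/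
theorem conj_of_graph [Finite G] {D : Set G} (h : Fi D) (hdet : TDet D) {R : Set P} {com : P → P → Prop}
    {t : P → P → P} (hM : IsModel R com t) (φ : G → P) (hφ : Set.BijOn φ D R)
    (hcom : ∀ x ∈ D, ∀ y ∈ D, (Commute x y ↔ com (φ x) (φ y))) :
    ∀ x ∈ D, ∀ y ∈ D, φ (x * y * x) = t (φ x) (φ y) := by
  intro x hx y hy
  have hp := hφ.mapsTo hx
  have hq := hφ.mapsTo hy
  by_cases hxy : Commute x y
  · rw [(h.closed.fix_iff hx y).2 hxy, hM.fix _ hp _ hq ((hcom x hx y hy).1 hxy)]
  have hn : ¬ com (φ x) (φ y) := fun q => hxy ((hcom x hx y hy).2 q)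
  obtain ⟨z, hz, ez⟩ := hφ.surjOn (hM.mem _ hp _ hq)
  have hxz : ¬ Commute x z := fun q => hM.far _ hp _ hq hn (ez ▸ (hcom x hx z hz).1 q)
  have hsub : tri D x y ⊆ tri D x z := fun r hr => ⟨hr.1, by
    rw [hcom r hr.1.1 z hz, ez]
    exact hM.common _ hp _ hq _ (hφ.mapsTo hr.1.1) ((hcom r hr.1.1 x hx).1 hr.1.2.2.symm)
      ((hcom r hr.1.1 y hy).1 hr.2)⟩
  have heq := Set.eq_of_subset_of_ncard_le hsub (h.tri_ncard hx hz hxz hx hy hxy).le (Set.toFinite _)
  rcases hdet x hx y hy z hz hxy hxz heq.symm with e | e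
  · exact absurd (e ▸ ez).symm (hM.ne _ hp _ hq hn)
  · rw [← e, ez]

end CfsgLib.Fischer
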