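import Cfsg.Agent.Fischer.Coords
import Cfsg.Agent.Fischer.Pair
import Cfsg.Agent.Fischer.Herm

/-!
Fischer's theorem: unitary neighbourhoods, the common neighbours next to one of them.
-/

set_option autoImplicit false
set_option linter.unusedSectionVars false
set_option linter.style.haveILetI false

namespace CfsgLib.Fischer

open CfsgLib.ThreeT CfsgLib.ThreeT.Prod CfsgLib.ThreeT.Tv

universe u

section chart

variable {G : Type u} [Group G] {K : Type} [Field K] [Finite K] (W : Wt K) {n : ℕ} {S : Set G}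
  {φ : G → Fin n → K} (f : UC S φ)

local notation "hh" => Cfsg.hermForm n K 2

include W f

theorem UC.com_iff (hS : Closed S) {x y : G} (hx : x ∈ S) (hy : y ∈ S) :
    Commute x y ↔ hh (φ x) (φ y) = 0 := by
  obtain ⟨k, hk⟩ := f.conj x hx y hy
  constructor
  · intro q
    rw [(hS.fix_iff hx y).2 q] at hk
    by_cases e : x = y
    · subst e; exact f.iso x hx
    by_contra hne
    have hb : hh (φ y) (φ x) ≠ 0 := fun r => hne ((W.hh_comm _ _).1 r)
    rw [tau, smul_add, smul_smul] at hk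
    have hk0 : k ≠ 0 := fun r => f.nz y hy (by rw [hk, r, zero_smul, zero_mul, zero_smul, add_zero])
    refine e (f.inj x hx y hy ((k * hh (φ y) (φ x))⁻¹ * (1 - k)) ?_)
    rw [← smul_smul, sub_smul, one_smul]
    nth_rw 2 [hk]
    rw [add_sub_cancel_left, smul_smul, inv_mul_cancel₀ (mul_ne_zero hk0 hb), one_smul]
  · intro q
    refine (hS.fix_iff hx y).1 (f.inj _ (hS.conj x hx y hy) y hy k ?_)
    rw [hk, tau, (W.hh_comm _ _).1 q, zero_smul, add_zero]

theorem UC.exists_rep {v : Fin n → K} (h0 : v ≠ 0) (hv : hh v v = 0) :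
    ∃ x ∈ S, ∃ k : K, k ≠ 0 ∧ φ x = k • v := by
  obtain ⟨x, hx, k, hk⟩ := f.surj v h0 hv
  exact ⟨x, hx, k, fun e => f.nz x hx (by rw [hk, e, zero_smul]), hk⟩

theorem UC.eq_of_smul {x y : G} (hx : x ∈ S) (hy : y ∈ S) {v : Fin n → K} {k l : K} (hl : l ≠ 0)
    (ex : φ x = k • v) (ey : φ y = l • v) : x = y :=
  f.inj x hx y hy (k / l) (by rw [ex, ey, smul_smul, div_mul_cancel₀ _ hl])

/-- A word moves the points by transvections. -/
theorem uni_word (hS : Closed S) : ∀ l : List G, (∀ x ∈ l, x ∈ S) → ∀ y ∈ S,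
    l.prod * y * l.prod⁻¹ ∈ S ∧
      ∃ k : K, φ (l.prod * y * l.prod⁻¹) = k • l.foldr (fun x v => tau (φ x) v) (φ y) := by
  intro l
  induction l with
  | nil => exact fun _ y hy => ⟨by simpa using hy, 1, by simp⟩
  | cons x l ih =>
    intro hl y hy
    have hx := hl x (List.mem_cons_self ..)
    obtain ⟨hm, k, hk⟩ := ih (fun z hz => hl z (List.mem_cons_of_mem _ hz)) y hy
    have he : (x :: l).prod * y * (x :: l).prod⁻¹ = x * (l.prod * y * l.prod⁻¹) * x := by
      rw [List.prod_cons, mul_inv_rev, hS.inv hx]; group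
    rw [he]
    refine ⟨hS.conj x hx _ hm, ?_⟩
    obtain ⟨k', hk'⟩ := f.conj x hx _ hm
    exact ⟨k' * k, by rw [hk', hk, tau_smul_right, smul_smul]; rfl⟩

end chart

section sub

variable {G : Type u} [Group G] [Finite G] {D : Set G} {K : Type} [Field K] [Finite K] (W : Wt K) {n m : ℕ}
  (h : Fi D) {a d c : G} {φ : G → Fin n → K} (f : UC (nb D a) φ) (hd : d ∈ D) (hc : c ∈ D) (hdc : ¬ Commute d c)
  (ha : a ∈ tri D d c) {E : (Fin m → K) →ₗ[K] (Fin n → K)}

local notation "hh" => Cfsg.hermForm n K 2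

include W h f hd hc hdc ha

theorem pair_far : hh (φ d) (φ c) ≠ 0 := fun e => hdc ((f.com_iff W (h.nb_closed a)
  ⟨hd, ha.1.2.1.symm, ha.1.2.2.symm⟩ ⟨hc, fun q => hdc (q ▸ ha.1.2.2), ha.2⟩).2 e)

theorem mem_nb_tri {x : G} : x ∈ nb (tri D d c) a ↔
    x ∈ nb D a ∧ hh (φ x) (φ d) = 0 ∧ hh (φ x) (φ c) = 0 := by
  have hSa := h.nb_closed a
  have hda : d ∈ nb D a := ⟨hd, ha.1.2.1.symm, ha.1.2.2.symm⟩
  have hca : c ∈ nb D a := ⟨hc, fun q => hdc (q ▸ ha.1.2.2), ha.2⟩
  constructor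
  · rintro ⟨⟨⟨hxD, hxd, hdx⟩, hxc⟩, hxa, hax⟩
    have hx : x ∈ nb D a := ⟨hxD, hxa, hax⟩
    exact ⟨hx, (f.com_iff W hSa hx hda).1 hdx.symm, (f.com_iff W hSa hx hca).1 hxc⟩
  · rintro ⟨hx, h1, h2⟩
    refine ⟨⟨⟨hx.1, fun e => ?_, ((f.com_iff W hSa hx hda).2 h1).symm⟩, (f.com_iff W hSa hx hca).2 h2⟩,
      hx.2.1, hx.2.2⟩
    rw [e] at h2
    exact pair_far W h f hd hc hdc ha h2

theorem nb_tri_uni (hE : Function.Injective E) (hEh : ∀ u v, hh (E u) (E v) = Cfsg.hermForm m K 2 u v)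
    (hEr : ∀ x, (hh x (φ d) = 0 ∧ hh x (φ c) = 0) ↔ ∃ u, E u = x) :
    UC (nb (tri D d c) a) (fun x => Function.invFun E (φ x)) := by
  have inv : ∀ x ∈ nb (tri D d c) a, E (Function.invFun E (φ x)) = φ x := fun x hx =>
    Function.invFun_eq ((hEr _).1 ((mem_nb_tri W h f hd hc hdc ha).1 hx).2)
  refine ⟨fun x hx e => f.nz x ((mem_nb_tri W h f hd hc hdc ha).1 hx).1 ?_, fun x hx => ?_,
    fun x hx y hy k e => f.inj x ((mem_nb_tri W h f hd hc hdc ha).1 hx).1 y ((mem_nb_tri W h f hd hc hdc ha).1 hy).1 k ?_,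
    fun v hv hv' => ?_, fun x hx y hy => ?_⟩
  · rw [← inv x hx, e, map_zero]
  · rw [← hEh, inv x hx]
    exact f.iso x ((mem_nb_tri W h f hd hc hdc ha).1 hx).1
  · rw [← inv x hx, e, map_smul, inv y hy]
  · obtain ⟨x, hx, k, hk, ex⟩ := f.exists_rep W (v := E v) (fun e => hv (hE (e.trans (map_zero E).symm)))
      (by rw [hEh]; exact hv')
    have hxm : x ∈ nb (tri D d c) a := (mem_nb_tri W h f hd hc hdc ha).2 ⟨hx, (hEr _).2 ⟨k • v, by rw [map_smul, ex]⟩⟩
    exact ⟨x, hxm, k, hE (by rw [inv x hxm, map_smul, ex])⟩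
  · obtain ⟨k, hk⟩ := f.conj x ((mem_nb_tri W h f hd hc hdc ha).1 hx).1 y ((mem_nb_tri W h f hd hc hdc ha).1 hy).1
    have hxy : x * y * x ∈ nb (tri D d c) a := ((h.closed.tri d c).nb a).conj x hx y hy
    refine ⟨k, hE ?_⟩
    rw [inv _ hxy, hk, map_smul, tau, tau, map_add, map_smul, ← hEh, inv x hx, inv y hy]

end sub

/-- Three vectors of the standard space of dimension three. -/
def gvec {K : Type} [Field K] (W : Wt K) : Fin 3 → Fin 3 → K :=
  ![![0, 1, 1], ![0, 1, W.wt 1], ![1, 0, 1]]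

section three

variable {K : Type} [Field K] [Finite K] (W : Wt K)

local notation "h3" => Cfsg.hermForm 3 K 2

include W

theorem wt_two : W.wt 2 = W.wt 1 + 1 ∧ W.wt 1 * W.wt 1 = W.wt 1 + 1 := by
  have h1 := wt_one W
  have h2 : W.wt 2 = W.wt 1 ^ 2 := by rw [W.sq]; congr 1
  constructor
  · rw [h2]; linear_combination h1 - W.wt 1 * W.two
  · linear_combination h1 - W.wt 1 * W.two

theorem three_zero_coord {v : Fin 3 → K} (hv : h3 v v = 0) : ∃ i, v i = 0 := by
  by_contra q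
  push Not at q
  have e : supp v = Finset.univ := Finset.eq_univ_iff_forall.2 fun i => mem_supp.2 (q i)
  have := (W.iso_iff v).1 hv
  rw [e, Finset.card_univ, Fintype.card_fin] at this
  exact absurd this (by decide)

/-- A set closed under the transvections containing three points contains all. -/
theorem three_generate {P : (Fin 3 → K) → Prop} (hsm : ∀ v (k : K), k ≠ 0 → P v → P (k • v))
    (htau : ∀ u v, P u → P v → P (tau u v)) (h : ∀ i, P (gvec W i)) {v : Fin 3 → K} (h0 : v ≠ 0) (hv : h3 v v = 0) :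
    P v := by
  obtain ⟨e2, e11⟩ := wt_two W
  have e := W.two
  set w := W.wt 1 with hw
  have A := h 0
  have B := h 1
  have Z := h 2
  simp only [gvec, Matrix.cons_val] at A B Z
  rw [← hw] at B
  have mk : ∀ {p q : Fin 3 → K} (k : K) (r : Fin 3 → K), P p → P q → k ≠ 0 → tau p q = k • r → P r := by
    intro p q k r hp hq hk e
    have := hsm _ k⁻¹ (inv_ne_zero hk) (htau p q hp hq)
    rwa [e, smul_smul, inv_mul_cancel₀ hk, one_smul] at this
  have C : P ![0, 1, w + 1] := mk w _ A B (W.ne 1) (by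
    funext i; fin_cases i <;> simp [tau, Cfsg.hermForm, Fin.sum_univ_three] <;> grind)
  have A2 : P ![1, 1, 0] := mk 1 _ A Z one_ne_zero (by
    funext i; fin_cases i <;> simp [tau, Cfsg.hermForm, Fin.sum_univ_three] <;> grind)
  have B2 : P ![1, w + 1, 0] := mk 1 _ B Z one_ne_zero (by
    funext i; fin_cases i <;> simp [tau, Cfsg.hermForm, Fin.sum_univ_three] <;> grind)
  have C2 : P ![1, w, 0] := mk 1 _ C Z one_ne_zero (by
    funext i; fin_cases i <;> simp [tau, Cfsg.hermForm, Fin.sum_univ_three] <;> grind)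
  have B3 : P ![1, 0, w] := mk 1 _ B A2 one_ne_zero (by
    funext i; fin_cases i <;> simp [tau, Cfsg.hermForm, Fin.sum_univ_three] <;> grind)
  have C3 : P ![1, 0, w + 1] := mk 1 _ C A2 one_ne_zero (by
    funext i; fin_cases i <;> simp [tau, Cfsg.hermForm, Fin.sum_univ_three] <;> grind)
  have cases : ∀ x : K, x ≠ 0 → x = 1 ∨ x = w ∨ x = w + 1 := by
    intro x hx
    obtain ⟨i, rfl⟩ := W.surj x hx
    rcases (show ∀ i : ZMod 3, i = 0 ∨ i = 1 ∨ i = 2 by decide) i with r | r | r <;> subst r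
    · exact Or.inl W.zero
    · exact Or.inr (Or.inl rfl)
    · exact Or.inr (Or.inr e2)
  obtain ⟨z, hz⟩ := three_zero_coord W hv
  obtain ⟨i, j, hij, hi, hj⟩ := exists_two_supp W h0 hv
  fin_cases z
  · have hz : v 0 = 0 := hz
    have h1 : v 1 ≠ 0 ∧ v 2 ≠ 0 := by fin_cases i <;> fin_cases j <;> simp_all
    have ev : v = v 1 • ![0, 1, v 2 / v 1] := by funext l; fin_cases l <;> simp [hz, mul_div_cancel₀ _ h1.1]
    rw [ev]; refine hsm _ _ h1.1 ?_
    rcases cases _ (div_ne_zero h1.2 h1.1) with r | r | r <;> rw [r] <;> assumption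
  · have hz : v 1 = 0 := hz
    have h1 : v 0 ≠ 0 ∧ v 2 ≠ 0 := by fin_cases i <;> fin_cases j <;> simp_all
    have ev : v = v 0 • ![1, 0, v 2 / v 0] := by funext l; fin_cases l <;> simp [hz, mul_div_cancel₀ _ h1.1]
    rw [ev]; refine hsm _ _ h1.1 ?_
    rcases cases _ (div_ne_zero h1.2 h1.1) with r | r | r <;> rw [r] <;> assumption
  · have hz : v 2 = 0 := hz
    have h1 : v 0 ≠ 0 ∧ v 1 ≠ 0 := by fin_cases i <;> fin_cases j <;> simp_all
    have ev : v = v 0 • ![1, v 1 / v 0, 0] := by funext l; fin_cases l <;> simp [hz, mul_div_cancel₀ _ h1.1]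
    rw [ev]; refine hsm _ _ h1.1 ?_
    rcases cases _ (div_ne_zero h1.2 h1.1) with r | r | r <;> rw [r] <;> assumption

theorem gvec_iso (i : Fin 3) : gvec W i ≠ 0 ∧ h3 (gvec W i) (gvec W i) = 0 := by
  refine ⟨fun q => ?_, ?_⟩
  · fin_cases i
    · exact one_ne_zero (by simpa [gvec] using congrFun q 1 : (1 : K) = 0)
    · exact one_ne_zero (by simpa [gvec] using congrFun q 1 : (1 : K) = 0)
    · exact one_ne_zero (by simpa [gvec] using congrFun q 0 : (1 : K) = 0)
  · fin_cases i <;> simp [gvec, Cfsg.hermForm, Fin.sum_univ_three]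
    · linear_combination W.two
    · linear_combination W.cube (W.ne 1) + W.two
    · linear_combination W.two

theorem gvec_span {v : Fin 3 → K} (h : ∀ i, h3 v (gvec W i) = 0) : v = 0 := by
  have a := h 0
  have b := h 1
  have c := h 2
  simp [gvec, Cfsg.hermForm, Fin.sum_univ_three] at a b c
  have hne : W.wt 1 ^ 2 - 1 ≠ 0 := by
    intro q
    refine absurd (W.inj (?_ : W.wt (-1) = W.wt 0)) (by decide)
    rw [← W.sq, W.zero]
    exact sub_eq_zero.1 q
  have h2 : v 2 = 0 := by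
    have : v 2 * (W.wt 1 ^ 2 - 1) = 0 := by linear_combination b - a
    exact (mul_eq_zero.1 this).resolve_right hne
  funext i
  fin_cases i
  · show v 0 = 0
    linear_combination c - h2
  · show v 1 = 0
    linear_combination a - h2
  · exact h2

end three

end CfsgLib.Fischer
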