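import Cfsg.Agent.Fischer.Component
import Mathlib.Algebra.BigOperators.Group.Finset.Basic

/-!
Fischer's theorem: conjugation permutes components like a class of transpositions without commuting pairs.
-/

set_option autoImplicit false
set_option linter.unusedSectionVars false

namespace CfsgLib.Fischer

open CfsgLib.ThreeT CfsgLib.ThreeT.Prod

universe u

variable {G : Type u} [Group G] {S : Set G}

theorem comp_image (hS : Closed S) {g x : G} (hg : g ∈ S) (_hx : x ∈ S) :
    (fun y => g * y * g) '' comp S x = comp S (g * x * g) := by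
  ext y
  constructor
  · rintro ⟨y, hy, rfl⟩
    exact ⟨hS.conj g hg y hy.1, hy.2.conj hS hg⟩
  · intro hy
    refine ⟨g * y * g, ⟨hS.conj g hg y hy.1, ?_⟩, hS.conj_conj hg y⟩
    have := hy.2.conj hS hg
    rwa [hS.conj_conj hg] at this

theorem comp_conj_iff (hS : Closed S) {g x y : G} (hg : g ∈ S) (hx : x ∈ S) (hy : y ∈ S) :
    comp S (g * x * g) = comp S y ↔ comp S x = comp S (g * y * g) := by
  constructor <;> intro e
  · rw [← comp_image hS hg hy, ← e, comp_image hS hg (hS.conj g hg x hx), hS.conj_conj hg]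
  · rw [← comp_image hS hg hx, e, comp_image hS hg (hS.conj g hg y hy), hS.conj_conj hg]

theorem comp_far (hS : Closed S) {x y : G} (hx : x ∈ S) (hy : y ∈ S) (hne : comp S x ≠ comp S y) :
    ¬ Commute x y := fun q => hne (comp_eq (comp_step (mem_comp_self hx) hy q)).symm

/-- No member keeps another component. -/
theorem comp_moves (hS : Closed S) {x y : G} (hx : x ∈ S) (hy : y ∈ S) (hne : comp S x ≠ comp S y) :
    comp S (x * y * x) ≠ comp S y ∧ comp S (x * y * x) ≠ comp S x := by
  constructor
  · intro e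
    rw [hS.braid hx hy (comp_far hS hx hy hne), comp_conj_iff hS hy hx hy, (hS.fix_iff hy y).2 (Commute.refl y)] at e
    exact hne e
  · intro e
    rw [comp_conj_iff hS hx hy hx, (hS.fix_iff hx x).2 (Commute.refl x)] at e
    exact hne e.symm

variable [Finite G]

/-- The number of components is odd and is not five. -/
theorem comp_shape (hS : Closed S) (J : Finset (Set G)) (hJ : ∀ C, C ∈ J ↔ ∃ a ∈ S, comp S a = C)
    (hne : S.Nonempty) : Odd J.card ∧ J.card ≠ 5 := by
  classical
  obtain ⟨a, ha⟩ := hne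
  have haJ : comp S a ∈ J := (hJ _).2 ⟨a, ha, rfl⟩
  have hodd : ((J.erase (comp S a)).card : ZMod 2) = 0 := by
    have hmem : ∀ C ∈ J.erase (comp S a), ∃ x ∈ S, C = comp S x ∧ comp S a ≠ comp S x := by
      intro C hC
      obtain ⟨hne, hC⟩ := Finset.mem_erase.1 hC
      obtain ⟨x, hx, rfl⟩ := (hJ _).1 hC
      exact ⟨x, hx, rfl, fun q => hne q.symm⟩
    rw [Finset.card_eq_sum_ones, Nat.cast_sum]
    refine Finset.sum_involution (fun C _ => (fun y => a * y * a) '' C) (fun C hC => by decide) (fun C hC _ e => ?_)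
      (fun C hC => ?_) (fun C hC => ?_)
    · obtain ⟨x, hx, rfl, hax⟩ := hmem C hC
      rw [comp_image hS ha hx] at e
      exact (comp_moves hS ha hx hax).1 e
    · obtain ⟨x, hx, rfl, hax⟩ := hmem C hC
      show (fun y => a * y * a) '' comp S x ∈ _
      rw [comp_image hS ha hx]
      exact Finset.mem_erase.2 ⟨(comp_moves hS ha hx hax).2, (hJ _).2 ⟨_, hS.conj a ha x hx, rfl⟩⟩
    · show (fun y => a * y * a) '' ((fun y => a * y * a) '' C) = C
      rw [Set.image_image]
      simp [hS.conj_conj ha]
  rw [Finset.card_erase_of_mem haJ] at hodd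
  have hpos : 0 < J.card := Finset.card_pos.2 ⟨_, haJ⟩
  refine ⟨?_, fun h5 => ?_⟩
  · obtain ⟨k, hk⟩ := (ZMod.natCast_eq_zero_iff_even (n := J.card - 1)).1 hodd
    exact ⟨k, by omega⟩
  obtain ⟨C1, hC1, hC1a⟩ := Finset.exists_mem_ne (by omega : 1 < J.card) (comp S a)
  obtain ⟨b, hb, rfl⟩ := (hJ _).1 hC1
  have hab : comp S a ≠ comp S b := Ne.symm hC1a
  set c := a * b * a with hc
  have hcS : c ∈ S := hS.conj a ha b hb
  obtain ⟨hcb, hca⟩ : comp S c ≠ comp S b ∧ comp S c ≠ comp S a := comp_moves hS ha hb hab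
  obtain ⟨C3, hC3, hC3n⟩ : ∃ C ∈ J, C ∉ ({comp S a, comp S b, comp S c} : Finset (Set G)) := by
    by_contra q
    push Not at q
    have := Finset.card_le_card (show J ⊆ {comp S a, comp S b, comp S c} from q)
    have := Finset.card_le_three (a := comp S a) (b := comp S b) (c := comp S c)
    omega
  obtain ⟨d, hd, rfl⟩ := (hJ _).1 hC3
  simp only [Finset.mem_insert, Finset.mem_singleton, not_or] at hC3n
  obtain ⟨hda, hdb, hdc⟩ := hC3n
  have hfix : ∀ {x : G}, x ∈ S → x * x * x = x := fun hx => (hS.fix_iff hx _).2 (Commute.refl _)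
  have hbab : b * a * b = c := (hS.braid ha hb (comp_far hS ha hb hab)).symm
  have new1 : comp S (a * d * a) ∉ ({comp S a, comp S b, comp S c, comp S d} : Finset (Set G)) := by
    simp only [Finset.mem_insert, Finset.mem_singleton, not_or]
    refine ⟨(comp_moves hS ha hd (Ne.symm hda)).2, fun e => ?_, fun e => ?_, (comp_moves hS ha hd (Ne.symm hda)).1⟩
    · exact hdc ((comp_conj_iff hS ha hd hb).1 e)
    · rw [comp_conj_iff hS ha hd hcS, hc, hS.conj_conj ha] at e
      exact hdb e
  have new2 : comp S (b * d * b) ∉ ({comp S a, comp S b, comp S c, comp S d} : Finset (Set G)) := by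
    simp only [Finset.mem_insert, Finset.mem_singleton, not_or]
    refine ⟨fun e => ?_, (comp_moves hS hb hd (Ne.symm hdb)).2, fun e => ?_, (comp_moves hS hb hd (Ne.symm hdb)).1⟩
    · rw [comp_conj_iff hS hb hd ha, hbab] at e
      exact hdc e
    · rw [comp_conj_iff hS hb hd hcS, ← hbab, hS.conj_conj hb] at e
      exact hda e
  have heq : comp S (a * d * a) = comp S (b * d * b) := by
    by_contra hne
    set T : Finset (Set G) := {comp S a, comp S b, comp S c, comp S d}
    have hT : T.card = 4 := by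
      rw [Finset.card_insert_of_notMem (by simp [hab, Ne.symm hca, Ne.symm hda]),
        Finset.card_insert_of_notMem (by simp [Ne.symm hcb, Ne.symm hdb]),
        Finset.card_insert_of_notMem (by simp [Ne.symm hdc]), Finset.card_singleton]
    have hsub : insert (comp S (a * d * a)) (insert (comp S (b * d * b)) T) ⊆ J := by
      intro C hC
      simp only [T, Finset.mem_insert, Finset.mem_singleton] at hC
      rcases hC with rfl | rfl | rfl | rfl | rfl | rfl
      exacts [(hJ _).2 ⟨_, hS.conj a ha d hd, rfl⟩, (hJ _).2 ⟨_, hS.conj b hb d hd, rfl⟩, haJ,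
        (hJ _).2 ⟨b, hb, rfl⟩, (hJ _).2 ⟨c, hcS, rfl⟩, (hJ _).2 ⟨d, hd, rfl⟩]
    have := Finset.card_le_card hsub
    rw [Finset.card_insert_of_notMem (by rw [Finset.mem_insert, not_or]; exact ⟨hne, new1⟩),
      Finset.card_insert_of_notMem new2, hT] at this
    omega
  rw [hS.braid ha hd (comp_far hS ha hd (Ne.symm hda)), hS.braid hb hd (comp_far hS hb hd (Ne.symm hdb)),
    comp_conj_iff hS hd ha (hS.conj d hd b hb), hS.conj_conj hd] at heq
  exact hab heq

end CfsgLib.Fischer
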