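import Cfsg.Agent.Fischer.Local

/-!
Fischer's theorem: coordinates of closed sets by the points of classical spaces.
-/

set_option autoImplicit false
set_option linter.unusedSectionVars false

namespace CfsgLib.Fischer

open CfsgLib.ThreeT CfsgLib.ThreeT.Prod

universe u v

variable {G : Type u} [Group G]

section two

variable {V : Type*} [AddCommGroup V] [Module (ZMod 2) V]

/-- The transvection of a vector. -/
def tvec (B : LinearMap.BilinForm (ZMod 2) V) (a x : V) : V := x + B a x • a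

/-- Points with transvections over two elements. -/
structure TwoCo (S : Set G) (B : LinearMap.BilinForm (ZMod 2) V) (R : Set V) (φ : G → V) : Prop where
  bij : Set.BijOn φ S R
  symm : ∀ u v, B u v = B v u
  self : ∀ p ∈ R, B p p = 0
  nz : (0 : V) ∉ R
  conj : ∀ x ∈ S, ∀ y ∈ S, φ (x * y * x) = tvec B (φ x) (φ y)

theorem two_cases : ∀ c : ZMod 2, c = 0 ∨ c = 1 := by decide

theorem two_ne_iff : ∀ c : ZMod 2, c ≠ 0 ↔ c = 1 := by decide

theorem vadd_self (v : V) : v + v = 0 := by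
  rw [← two_smul (ZMod 2) v, show (2 : ZMod 2) = 0 from rfl, zero_smul]

namespace TwoCo

variable {S : Set G} {B : LinearMap.BilinForm (ZMod 2) V} {R : Set V} {φ : G → V} (f : TwoCo S B R φ) (hS : Closed S)
include f

theorem ne_zero {x : G} (hx : x ∈ S) : φ x ≠ 0 := fun e => f.nz (e ▸ f.bij.mapsTo hx)

include hS

theorem commute_iff {x y : G} (hx : x ∈ S) (hy : y ∈ S) : Commute x y ↔ B (φ x) (φ y) = 0 := by
  rw [← hS.fix_iff hx y, ← f.bij.injOn.eq_iff (hS.conj x hx y hy) hy, f.conj x hx y hy, tvec, add_eq_left]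
  rcases two_cases (B (φ x) (φ y)) with e | e <;> simp [e, f.ne_zero hx]

theorem form_eq_one {x y : G} (hx : x ∈ S) (hy : y ∈ S) : ¬ Commute x y ↔ B (φ x) (φ y) = 1 := by
  rw [f.commute_iff hS hx hy]; exact two_ne_iff _

theorem conj_add {x y : G} (hx : x ∈ S) (hy : y ∈ S) (h : ¬ Commute x y) : φ (x * y * x) = φ y + φ x := by
  rw [f.conj x hx y hy, tvec, (f.form_eq_one hS hx hy).1 h, one_smul]

end TwoCo

theorem TwoCo.comp {H : Type v} [Group H] {S : Set G} {S' : Set H} {ψ : G → H} (f : SIso S S' ψ) {B : LinearMap.BilinForm (ZMod 2) V}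
    {R : Set V} {φ : H → V} (h : TwoCo S' B R φ) : TwoCo S B R (φ ∘ ψ) :=
  ⟨h.bij.comp f.bij, h.symm, h.self, h.nz, fun x hx y hy => by
    show φ (ψ (x * y * x)) = _
    rw [f.conj x hx y hy, h.conj _ (f.bij.mapsTo hx) _ (f.bij.mapsTo hy)]; rfl⟩

/-- The dot product. -/
def dot (m : ℕ) : LinearMap.BilinForm (ZMod 2) (Fin m → ZMod 2) :=
  LinearMap.mk₂ (ZMod 2) (fun u v => ∑ i, u i * v i)
    (fun u u' v => by simp [add_mul, Finset.sum_add_distrib])
    (fun c u v => by simp [Finset.mul_sum, mul_assoc])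
    (fun u v v' => by simp [mul_add, Finset.sum_add_distrib])
    (fun c u v => by simp [Finset.mul_sum, mul_left_comm])

/-- The vectors of weight two. -/
def edges (m : ℕ) : Set (Fin m → ZMod 2) := {v | ∃ i j, i ≠ j ∧ v = Pi.single i 1 + Pi.single j 1}

/-- The alternating form of a symplectic space over two elements. -/
def sform (m : ℕ) : LinearMap.BilinForm (ZMod 2) (Fin m ⊕ Fin m → ZMod 2) :=
  LinearMap.mk₂ (ZMod 2) (fun u v => CfsgLib.Symp.form u v)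
    (fun u u' v => CfsgLib.Symp.form_add_left u u' v)
    (fun c u v => by rw [CfsgLib.Symp.form_smul_left]; rfl)
    (fun u v v' => CfsgLib.Symp.form_add_right u v v')
    (fun c u v => by rw [CfsgLib.Symp.form_smul_right]; rfl)

end two

/-- Coordinates of a symmetric group. -/
def SymCo (S : Set G) (m : ℕ) : Prop := ∃ φ : G → Fin m → ZMod 2, TwoCo S (dot m) (edges m) φ

/-- Coordinates of a symplectic group over two elements. -/
def SympCo (S : Set G) (m : ℕ) : Prop :=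
  ∃ φ : G → Fin m ⊕ Fin m → ZMod 2, TwoCo S (sform m) {v | v ≠ 0} φ

/-- A quadratic form with the given polar form, over two elements. -/
def IsQ (m : ℕ) (q : (Fin m ⊕ Fin m → ZMod 2) → ZMod 2) : Prop :=
  ∀ u v, q (u + v) = q u + q v + sform m u v

/-- Coordinates of an orthogonal group over two elements. -/
def QuadCo (S : Set G) (m : ℕ) : Prop :=
  ∃ q, IsQ m q ∧ ∃ φ : G → Fin m ⊕ Fin m → ZMod 2, TwoCo S (sform m) {v | q v = 1} φ

section uni

variable {K : Type} [Field K] {n : ℕ}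

/-- The isotropic points of a hermitian space over four elements. -/
structure UC (S : Set G) (φ : G → Fin n → K) : Prop where
  nz : ∀ x ∈ S, φ x ≠ 0
  iso : ∀ x ∈ S, Cfsg.hermForm n K 2 (φ x) (φ x) = 0
  inj : ∀ x ∈ S, ∀ y ∈ S, ∀ k : K, φ x = k • φ y → x = y
  surj : ∀ v : Fin n → K, v ≠ 0 → Cfsg.hermForm n K 2 v v = 0 → ∃ x ∈ S, ∃ k : K, φ x = k • v
  conj : ∀ x ∈ S, ∀ y ∈ S, ∃ k : K, φ (x * y * x) = k • CfsgLib.ThreeT.Tv.tau (φ x) (φ y)

theorem UC.comp {H : Type v} [Group H] {S : Set G} {S' : Set H} {ψ : G → H} (f : SIso S S' ψ) {φ : H → Fin n → K}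
    (h : UC S' φ) : UC S (φ ∘ ψ) where
  nz x hx := h.nz _ (f.bij.mapsTo hx)
  iso x hx := h.iso _ (f.bij.mapsTo hx)
  inj x hx y hy k e := f.bij.injOn hx hy (h.inj _ (f.bij.mapsTo hx) _ (f.bij.mapsTo hy) k e)
  surj v hv hv' := by
    obtain ⟨z, hz, k, e⟩ := h.surj v hv hv'
    obtain ⟨x, hx, rfl⟩ := f.bij.surjOn hz
    exact ⟨x, hx, k, e⟩
  conj x hx y hy := by
    simp only [Function.comp]
    rw [f.conj x hx y hy]
    exact h.conj _ (f.bij.mapsTo hx) _ (f.bij.mapsTo hy)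

end uni

/-- Coordinates of a unitary group over four elements. -/
def UCo (S : Set G) (n : ℕ) : Prop :=
  ∃ (K : Type) (_ : Field K) (_ : Fintype K), Fintype.card K = 4 ∧ ∃ φ : G → Fin n → K, UC S φ

section refl

variable {n : ℕ}

/-- The reflection in a vector of norm one. -/
def rvec (Q : QuadraticForm (ZMod 3) (Fin n → ZMod 3)) (v x : Fin n → ZMod 3) : Fin n → ZMod 3 :=
  x - QuadraticMap.polarBilin Q v x • v

/-- The points of norm one of an orthogonal space over three elements. -/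
structure RC (S : Set G) (Q : QuadraticForm (ZMod 3) (Fin n → ZMod 3)) (φ : G → Fin n → ZMod 3) : Prop where
  norm : ∀ x ∈ S, Q (φ x) = 1
  inj : ∀ x ∈ S, ∀ y ∈ S, φ x = φ y ∨ φ x = -φ y → x = y
  surj : ∀ v, Q v = 1 → ∃ x ∈ S, φ x = v ∨ φ x = -v
  conj : ∀ x ∈ S, ∀ y ∈ S, φ (x * y * x) = rvec Q (φ x) (φ y) ∨ φ (x * y * x) = -rvec Q (φ x) (φ y)

theorem RC.comp {H : Type v} [Group H] {S : Set G} {S' : Set H} {ψ : G → H} (f : SIso S S' ψ)
    {Q : QuadraticForm (ZMod 3) (Fin n → ZMod 3)} {φ : H → Fin n → ZMod 3}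
    (h : RC S' Q φ) : RC S Q (φ ∘ ψ) where
  norm x hx := h.norm _ (f.bij.mapsTo hx)
  inj x hx y hy e := f.bij.injOn hx hy (h.inj _ (f.bij.mapsTo hx) _ (f.bij.mapsTo hy) e)
  surj v hv := by
    obtain ⟨z, hz, e⟩ := h.surj v hv
    obtain ⟨x, hx, rfl⟩ := f.bij.surjOn hz
    exact ⟨x, hx, e⟩
  conj x hx y hy := by
    simp only [Function.comp]
    rw [f.conj x hx y hy]
    exact h.conj _ (f.bij.mapsTo hx) _ (f.bij.mapsTo hy)

end refl

/-- Coordinates of a reflection group with the given discriminant. -/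
def RCo (S : Set G) (n : ℕ) (μ : ZMod 3) : Prop :=
  ∃ Q : QuadraticForm (ZMod 3) (Fin n → ZMod 3), (QuadraticMap.polarBilin Q).Nondegenerate ∧
    Cfsg.polarGramDet (⇑Q) = μ ∧ ∃ φ, RC S Q φ

/-- Local conditions of type M(22). -/
def T22 (S : Set G) : Prop :=
  (∀ a ∈ S, UCo (nb S a) 6) ∧ ∀ a ∈ S, ∀ c ∈ S, ¬ Commute a c → RCo (tri S a c) 6 1

/-- Local conditions of type M(23). -/
def T23 (S : Set G) : Prop :=
  (∀ a ∈ S, T22 (nb S a)) ∧ ∀ a ∈ S, ∀ c ∈ S, ¬ Commute a c → RCo (tri S a c) 7 (-1)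

/-- Three commutation components, each an orthogonal space of dimension eight. -/
def ThreeR8 (S : Set G) : Prop :=
  ∃ C : Fin 3 → Set G, S = C 0 ∪ C 1 ∪ C 2 ∧ (∀ i, RCo (C i) 8 1) ∧
    (∀ i, ∀ x ∈ C i, ∀ y ∈ C i, x * y * x ∈ S → x * y * x ∈ C i) ∧
    ∀ i j, i ≠ j → ∀ x ∈ C i, ∀ y ∈ C j, ¬ Commute x y

/-- Local conditions of type M(24). -/
def T24 (S : Set G) : Prop :=
  (∀ a ∈ S, T23 (nb S a)) ∧ ∀ a ∈ S, ∀ c ∈ S, ¬ Commute a c → ThreeR8 (tri S a c)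

section transfer

variable {H : Type v} [Group H] {S : Set G} {S' : Set H} {ψ : G → H} (f : SIso S S' ψ)
include f

theorem SymCo.comp {m : ℕ} (h : SymCo S' m) : SymCo S m := let ⟨_, hφ⟩ := h; ⟨_, TwoCo.comp f hφ⟩

theorem SympCo.comp {m : ℕ} (h : SympCo S' m) : SympCo S m := let ⟨_, hφ⟩ := h; ⟨_, TwoCo.comp f hφ⟩

theorem QuadCo.comp {m : ℕ} (h : QuadCo S' m) : QuadCo S m :=
  let ⟨q, hq, _, hφ⟩ := h; ⟨q, hq, _, TwoCo.comp f hφ⟩

theorem UCo.comp {n : ℕ} (h : UCo S' n) : UCo S n :=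
  let ⟨K, i1, i2, hK, _, hφ⟩ := h; ⟨K, i1, i2, hK, _, UC.comp f hφ⟩

theorem RCo.comp {n : ℕ} {μ : ZMod 3} (h : RCo S' n μ) : RCo S n μ :=
  let ⟨Q, hQ, hd, _, hφ⟩ := h; ⟨Q, hQ, hd, _, RC.comp f hφ⟩

theorem T22.comp (h : T22 S') : T22 S :=
  ⟨fun a ha => UCo.comp (f.nb ha) (h.1 _ (f.bij.mapsTo ha)), fun a ha c hc hac =>
    RCo.comp (f.tri ha hc) (h.2 _ (f.bij.mapsTo ha) _ (f.bij.mapsTo hc) fun q => hac ((f.com a ha c hc).1 q))⟩

theorem T23.comp (h : T23 S') : T23 S :=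
  ⟨fun a ha => T22.comp (f.nb ha) (h.1 _ (f.bij.mapsTo ha)), fun a ha c hc hac =>
    RCo.comp (f.tri ha hc) (h.2 _ (f.bij.mapsTo ha) _ (f.bij.mapsTo hc) fun q => hac ((f.com a ha c hc).1 q))⟩

theorem ThreeR8.comp (h : ThreeR8 S') : ThreeR8 S := by
  obtain ⟨C, hu, hC, hcl, hfar⟩ := h
  have hsub : ∀ i, C i ⊆ S' := fun i x hx => by
    rw [hu]; fin_cases i
    exacts [Or.inl (Or.inl hx), Or.inl (Or.inr hx), Or.inr hx]
  refine ⟨fun i => {x | x ∈ S ∧ ψ x ∈ C i}, ?_, fun i => RCo.comp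
    ⟨⟨fun x hx => hx.2, f.bij.injOn.mono fun x hx => hx.1, fun z hz => ?_⟩,
      fun x hx y hy => f.com x hx.1 y hy.1, fun x hx y hy => f.conj x hx.1 y hy.1⟩ (hC i),
    fun i x hx y hy q => ⟨q, f.conj x hx.1 y hy.1 ▸ hcl i _ hx.2 _ hy.2 (f.conj x hx.1 y hy.1 ▸ f.bij.mapsTo q)⟩,
    fun i j hij x hx y hy q => hfar i j hij _ hx.2 _ hy.2 ((f.com x hx.1 y hy.1).2 q)⟩
  · ext x
    constructor
    · intro hx
      rcases (hu ▸ f.bij.mapsTo hx : ψ x ∈ C 0 ∪ C 1 ∪ C 2) with (e | e) | e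
      exacts [Or.inl (Or.inl ⟨hx, e⟩), Or.inl (Or.inr ⟨hx, e⟩), Or.inr ⟨hx, e⟩]
    · rintro ((e | e) | e) <;> exact e.1
  · obtain ⟨x, hx, rfl⟩ := f.bij.surjOn (hsub i hz)
    exact ⟨x, ⟨hx, hz⟩, rfl⟩

theorem T24.comp (h : T24 S') : T24 S :=
  ⟨fun a ha => T23.comp (f.nb ha) (h.1 _ (f.bij.mapsTo ha)), fun a ha c hc hac =>
    ThreeR8.comp (f.tri ha hc) (h.2 _ (f.bij.mapsTo ha) _ (f.bij.mapsTo hc) fun q => hac ((f.com a ha c hc).1 q))⟩

end transfer

/-- The types of groups satisfying the hypothesis, small coincidences removed. -/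
inductive Known (S : Set G) : Prop
  | sym (m : ℕ) (hm : m = 5 ∨ 7 ≤ m) (h : SymCo S m)
  | symp (m : ℕ) (hm : 2 ≤ m) (h : SympCo S m)
  | quad (m : ℕ) (hm : 4 ≤ m) (h : QuadCo S m)
  | uni (n : ℕ) (hn : 5 ≤ n) (h : UCo S n)
  | refl (n : ℕ) (hn : 5 ≤ n) (μ : ZMod 3) (h : RCo S n μ)
  | t22 (h : T22 S)
  | t23 (h : T23 S)
  | t24 (h : T24 S)

theorem Known.comp {H : Type v} [Group H] {S : Set G} {S' : Set H} {ψ : G → H} (f : SIso S S' ψ) (h : Known S') :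
    Known S := by
  cases h with
  | sym m hm h => exact .sym m hm (h.comp f)
  | symp m hm h => exact .symp m hm (h.comp f)
  | quad m hm h => exact .quad m hm (h.comp f)
  | uni n hn h => exact .uni n hn (h.comp f)
  | refl n hn μ h => exact .refl n hn μ (h.comp f)
  | t22 h => exact .t22 (h.comp f)
  | t23 h => exact .t23 (h.comp f)
  | t24 h => exact .t24 (h.comp f)

end CfsgLib.Fischer
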