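import Cfsg.Agent.Fischer.RcoGood
import Cfsg.Agent.Quad.POmega
import Cfsg.Agent.Spor3T.ReflQuot
import Cfsg.Agent.QuadStd.DiscStd

/-!
Fischer's theorem: the derived subgroup of the group of one reflection class.
-/

set_option autoImplicit false
set_option linter.unusedSectionVars false
set_option linter.style.haveILetI false

open scoped commutatorElement

namespace CfsgLib.Fischer

open CfsgLib.ThreeT CfsgLib.ThreeT.Prod

universe u v

section quot

variable {R : Type v} [Group R]

theorem commutator_map_mk : (commutator R).map (QuotientGroup.mk' (Subgroup.center R)) = commutator (R ⧸ Subgroup.center R) := by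
  rw [commutator_def, commutator_def, Subgroup.map_commutator,
    Subgroup.map_top_of_surjective _ (QuotientGroup.mk'_surjective _)]

/-- Derived subgroup modulo centre. -/
theorem commutator_quot (hnosol : ∀ N : Subgroup (R ⧸ Subgroup.center R), N.Normal → Group.IsSolvable N → N = ⊥) :
    Nonempty (↥(commutator (R ⧸ Subgroup.center R)) ≃* ↥(commutator R) ⧸ Subgroup.center ↥(commutator R)) := by
  set π := QuotientGroup.mk' (Subgroup.center R)
  have hf : ∀ r : ↥(commutator R), π r ∈ commutator (R ⧸ Subgroup.center R) := fun r =>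
    commutator_map_mk.le (Subgroup.mem_map_of_mem π r.2)
  let f : ↥(commutator R) →* ↥(commutator (R ⧸ Subgroup.center R)) := (π.comp (commutator R).subtype).codRestrict _ hf
  have hsurj : Function.Surjective f := by
    rintro ⟨x, hx⟩
    obtain ⟨r, hr, rfl⟩ := commutator_map_mk.ge hx
    exact ⟨⟨r, hr⟩, rfl⟩
  have hker : f.ker = Subgroup.center ↥(commutator R) := by
    refine le_antisymm (fun r hr => ?_) fun r hr => ?_
    · have hr' : (r : R) ∈ Subgroup.center R :=
        (QuotientGroup.eq_one_iff (r : R)).1 (congrArg Subtype.val (MonoidHom.mem_ker.1 hr))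
      exact Subgroup.mem_center_iff.2 fun g => Subtype.ext (Subgroup.mem_center_iff.1 hr' g)
    · set Z := ((Subgroup.center ↥(commutator R)).map (commutator R).subtype).map π
      have hZn : ((Subgroup.center ↥(commutator R)).map (commutator R).subtype).Normal := inferInstance
      haveI : Z.Normal := hZn.map π (QuotientGroup.mk'_surjective _)
      have hZs : Group.IsSolvable Z := by
        refine Group.isSolvable_of_comm fun a b => Subtype.ext ?_
        obtain ⟨_, ⟨p, hp, rfl⟩, ea⟩ := a.2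
        obtain ⟨_, ⟨q, -, rfl⟩, eb⟩ := b.2
        show (a : R ⧸ Subgroup.center R) * b = b * a
        rw [← ea, ← eb, ← map_mul, ← map_mul]
        exact congrArg π (congrArg Subtype.val (Subgroup.mem_center_iff.1 hp q)).symm
      have := hnosol Z inferInstance hZs
      refine MonoidHom.mem_ker.2 (Subtype.ext ?_)
      exact Subgroup.mem_bot.1 (this ▸ Subgroup.mem_map_of_mem π (Subgroup.mem_map_of_mem _ hr))
  exact ⟨((QuotientGroup.quotientMulEquivOfEq hker.symm).trans (QuotientGroup.quotientKerEquivOfSurjective f hsurj)).symm⟩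

end quot

open CfsgLib.Quad in
/-- The derived subgroup of a projective reflection group. -/
theorem refl_omega {n : ℕ} {Q : QuadraticForm (ZMod 3) (Fin n → ZMod 3)} (hQ : (QuadraticMap.polarBilin Q).Nondegenerate)
    (hn : 5 ≤ n) : Nonempty (↥(commutator (↥(Cfsg.reflectionSubgroup (⇑Q) 1) ⧸
      Subgroup.center ↥(Cfsg.reflectionSubgroup (⇑Q) 1))) ≃* Cfsg.POmega (ZMod 3) ⇑Q) := by
  obtain ⟨e1⟩ := commutator_quot (CfsgLib.ThreeT.almostSimple_refl hQ hn (c := 1) (by decide)).nosol
  let e2 : ↥(commutator ↥(Cfsg.reflectionSubgroup (⇑Q) 1)) ≃* ↥(Cfsg.Omega (ZMod 3) ⇑Q) :=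
    (Subgroup.equivMapOfInjective _ _ (Cfsg.reflectionSubgroup (⇑Q) 1).subtype_injective).trans
      (MulEquiv.subgroupCongr (CfsgLib.ReflThree.commutator_map hQ hn (by decide)))
  exact ⟨e1.trans (QuotientGroup.congr _ _ e2 (map_center_equiv e2))⟩

open CfsgLib.Quad in
/-- Eight dimensions, discriminant one: the plus type. -/
theorem pomega_eight {Q : QuadraticForm (ZMod 3) (Fin 8 → ZMod 3)} (hQ : (QuadraticMap.polarBilin Q).Nondegenerate)
    (hd : Cfsg.polarGramDet (⇑Q) = 1) :
    Nonempty (Cfsg.POmega (ZMod 3) ⇑Q ≃* Cfsg.POmega (ZMod 3) (Cfsg.quadFormPlus 4 (ZMod 3))) := by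
  let p : Fin 8 ≃ Fin 4 ⊕ Fin 4 := (finSumFinEquiv (m := 4) (n := 4)).symm
  set b2 := (Pi.basisFun (ZMod 3) (Fin 4 ⊕ Fin 4)).reindex p.symm
  have hgram : (CfsgLib.QuadStd.gram Q (Pi.basisFun (ZMod 3) (Fin 8))).det = 1 := by
    rw [← hd, Cfsg.polarGramDet]
    congr 1
    ext i j
    simp [CfsgLib.QuadStd.gram]
  have hgram2 : (CfsgLib.QuadStd.gram (plusQ (F := ZMod 3) 4) b2).det = 1 := by
    have e : CfsgLib.QuadStd.gram (plusQ (F := ZMod 3) 4) b2 =
        (CfsgLib.QuadStd.gram (plusQ (F := ZMod 3) 4) (Pi.basisFun (ZMod 3) (Fin 4 ⊕ Fin 4))).submatrix p p := by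
      ext i j
      simp [CfsgLib.QuadStd.gram, b2]
    rw [e, Matrix.det_submatrix_equiv_self, CfsgLib.QuadStd.gram_plus, CfsgLib.QuadStd.det_swap_blocks]
    decide
  obtain ⟨g, hg⟩ := CfsgLib.QuadStd.isometric_of_disc (Q₁ := Q) (Q₂ := plusQ 4) (by decide) hQ (plusQ_nondeg 4)
    (Pi.basisFun (ZMod 3) (Fin 8)) b2 (by rw [hgram, hgram2]; exact IsSquare.one.mul IsSquare.one)
  rw [← plusQ_coe 4]
  have ho : ↥(commutator (oGroup Q)) ≃* ↥(commutator (oGroup (plusQ (F := ZMod 3) 4))) :=
    ((oGroupCongr g hg).subgroupMap _).trans (MulEquiv.subgroupCongr (commutator_map_equiv _))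
  exact ⟨(pOmegaEquiv Q).trans ((QuotientGroup.congr _ _ ho (map_center_equiv ho)).trans (pOmegaEquiv _).symm)⟩

/-- Elements commuting with the derived subgroup are trivial. -/
theorem Fi.centralizer_derived {G : Type u} [Group G] [Finite G] {D : Set G} (h : Fi D) {u : G}
    (hu : ∀ g ∈ commutator G, Commute u g) : u = 1 := by
  set C := Subgroup.centralizer (commutator G : Set G)
  have hbot : C ⊓ commutator G = ⊥ := by
    refine h.sol _ inferInstance (Group.isSolvable_of_comm fun a b => Subtype.ext ?_)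
    exact (Subgroup.mem_centralizer_iff.1 a.2.1 b b.2.2).symm
  have hmem : u ∈ C := Subgroup.mem_centralizer_iff.2 fun g hg => (hu g hg).eq.symm
  refine Subgroup.mem_bot.1 (h.center ▸ Subgroup.mem_center_iff.2 fun g => ?_)
  have h1 : ⁅u, g⁆ ∈ C ⊓ commutator G :=
    ⟨Subgroup.commutator_le_left C ⊤ (Subgroup.commutator_mem_commutator hmem (Subgroup.mem_top g)),
      Subgroup.commutator_mem_commutator (Subgroup.mem_top u) (Subgroup.mem_top g)⟩
  rw [hbot, Subgroup.mem_bot, commutatorElement_eq_one_iff_mul_comm] at h1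
  exact h1.symm

variable {G : Type u} [Group G] [Finite G] {S : Set G}

/-- Members differ by derived elements. -/
theorem exists_derived (hcl : OneClass S) {a x : G} (ha : a ∈ S) (hx : x ∈ S) :
    ∃ k ∈ ⁅Subgroup.closure S, Subgroup.closure S⁆, x = k * a := by
  obtain ⟨g, hg, rfl⟩ := hcl a ha x hx
  exact ⟨⁅g, a⁆, Subgroup.commutator_mem_commutator hg (Subgroup.subset_closure ha), by rw [commutatorElement_def]; group⟩

/-- The derived subgroup is perfect. -/
theorem derived_perfect (hS : Closed S) (hcl : OneClass S) (hfi : Fi (qimg S)) {a : G} (ha : a ∈ S) :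
    ⁅⁅Subgroup.closure S, Subgroup.closure S⁆, ⁅Subgroup.closure S, Subgroup.closure S⁆⁆ =
      ⁅Subgroup.closure S, Subgroup.closure S⁆ := by
  set K := Subgroup.closure S
  set P := ⁅commutator ↥K, commutator ↥K⁆
  have hP : commutator ↥K ≤ P := by
    set π := QuotientGroup.mk' (Subgroup.center ↥K)
    have hmapP : P.map π = commutator (QG S) := by
      rw [Subgroup.map_commutator, commutator_map_mk]
      exact hfi.perf
    let a' : ↥K := ⟨a, Subgroup.subset_closure ha⟩
    have hgen : ∀ x : ↥K, (x : G) ∈ S →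
        ∃ z ∈ Subgroup.center ↥K, QuotientGroup.mk' P x = QuotientGroup.mk' P (z * a') := by
      intro x hx
      obtain ⟨g, hg, e⟩ := hcl a ha x hx
      have hk : ⁅(⟨g, hg⟩ : ↥K), a'⁆ ∈ commutator ↥K :=
        Subgroup.commutator_mem_commutator (Subgroup.mem_top _) (Subgroup.mem_top _)
      obtain ⟨p, hp, ep⟩ := hmapP.ge (commutator_map_mk.le (Subgroup.mem_map_of_mem π hk))
      have hz := (QuotientGroup.eq.1 ep : p⁻¹ * ⁅(⟨g, hg⟩ : ↥K), a'⁆ ∈ Subgroup.center ↥K)
      refine ⟨_, hz, ?_⟩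
      have ex : x = ⁅(⟨g, hg⟩ : ↥K), a'⁆ * a' := Subtype.ext (by
        show (x : G) = ⁅g, a⁆ * a
        rw [← e, commutatorElement_def]; group)
      rw [mul_assoc, map_mul _ p⁻¹, show QuotientGroup.mk' P p⁻¹ = 1 from
        (QuotientGroup.eq_one_iff _).2 (P.inv_mem hp), one_mul, ← ex]
    have hcomm : ∀ x y : ↥K, (x : G) ∈ S → (y : G) ∈ S →
        Commute (QuotientGroup.mk' P x) (QuotientGroup.mk' P y) := by
      intro x y hx hy
      obtain ⟨z, hz, ex⟩ := hgen x hx
      obtain ⟨w, hw, ey⟩ := hgen y hy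
      rw [ex, ey]
      refine Commute.map ?_ _
      have hzc : ∀ k, Commute z k := fun k => (Subgroup.mem_center_iff.1 hz k).symm
      have hwc : ∀ k, Commute w k := fun k => (Subgroup.mem_center_iff.1 hw k).symm
      exact ((hzc w).mul_right (hzc a')).mul_left (((hwc a').symm).mul_right (Commute.refl a'))
    have htop : Subgroup.closure ((QuotientGroup.mk' P) '' {x : ↥K | (x : G) ∈ S}) = ⊤ := by
      rw [← MonoidHom.map_closure, show Subgroup.closure {x : ↥K | (x : G) ∈ S} = ⊤ from
        Subgroup.closure_closure_coe_preimage, Subgroup.map_top_of_surjective _ (QuotientGroup.mk'_surjective _)]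
    rw [commutator_def, Subgroup.commutator_le]
    intro p _ q _
    rw [← QuotientGroup.eq_one_iff, show ((⁅p, q⁆ : ↥K) : ↥K ⧸ P) = QuotientGroup.mk' P ⁅p, q⁆ from rfl,
      map_commutatorElement, commutatorElement_eq_one_iff_mul_comm]
    refine (Prod.commute_of_closure (S := (QuotientGroup.mk' P) '' {x : ↥K | (x : G) ∈ S}) ?_ _
      (htop ▸ Subgroup.mem_top _)).eq
    rintro _ ⟨y, hy, rfl⟩
    refine (Prod.commute_of_closure (S := (QuotientGroup.mk' P) '' {x : ↥K | (x : G) ∈ S}) ?_ _
      (htop ▸ Subgroup.mem_top _)).symm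
    rintro _ ⟨x, hx, rfl⟩
    exact hcomm x y hx hy
  have h1 : ⁅commutator ↥K, commutator ↥K⁆ = commutator ↥K :=
    le_antisymm (Subgroup.commutator_le_left _ _) hP
  have := congrArg (Subgroup.map K.subtype) h1
  rwa [Subgroup.map_commutator, Subgroup.map_subtype_commutator] at this

/-- What commutes with the derived subgroup fixes every member. -/
theorem commute_of_derived (hS : Closed S) (htw : NoTwins S) (hfi : Fi (qimg S)) {m : G}
    (hm : ∀ n ∈ ⁅Subgroup.closure S, Subgroup.closure S⁆, Commute m n)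
    (hmS : ∀ b ∈ S, m * b * m⁻¹ ∈ S) {b : G} (hb : b ∈ S) : Commute m b := by
  set K := Subgroup.closure S
  set π := QuotientGroup.mk' (Subgroup.center ↥K)
  set b' := m * b * m⁻¹ with hb'
  have hbK : b ∈ K := Subgroup.subset_closure hb
  let u : ↥K := (⟨b, hbK⟩ : ↥K)⁻¹ * ⟨b', Subgroup.subset_closure (hmS b hb)⟩
  have hu : ∀ n ∈ commutator ↥K, Commute u n := by
    intro n hn
    have hnG : (n : G) ∈ ⁅K, K⁆ := Subgroup.map_subtype_commutator K ▸ Subgroup.mem_map_of_mem K.subtype hn
    have hbn : b * n * b⁻¹ ∈ ⁅K, K⁆ := by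
      have h2 : (⟨b, hbK⟩ : ↥K) * n * (⟨b, hbK⟩ : ↥K)⁻¹ ∈ commutator ↥K :=
        Subgroup.Normal.conj_mem inferInstance n hn _
      exact Subgroup.map_subtype_commutator K ▸ Subgroup.mem_map_of_mem K.subtype h2
    have e : b' * n * b'⁻¹ = b * n * b⁻¹ := by
      have h1 : m⁻¹ * n * m = n := by
        rw [mul_assoc, ← (hm n hnG).eq, inv_mul_cancel_left]
      calc b' * n * b'⁻¹ = m * (b * (m⁻¹ * n * m) * b⁻¹) * m⁻¹ := by rw [hb']; group
        _ = b * n * b⁻¹ := by rw [h1, (hm _ hbn).eq, mul_inv_cancel_right]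
    refine Subtype.ext ?_
    show b⁻¹ * b' * n = n * (b⁻¹ * b')
    calc b⁻¹ * b' * n = b⁻¹ * (b' * n * b'⁻¹) * b' := by group
      _ = n * (b⁻¹ * b') := by rw [e]; group
  have h1 : π u = 1 := hfi.centralizer_derived fun g hg => by
    obtain ⟨n, hn, rfl⟩ := commutator_map_mk.ge hg
    exact (hu n hn).map π
  rw [map_mul, map_inv, inv_mul_eq_one] at h1
  have h2 : qmap S b = qmap S b' := by
    rw [qmap_eq hb, qmap_eq (hmS b hb)]
    exact h1
  exact mul_inv_eq_iff_eq_mul.1 (qmap_injOn hS htw hb (hmS b hb) h2).symm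

end CfsgLib.Fischer
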