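import Cfsg.Agent.Fischer.Theorem
import Cfsg.Agent.Quad.Parity
import Cfsg.Agent.Spor3T.M23FarOmega
import Cfsg.Agent.Spor3T.M22Width
import Cfsg.Agent.Spor3T.M23Level
import Cfsg.Agent.Spor3T.M24Layer

/-!
Fischer's theorem: which of the groups are simple.
-/

set_option autoImplicit false
set_option linter.unusedSectionVars false
set_option linter.style.haveILetI false

namespace CfsgLib.Fischer

open CfsgLib.ThreeT CfsgLib.ThreeT.Prod CfsgLib.ThreeT.Tv CfsgLib.Quad QuadraticMap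

universe u

/-- A copy of a perfect group is perfect. -/
theorem perfect_congr {G : Type u} [Group G] {M : Type*} [Group M] (e : G ≃* M) (h : commutator G = ⊤) :
    commutator M = ⊤ := by
  rw [← commutator_map_equiv e, h]
  exact Subgroup.map_top_of_surjective _ e.surjective

theorem sym_not_perfect {m : ℕ} (hm : 2 ≤ m) : commutator (Equiv.Perm (Fin m)) ≠ ⊤ := by
  intro h
  obtain ⟨i, j, hij⟩ : ∃ i j : Fin m, i ≠ j := ⟨⟨0, by omega⟩, ⟨1, by omega⟩, fun e => by simp [Fin.ext_iff] at e⟩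
  have h1 : Equiv.swap i j ∈ (Equiv.Perm.sign (α := Fin m)).ker :=
    Abelianization.commutator_subset_ker _ (h ▸ Subgroup.mem_top _)
  rw [MonoidHom.mem_ker, Equiv.Perm.sign_swap hij] at h1
  exact absurd h1 (by decide)

theorem quad_not_perfect {ι : Type} [Fintype ι] [DecidableEq ι] (Q : QuadraticForm (ZMod 2) (ι → ZMod 2))
    {Q₀ : (ι → ZMod 2) → ZMod 2} (hQ₀ : ⇑Q = Q₀) (hQ : (polarBilin Q).Nondegenerate)
    (hd : 5 ≤ Fintype.card ι) : commutator ↥(Cfsg.isometryGroup (ZMod 2) Q₀) ≠ ⊤ := by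
  subst hQ₀
  intro h
  have h1 := index_commutator_char_two hQ (by rw [Module.finrank_pi]; omega)
    (Or.inr (by rw [Module.finrank_pi]; omega))
  rw [← index_commutator_equiv (isoGroupEquiv Q), h, Subgroup.index_top] at h1
  omega

theorem refl_not_perfect {n : ℕ} {Q : QuadraticForm (ZMod 3) (Fin n → ZMod 3)} (hQ : (polarBilin Q).Nondegenerate)
    (hn : 5 ≤ n) (he : Even n) : commutator (↥(Cfsg.reflectionSubgroup (⇑Q) 1) ⧸
      Subgroup.center ↥(Cfsg.reflectionSubgroup (⇑Q) 1)) ≠ ⊤ := by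
  intro h
  set R := Cfsg.reflectionSubgroup (⇑Q) 1
  obtain ⟨r, hr, -⟩ := CfsgLib.ReflThree.rclass_two hQ hn (c := 1) (by decide)
  obtain ⟨k, hk, hkr⟩ := commutator_map_mk.ge (show (r : ↥R ⧸ Subgroup.center ↥R) ∈ commutator _ from h ▸ Subgroup.mem_top _)
  have hz : k⁻¹ * r ∈ Subgroup.center ↥R := QuotientGroup.eq.1 hkr
  let f : ↥R →* (ZMod 3)ˣ := ((detO Q).comp (isoGroupEquiv Q).toMonoidHom).comp R.subtype
  have hfk : f k = 1 := Abelianization.commutator_subset_ker f hk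
  have hfr : (f r : ZMod 3) = -1 := by
    obtain ⟨v, hv, e⟩ := (CfsgLib.ReflThree.mem_norm_iff 1 _).1 hr
    show (detO Q (isoGroupEquiv Q r.1) : ZMod 3) = -1
    rw [e, detO_refl (by rw [hv]; decide)]
  have hfz : ∀ z ∈ Subgroup.center ↥R, (f z : ZMod 3) = 1 := by
    intro z hz
    obtain ⟨a, ha, hv⟩ := CfsgLib.ReflThree.scalar_of_commute hQ (by rw [Module.finrank_fin_fun]; omega)
      (isoGroupEquiv Q (z : ↥(Cfsg.isometryGroup (ZMod 3) (⇑Q)))) fun t ht => by
        obtain ⟨s, hs, rfl⟩ := (CfsgLib.ReflThree.map_reflectionSubgroup 1).ge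
          (CfsgLib.ReflThree.commutator_le_closure hQ hn (by decide) ht)
        show isoGroupEquiv Q s * _ = _ * isoGroupEquiv Q s
        rw [← map_mul, ← map_mul]
        exact congrArg _ (congrArg Subtype.val (Subgroup.mem_center_iff.1 hz ⟨s, hs⟩))
    show (detO Q (isoGroupEquiv Q z.1) : ZMod 3) = 1
    rw [detO_val, show (isoGroupEquiv Q z.1).1.toLinearMap = a • LinearMap.id from LinearMap.ext fun v => hv v,
      LinearMap.det_smul, LinearMap.det_id, mul_one, Module.finrank_fin_fun]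
    obtain ⟨j, rfl⟩ := he
    rw [← two_mul, pow_mul, pow_two, ha, one_pow]
  have h1 := hfz _ hz
  rw [map_mul, map_inv, hfk, inv_one, one_mul, hfr] at h1
  exact absurd h1 (by decide)

/-- In odd dimension the projective commutator group does not depend on the form. -/
theorem pomega_odd {k : ℕ} {Q : QuadraticForm (ZMod 3) (Fin (2 * k + 1) → ZMod 3)}
    (hQ : (polarBilin Q).Nondegenerate) :
    Nonempty (Cfsg.POmega (ZMod 3) ⇑Q ≃* Cfsg.POmega (ZMod 3) (Cfsg.quadFormOdd k (ZMod 3))) := by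
  let r : (Unit ⊕ (Fin k ⊕ Fin k)) ≃ Fin (2 * k + 1) := Fintype.equivOfCardEq (by simp; omega)
  let c := (Pi.basisFun (ZMod 3) (Unit ⊕ (Fin k ⊕ Fin k))).reindex r
  let P := oddQ (F := ZMod 3) k
  have hP : (polarBilin P).Nondegenerate := oddQ_nondeg (by decide) k
  set b := Pi.basisFun (ZMod 3) (Fin (2 * k + 1))
  have hneg : CfsgLib.QuadStd.gram (-Q) b = -CfsgLib.QuadStd.gram Q b := by
    ext i j
    simp [CfsgLib.QuadStd.gram, QuadraticMap.polar]
    ring
  have hQ' : (polarBilin (-Q)).Nondegenerate := by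
    have e : ∀ u w, polarBilin (-Q) u w = -polarBilin Q u w := fun u w => by
      simp [polarBilin_apply_apply, QuadraticMap.polar]; ring
    exact ⟨fun u hu => hQ.1 u fun w => neg_eq_zero.1 ((e u w).symm.trans (hu w)),
      fun w hw => hQ.2 w fun u => neg_eq_zero.1 ((e u w).symm.trans (hw u))⟩
  have hiso : ∃ g : (Fin (2 * k + 1) → ZMod 3) ≃ₗ[ZMod 3] (Unit ⊕ (Fin k ⊕ Fin k) → ZMod 3),
      (∀ v, P (g v) = Q v) ∨ ∀ v, P (g v) = (-Q) v := by
    have h1 : (CfsgLib.QuadStd.gram Q b).det ≠ 0 := CfsgLib.QuadStd.det_gram_ne_zero hQ b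
    have h2 : (CfsgLib.QuadStd.gram P c).det ≠ 0 := CfsgLib.QuadStd.det_gram_ne_zero hP c
    by_cases hsq : IsSquare ((CfsgLib.QuadStd.gram Q b).det * (CfsgLib.QuadStd.gram P c).det)
    · obtain ⟨g, hg⟩ := CfsgLib.QuadStd.isometric_of_disc (by decide) hQ hP b c hsq
      exact ⟨g, Or.inl hg⟩
    · obtain ⟨g, hg⟩ := CfsgLib.QuadStd.isometric_of_disc (by decide) hQ' hP b c (by
        rw [hneg, Matrix.det_neg, Fintype.card_fin, Odd.neg_one_pow ⟨k, rfl⟩]
        have key : ∀ u v : ZMod 3, u ≠ 0 → v ≠ 0 → ¬ IsSquare (u * v) → IsSquare (-1 * u * v) := by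
          decide
        exact key _ _ h1 h2 hsq)
      exact ⟨g, Or.inr hg⟩
  have heo : Nonempty (oGroup Q ≃* oGroup P) := by
    obtain ⟨g, hg | hg⟩ := hiso
    · exact ⟨oGroupCongr (Q := Q) (Q' := P) g hg⟩
    · have e : oGroup (-Q) = oGroup Q := by
        ext f
        show (∀ v, (-Q) (f v) = (-Q) v) ↔ ∀ v, Q (f v) = Q v
        simp
      exact ⟨(MulEquiv.subgroupCongr e.symm).trans (oGroupCongr (Q := -Q) (Q' := P) g hg)⟩
  obtain ⟨eo⟩ := heo
  have ho : ↥(commutator (oGroup Q)) ≃* ↥(commutator (oGroup P)) :=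
    (eo.subgroupMap _).trans (MulEquiv.subgroupCongr (commutator_map_equiv _))
  rw [← oddQ_coe k]
  exact ⟨(pOmegaEquiv Q).trans ((QuotientGroup.congr _ _ ho (map_center_equiv ho)).trans (pOmegaEquiv _).symm)⟩

variable {G : Type u} [Group G] [Finite G] {D : Set G}

/-- Perfect groups of the types. -/
theorem simple_stepped (hperf : commutator G = ⊤) (h : Fi D)
    (hgood : ∀ a ∈ D, NoTwins (nb D a) ∧ Fi (qimg (nb D a))) :
    (∃ m : ℕ, Nonempty (G ≃* Cfsg.POmega (ZMod 3) (Cfsg.quadFormOdd m (ZMod 3)))) ∨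
      Cfsg.IsFi22 G ∨ Cfsg.IsFi23 G := by
  have hD : Cfsg.IsThreeTranspositionGroup D := ⟨h.cls.1, fun g d hd => h.mem hd g, h.gen⟩
  cases stepped_of_good h hgood with
  | sym m hm hs =>
    obtain ⟨e, -⟩ := sym_model h.cls h.center (by omega) hs
    exact absurd (perfect_congr e hperf) (sym_not_perfect (by omega))
  | quad m hm hs =>
    obtain ⟨k, rfl⟩ : ∃ k, m = k + 1 := ⟨m - 1, by omega⟩
    rcases quad_normal hs with ⟨φ, f⟩ | ⟨φ, f⟩
    · obtain ⟨e, -⟩ := plus_model (by omega) h.cls h.center f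
      exact absurd (perfect_congr e hperf)
        (quad_not_perfect (plusQ (k + 1)) (plusQ_coe _) (plusQ_nondeg _) (by simp; omega))
    · obtain ⟨e, -⟩ := minus_model (by omega) h.cls h.center f
      exact absurd (perfect_congr e hperf) (quad_not_perfect (minusQ k 1 1) (minusQ_coe k 1 1)
        (minusQ_nondeg CfsgLib.QuadStd.Two.one_aniso k) (by simp; omega))
  | refl n hn μ hs =>
    obtain ⟨Q, hQ, -, e, -⟩ := refl_model h.cls h.center hs
    have ht := perfect_congr e hperf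
    rcases Nat.even_or_odd n with he | ho
    · exact absurd ht (refl_not_perfect hQ hn he)
    · obtain ⟨k, rfl⟩ := ho
      obtain ⟨e₁⟩ := refl_omega hQ hn
      obtain ⟨e₂⟩ := pomega_odd hQ
      exact Or.inl ⟨k, ⟨((e.trans Subgroup.topEquiv.symm).trans (MulEquiv.subgroupCongr ht.symm)).trans (e₁.trans e₂)⟩⟩
  | t22 hs =>
    have ht := type22 h hs
    have hg := geo22 hD h.prim ht
    refine Or.inr (Or.inl ⟨simple22 hg h.prim ht, ?_⟩)
    rw [(order22 hg h.prim ht).2]
  | t23 hs =>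
    obtain ⟨d, P⟩ := exists_point23 hD h.prim (type23 h hs)
    refine Or.inr (Or.inr ⟨simple23 P h.prim, ?_⟩)
    rw [order23 P]
  | t24 hs =>
    obtain ⟨d, P⟩ := exists_point24 hD h.prim (type24 h hgood hs)
    have h2 := index_commutator24 P
    rw [hperf, Subgroup.index_top] at h2
    omega

end CfsgLib.Fischer
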