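import Cfsg.Agent.Fischer.Space
import Cfsg.Agent.Fischer.Pair

/-!
Fischer's theorem: with reflection neighbourhoods the common neighbours of a far pair are the points
orthogonal to a singular one.
-/

set_option autoImplicit false
set_option linter.unusedSectionVars false

namespace CfsgLib.Fischer

open CfsgLib.ThreeT CfsgLib.ThreeT.Prod

universe u

section coords

variable {G : Type u} [Group G] {S : Set G} {n : ℕ} {Q : QuadraticForm (ZMod 3) (Fin n → ZMod 3)}
  {φ : G → Fin n → ZMod 3} (f : RC S Q φ)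
include f

theorem RC.ne_zero {x : G} (hx : x ∈ S) : φ x ≠ 0 := fun e => by
  have := f.norm x hx
  rw [e, QuadraticMap.map_zero] at this
  exact absurd this (by decide)

theorem RC.self_form {x : G} (hx : x ∈ S) : pb Q (φ x) (φ x) = 2 := by rw [pb_self, f.norm x hx, mul_one]

theorem RC.com_iff (hS : Closed S) {x y : G} (hx : x ∈ S) (hy : y ∈ S) (hne : x ≠ y) :
    Commute x y ↔ pb Q (φ x) (φ y) = 0 := by
  rw [← hS.fix_iff hx y]
  constructor
  · intro e
    have hc := f.conj x hx y hy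
    rw [e] at hc
    by_contra hb
    rcases hc with hc | hc
    · rw [rvec, eq_sub_iff_add_eq, add_eq_left] at hc
      exact (smul_eq_zero.1 hc).elim hb (f.ne_zero hx)
    · rw [rvec, neg_sub, eq_sub_iff_add_eq] at hc
      have h3 : (2 : ZMod 3) • φ y = pb Q (φ x) (φ y) • φ x := by rw [← hc, two_smul]
      rcases three_cases (pb Q (φ x) (φ y)) with e' | e' | e'
      · exact hb e'
      all_goals
        rw [e'] at h3
        have h4 := congrArg ((2 : ZMod 3) • ·) h3
        simp only [smul_smul, show (2 : ZMod 3) * 2 = 1 from rfl, one_smul] at h4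
        refine hne (f.inj y hy x hx ?_).symm
        first
        | exact Or.inr (by rw [h4, show (2 : ZMod 3) = -1 from rfl, neg_one_smul])
        | exact Or.inl (by rw [h4, show (2 : ZMod 3) * -1 = 1 from rfl, one_smul])
  · intro e
    refine f.inj _ (hS.conj x hx y hy) y hy ?_
    have hc := f.conj x hx y hy
    rwa [rvec, e, zero_smul, sub_zero] at hc

theorem RC.commute_of_form (hS : Closed S) {x y : G} (hx : x ∈ S) (hy : y ∈ S) (e : pb Q (φ x) (φ y) = 0) :
    Commute x y := by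
  by_cases hne : x = y
  · exact hne ▸ Commute.refl x
  · exact (f.com_iff hS hx hy hne).2 e

theorem RC.exists_rep {v : Fin n → ZMod 3} (hv : Q v = 1) : ∃ x ∈ S, ∃ k : ZMod 3, k * k = 1 ∧ φ x = k • v := by
  obtain ⟨x, hx, e | e⟩ := f.surj v hv
  · exact ⟨x, hx, 1, rfl, by rw [e, one_smul]⟩
  · exact ⟨x, hx, -1, rfl, by rw [e, neg_one_smul]⟩

/-- A member of a point is orthogonal to what the point is. -/
theorem RC.rep_form {x : G} {v : Fin n → ZMod 3} {k : ZMod 3} (hk : k * k = 1) (e : φ x = k • v)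
    (w : Fin n → ZMod 3) : pb Q w (φ x) = 0 ↔ pb Q w v = 0 := by
  rw [e, map_smul, smul_eq_mul]
  refine ⟨fun q => ?_, fun q => by rw [q, mul_zero]⟩
  rcases mul_eq_zero.1 q with r | r
  · rw [r, mul_zero] at hk; exact absurd hk (by decide)
  · exact r

theorem RC.conj_form {x y : G} (hx : x ∈ S) (hy : y ∈ S) (w : Fin n → ZMod 3) :
    pb Q w (φ (x * y * x)) = 0 ↔ pb Q w (rvec Q (φ x) (φ y)) = 0 := by
  rcases f.conj x hx y hy with e | e <;> rw [e]
  rw [map_neg, neg_eq_zero]

/-- Two members of one line. -/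
theorem RC.third_mem {x y : G} (hx : x ∈ S) (hy : y ∈ S) : Q (rvec Q (φ x) (φ y)) = 1 := by
  rw [rvec_q Q (f.norm x hx), f.norm y hy]

end coords

theorem pm_cases : ∀ k l : ZMod 3, k * k = 1 → l * l = 1 → l = k ∨ l = -k := by decide

theorem line_iff : ∀ s t : ZMod 3, ((s = 0 ↔ s + t = 0) ∧ (s = 0 ↔ s - t = 0)) ↔ t = 0 := by decide

variable {G : Type u} [Group G] [Finite G] {D : Set G} {n : ℕ} {μ : ZMod 3}
variable (h : Fi D) (hloc : ∀ a ∈ D, RCo (nb D a) n μ) (hn : 5 ≤ n)
include h hloc hn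

/-- The singular point of one common neighbour. -/
theorem refl_local {d c a : G} (hd : d ∈ D) (hc : c ∈ D) (hdc : ¬ Commute d c) (ha : a ∈ tri D d c)
    {Q : QuadraticForm (ZMod 3) (Fin n → ZMod 3)} {φ : G → Fin n → ZMod 3} (f : RC (nb D d) Q φ) :
    ∃ u, u ≠ 0 ∧ Q u = 0 ∧ pb Q (φ a) u = 0 ∧
      ∀ x ∈ nb D d, x ≠ a → Commute a x → (x ∈ tri D d c ↔ pb Q u (φ x) = 0) := by
  obtain ⟨Q', hQ', -, ψ, g⟩ := hloc a ha.1.1
  have hSd := h.nb_closed d
  have hSa := h.nb_closed a
  have hda : d ∈ nb D a := ⟨hd, ha.1.2.1.symm, ha.1.2.2.symm⟩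
  have hca : c ∈ nb D a := ⟨hc, fun r => hdc (r ▸ ha.1.2.2), ha.2⟩
  have hne : d ≠ c := fun e => hdc (e ▸ Commute.refl d)
  set b := pb Q' (ψ d) (ψ c) with hb
  have hb0 : b ≠ 0 := fun e => hdc ((g.com_iff hSa hda hca hne).2 e)
  set u0 := (-b) • ψ c + (-1 : ZMod 3) • ψ d with hu0def
  have hdu : pb Q' (ψ d) u0 = 0 := by
    rw [hu0def, map_add, map_smul, map_smul, g.self_form hda, ← hb, smul_eq_mul, smul_eq_mul, neg_mul, sq_one b hb0]
    decide
  have qu0 : Q' u0 = 0 := by
    rw [hu0def, sub_comb, q_smul, g.norm c hca, g.norm d hda, map_smul, LinearMap.smul_apply, smul_eq_mul,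
      pb_symm Q' (ψ c), ← hb]
    revert hb0; generalize b = z; revert z; decide
  have hu00 : u0 ≠ 0 := fun e => hne (g.inj d hda c hca (by
    rw [hu0def, neg_one_smul, ← sub_eq_add_neg, sub_eq_zero] at e
    rcases three_cases b with r | r | r
    · exact absurd r hb0
    · right; rw [← e, r, neg_one_smul]
    · left; rw [← e, r, neg_neg, one_smul]))
  have hcond : ∀ w ∈ nb D d, w ≠ a → Commute a w → (w ∈ tri D d c ↔ pb Q' u0 (ψ w) = 0) := by
    intro w hw hwa haw
    have hwa' : w ∈ nb D a := ⟨hw.1, hwa, haw⟩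
    have hdw := (g.com_iff hSa hda hwa' hw.2.1.symm).1 hw.2.2
    rw [show (w ∈ tri D d c) ↔ Commute w c from ⟨fun r => r.2, fun r => ⟨hw, r⟩⟩,
      g.com_iff hSa hwa' hca (fun e => hdc (e ▸ hw.2.2)), hu0def, map_add, map_smul, map_smul,
      LinearMap.add_apply, LinearMap.smul_apply, LinearMap.smul_apply, hdw, smul_zero, add_zero, smul_eq_mul,
      pb_symm Q' (ψ c)]
    simp [hb0]
  clear_value u0
  obtain ⟨x1, qx1, hdx1, hux1⟩ := exists_x_perp hQ' hn (g.norm d hda) qu0 hu00 hdu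
  have hq : ∀ k : ZMod 3, Q' (x1 + k • u0) = 1 := fun k => by
    rw [sub_comb, qx1, qu0, pb_symm Q' x1 u0, hux1, mul_zero, mul_zero, add_zero, add_zero]
  choose W hW K hK eW using fun k => g.exists_rep (hq k)
  have hWd : ∀ k, W k ∈ nb D d := fun k => by
    refine ⟨(hW k).1, fun e => ?_, ?_⟩
    · have := (RC.rep_form g (hK k) (eW k) (ψ d)).2 (by rw [map_add, map_smul, hdx1, hdu, smul_zero, add_zero])
      rw [e, g.self_form hda] at this
      exact absurd this (by decide)
    · exact g.commute_of_form hSa hda (hW k)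
        ((RC.rep_form g (hK k) (eW k) (ψ d)).2 (by rw [map_add, map_smul, hdx1, hdu, smul_zero, add_zero]))
  have hWT : ∀ k, W k ∈ tri D d c := fun k => (hcond _ (hWd k) (hW k).2.1 (hW k).2.2).2
    ((RC.rep_form g (hK k) (eW k) u0).2 (by rw [map_add, map_smul, hux1, pb_self, qu0, mul_zero, smul_zero, add_zero]))
  have hWne : ∀ k l, k ≠ l → W k ≠ W l := by
    intro k l hkl e
    have h1 : K k • (x1 + k • u0) = K l • (x1 + l • u0) := by rw [← eW k, ← eW l, e]
    have h2 := congrArg (pb Q' x1) h1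
    rw [map_smul, map_smul, map_add, map_add, map_smul, map_smul, pb_self, qx1, pb_symm Q' x1 u0, hux1,
      smul_zero, smul_zero, add_zero, smul_eq_mul, smul_eq_mul] at h2
    have h3 : K k = K l := mul_right_cancel₀ (by decide : (2 : ZMod 3) * 1 ≠ 0) h2
    rw [h3, smul_add, smul_add, add_right_inj, smul_smul, smul_smul] at h1
    have hne : K l ≠ 0 := fun r => by have := hK l; rw [r, mul_zero] at this; exact absurd this (by decide)
    exact hkl (mul_left_cancel₀ hne (smul_left_injective (ZMod 3) hu00 h1))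
  have hWcom : ¬ Commute (W 0) (W 1) := fun e => by
    have h2 := (g.com_iff hSa (hW 0) (hW 1) (hWne 0 1 (by decide))).1 e
    rw [RC.rep_form g (hK 1) (eW 1), pb_symm, RC.rep_form g (hK 0) (eW 0)] at h2
    rw [zero_smul, add_zero, one_smul, map_add, LinearMap.add_apply, pb_self, qx1, hux1, mul_one, add_zero] at h2
    exact absurd h2 (by decide)
  have hthird : W 0 * W 1 * W 0 = W (-1) := by
    refine g.inj _ (hSa.conj _ (hW 0) _ (hW 1)) _ (hW (-1)) ?_
    have key : ∃ s : ZMod 3, s * s = 1 ∧ rvec Q' (ψ (W 0)) (ψ (W 1)) = s • ψ (W (-1)) := by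
      refine ⟨-(K 1 * K (-1)), ?_, ?_⟩
      · rw [neg_mul_neg, mul_mul_mul_comm, hK 1, hK (-1), mul_one]
      rw [eW 0, eW 1, eW (-1), zero_smul, add_zero, one_smul, neg_one_smul, smul_smul,
        show -(K 1 * K (-1)) * K (-1) = -K 1 by rw [neg_mul, mul_assoc, hK (-1), mul_one],
        rvec_eq, map_smul, map_smul, LinearMap.smul_apply, map_add, pb_self, qx1, pb_symm Q' x1 u0, hux1, smul_eq_mul,
        smul_eq_mul, add_zero, smul_smul]
      have hk0 : -(K 1 * (K 0 * (2 * 1))) * K 0 = -(2 * K 1) := by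
        linear_combination (-2 * K 1) * hK 0
      rw [hk0]
      match_scalars <;> ring
    obtain ⟨s, hs, es⟩ := key
    rcases three_cases s with r | r | r
    · rw [r, mul_zero] at hs; exact absurd hs (by decide)
    · rw [r, one_smul] at es
      rcases g.conj _ (hW 0) _ (hW 1) with e | e <;> rw [e, es] <;> simp
    · rw [r, neg_one_smul] at es
      rcases g.conj _ (hW 0) _ (hW 1) with e | e <;> rw [e, es] <;> simp
  -- the same line seen from `d`
  have hb1 : pb Q (φ (W 0)) (φ (W 1)) ≠ 0 := fun e => hWcom ((f.com_iff hSd (hWd 0) (hWd 1) (hWne 0 1 (by decide))).2 e)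
  set b' := pb Q (φ (W 0)) (φ (W 1)) with hb'
  set q0 := (-b') • φ (W 1) with hq0
  set uu := q0 + (-1 : ZMod 3) • φ (W 0) with huu
  have hp1 : pb Q (φ (W 0)) q0 = -1 := by rw [hq0, map_smul, ← hb', smul_eq_mul, neg_mul, sq_one b' hb1]
  have qq0 : Q q0 = 1 := by rw [hq0, q_smul, f.norm _ (hWd 1), neg_mul_neg, sq_one b' hb1, mul_one]
  clear_value q0
  have hpu : pb Q (φ (W 0)) uu = 0 := by
    rw [huu, map_add, map_smul, f.self_form (hWd 0), hp1, smul_eq_mul]; decide
  have quu : Q uu = 0 := by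
    rw [huu, sub_comb, qq0, f.norm _ (hWd 0), pb_symm Q q0, hp1]; decide
  have hau : pb Q (φ a) uu = 0 := by
    rw [huu, hq0, map_add, map_smul, map_smul, (f.com_iff hSd ha.1 (hWd 1) (hW 1).2.1.symm).1 (hW 1).2.2,
      (f.com_iff hSd ha.1 (hWd 0) (hW 0).2.1.symm).1 (hW 0).2.2, smul_zero, smul_zero, add_zero]
  have huu0 : uu ≠ 0 := fun e => hWne 0 1 (by decide) (f.inj _ (hWd 0) _ (hWd 1) (by
    rw [huu, hq0, neg_one_smul, ← sub_eq_add_neg, sub_eq_zero] at e
    rcases three_cases b' with r | r | r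
    · exact absurd r hb1
    · right; rw [← e, r, neg_one_smul]
    · left; rw [← e, r, neg_neg, one_smul]))
  have e1 : φ (W 1) = (-b') • (φ (W 0) + uu) := by
    rw [huu, neg_one_smul, add_comm q0, ← add_assoc, add_neg_cancel, zero_add, hq0, smul_smul, neg_mul_neg,
      sq_one b' hb1, one_smul]
  have e2 : rvec Q (φ (W 0)) (φ (W 1)) = (-b') • (uu + (-1 : ZMod 3) • φ (W 0)) := by
    rw [e1, rvec_smul, rvec_eq, map_add, f.self_form (hWd 0), hpu]
    congr 1
    rw [show -((2 : ZMod 3) + 0) = 1 from rfl, one_smul, neg_one_smul]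
    have : φ (W 0) + φ (W 0) = -φ (W 0) := by
      rw [← two_smul (ZMod 3), show (2 : ZMod 3) = -1 from rfl, neg_one_smul]
    rw [add_right_comm, this, add_comm]
  refine ⟨uu, huu0, quu, hau, fun w hw hwa haw => ?_⟩
  have hWthird : W (-1) ∈ nb D d := hWd (-1)
  have hf2 : ∀ v, pb Q v (φ (W (-1))) = 0 ↔ pb Q v (uu + (-1 : ZMod 3) • φ (W 0)) = 0 := fun v => by
    rw [← hthird, f.conj_form (hWd 0) (hWd 1), e2, map_smul, smul_eq_mul, mul_eq_zero]
    simp [hb1]
  have hwself : ∀ k, W k = w → (w ∈ tri D d c ∧ pb Q uu (φ w) = 0) := by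
    intro k e
    refine ⟨e ▸ hWT k, ?_⟩
    rcases three_cases k with r | r | r <;> rw [r] at e <;> rw [← e]
    · rw [pb_symm]; exact hpu
    · rw [e1, map_smul, map_add, pb_self, quu, pb_symm Q uu (φ (W 0)), hpu]; simp
    · rw [hf2, map_add, map_smul, pb_self, quu, pb_symm Q uu (φ (W 0)), hpu]; simp
  by_cases hline : ∃ k, W k = w
  · obtain ⟨k, e⟩ := hline; exact iff_of_true (hwself k e).1 (hwself k e).2
  push Not at hline
  have hwa' : w ∈ nb D a := ⟨hw.1, hwa, haw⟩
  have hsg : ∀ k, (Commute w (W k) ↔ pb Q' (ψ w) x1 + k * pb Q' (ψ w) u0 = 0) := fun k => by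
    rw [g.com_iff hSa hwa' (hW k) (Ne.symm (hline k)), RC.rep_form g (hK k) (eW k), map_add, map_smul, smul_eq_mul]
  have c1 : Commute w (W 0) ↔ pb Q (φ w) (φ (W 0)) = 0 := f.com_iff hSd hw (hWd 0) (Ne.symm (hline 0))
  have c2 : Commute w (W 1) ↔ pb Q (φ w) (φ (W 0)) + pb Q (φ w) uu = 0 := by
    rw [f.com_iff hSd hw (hWd 1) (Ne.symm (hline 1)), e1, map_smul, map_add, smul_eq_mul, mul_eq_zero]
    simp [hb1]
  have c3 : Commute w (W (-1)) ↔ pb Q (φ w) (φ (W 0)) - pb Q (φ w) uu = 0 := by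
    rw [f.com_iff hSd hw (hWd (-1)) (Ne.symm (hline (-1))), hf2, map_add, map_smul, smul_eq_mul]
    generalize pb Q (φ w) (φ (W 0)) = s; generalize pb Q (φ w) uu = t
    revert s t; decide
  rw [hcond w hw hwa haw, pb_symm Q' u0, pb_symm Q uu]
  have s0 := (hsg 0).symm.trans c1
  have s1 := (hsg 1).symm.trans c2
  have s2 := (hsg (-1)).symm.trans c3
  rw [zero_mul, add_zero] at s0
  rw [one_mul] at s1
  rw [neg_one_mul, ← sub_eq_add_neg] at s2
  rw [← line_iff (pb Q' (ψ w) x1) (pb Q' (ψ w) u0), ← line_iff (pb Q (φ w) (φ (W 0))) (pb Q (φ w) uu), s0, s1, s2]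

/-- Agreement next to one common neighbour identifies a far member. -/
theorem refl_det {d c z t : G} (hd : d ∈ D) (hc : c ∈ D) (hz : z ∈ D) (hdc : ¬ Commute d c) (hdz : ¬ Commute d z)
    (ht : t ∈ tri D d c) (htz : Commute t z)
    (hagree : ∀ x ∈ nb D d, x ≠ t → Commute t x → Commute x c → Commute x z) : z = c ∨ z = d * c * d := by
  obtain ⟨Q, hQ, -, ψ, g⟩ := hloc t ht.1.1
  have hS := h.nb_closed t
  have hdt : d ∈ nb D t := ⟨hd, ht.1.2.1.symm, ht.1.2.2.symm⟩
  have hct : c ∈ nb D t := ⟨hc, fun r => hdc (r ▸ ht.1.2.2), ht.2⟩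
  have hzt : z ∈ nb D t := ⟨hz, fun r => hdz (r ▸ ht.1.2.2), htz⟩
  set δ := ψ d with hδ
  have mk : ∀ y ∈ nb D t, ¬ Commute d y → ∃ k : ZMod 3, k * k = 1 ∧ ∃ v, v ≠ 0 ∧ Q v = 0 ∧ pb Q δ v = 0 ∧
      ψ y = k • (δ + v) ∧ pb Q δ (ψ y) = -k := by
    intro y hy hdy
    have hne : d ≠ y := fun e => hdy (e ▸ Commute.refl d)
    have hb : pb Q δ (ψ y) ≠ 0 := fun e => hdy ((g.com_iff hS hdt hy hne).2 e)
    set b := pb Q δ (ψ y) with hb'
    refine ⟨-b, by rw [neg_mul_neg, sq_one b hb], (-b) • ψ y + (-1 : ZMod 3) • δ, fun e => hne ?_, ?_, ?_, ?_,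
      (neg_neg b).symm⟩
    · refine g.inj d hdt y hy ?_
      rw [neg_one_smul, ← sub_eq_add_neg, sub_eq_zero] at e
      rcases three_cases b with r | r | r
      · exact absurd r hb
      · right; rw [← hδ, ← e, r, neg_one_smul]
      · left; rw [← hδ, ← e, r, neg_neg, one_smul]
    · rw [sub_comb, q_smul, g.norm y hy, g.norm d hdt, map_smul, LinearMap.smul_apply, smul_eq_mul,
        pb_symm Q (ψ y), ← hb']
      revert hb; generalize b = z; revert z; decide
    · rw [map_add, map_smul, map_smul, g.self_form hdt, ← hb', smul_eq_mul, smul_eq_mul, neg_mul, sq_one b hb]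
      decide
    · rw [neg_one_smul, add_comm ((-b) • ψ y), ← add_assoc, add_neg_cancel, zero_add, smul_smul, neg_mul_neg,
        sq_one b hb, one_smul]
  obtain ⟨k1, hk1, u0, hu0, qu0, hdu, e1, e1'⟩ := mk c hct hdc
  obtain ⟨k2, hk2, u2, hu2, qu2, hdu2, e2, -⟩ := mk z hzt hdz
  obtain ⟨l, hl⟩ := det_point_perp hQ hn (g.norm d hdt) qu0 hu0 hdu qu2 hdu2 fun x qx hdx hux => by
    obtain ⟨w, hw, k, hk, ew⟩ := g.exists_rep qx
    have hwd : w ∈ nb D d := ⟨hw.1, fun e => by
      have := (RC.rep_form g hk ew δ).2 hdx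
      rw [e, hδ, g.self_form hdt] at this
      exact absurd this (by decide), g.commute_of_form hS hdt hw ((RC.rep_form g hk ew δ).2 hdx)⟩
    have hwc : Commute w c := by
      refine g.commute_of_form hS hw hct ?_
      rw [e1, map_smul, pb_symm Q (ψ w), map_add, LinearMap.add_apply, (RC.rep_form g hk ew δ).2 hdx,
        (RC.rep_form g hk ew u0).2 hux, add_zero, smul_zero]
    have hwz := hagree w hwd hw.2.1 hw.2.2 hwc
    rw [g.com_iff hS hw hzt (fun e => hdz (e ▸ hwd.2.2)), e2, map_smul, pb_symm Q (ψ w), map_add, LinearMap.add_apply,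
      (RC.rep_form g hk ew δ).2 hdx, zero_add, smul_eq_mul, mul_eq_zero] at hwz
    rcases hwz with r | r
    · rw [r, mul_zero] at hk2; exact absurd hk2 (by decide)
    · exact (RC.rep_form g hk ew u2).1 r
  rcases three_cases l with r | r | r <;> rw [r] at hl
  · exact absurd (hl.trans (zero_smul _ _)) hu2
  · left
    rw [one_smul] at hl
    refine g.inj z hzt c hct ?_
    rw [e2, e1, hl]
    rcases pm_cases k1 k2 hk1 hk2 with q | q <;> simp only [q, neg_smul, neg_neg, true_or, or_true]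
  · right
    rw [neg_one_smul] at hl
    refine g.inj z hzt _ (hS.conj d hdt c hct) ?_
    have hr : rvec Q (ψ d) (ψ c) = (-k1) • (δ + -u0) := by
      rw [rvec, ← hδ, e1']
      rw [e1, neg_smul, neg_smul, sub_neg_eq_add, smul_add, smul_add, smul_neg, neg_add, neg_neg]
      have : k1 • δ + k1 • δ = -(k1 • δ) := by
        rw [← two_smul (ZMod 3), show (2 : ZMod 3) = -1 from rfl, neg_one_smul]
      rw [add_right_comm, this]
    rcases g.conj d hdt c hct with e | e <;> rw [e, hr, e2, hl] <;>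
      rcases pm_cases k1 k2 hk1 hk2 with q | q <;> simp only [q, neg_smul, neg_neg, true_or, or_true]

theorem refl_tdet : TDet D := by
  intro d hd c hc z hz hdc hdz e
  obtain ⟨t, ht⟩ := h.tri_nonempty hd hc hdc
  exact refl_det h hloc hn hd hc hz hdc hdz ht ((e.symm ▸ ht : t ∈ tri D d z).2) fun x hx _ _ q =>
    ((e.symm ▸ (⟨hx, q⟩ : x ∈ tri D d c)) : x ∈ tri D d z).2

omit hloc hn in
/-- An element permuting `nb d` as an isometry. -/
theorem refl_word {d : G} {Q : QuadraticForm (ZMod 3) (Fin n → ZMod 3)} {φ : G → Fin n → ZMod 3}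
    (f : RC (nb D d) Q φ) :
    ∀ l : List G, (∀ x ∈ l, x ∈ nb D d) → ∀ y ∈ nb D d, l.prod * y * l.prod⁻¹ ∈ nb D d ∧
      ∃ k : ZMod 3, k * k = 1 ∧ φ (l.prod * y * l.prod⁻¹) = k • l.foldr (fun x v => rvec Q (φ x) v) (φ y) := by
  intro l
  induction l with
  | nil => exact fun _ y hy => ⟨by simpa using hy, 1, rfl, by simp⟩
  | cons x l ih =>
    intro hl y hy
    have hx := hl x (List.mem_cons_self ..)
    obtain ⟨hm, k, hk, e⟩ := ih (fun z hz => hl z (List.mem_cons_of_mem _ hz)) y hy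
    have he : (x :: l).prod * y * (x :: l).prod⁻¹ = x * (l.prod * y * l.prod⁻¹) * x := by
      rw [List.prod_cons, mul_inv_rev, h.closed.inv hx.1]; group
    rw [he]
    refine ⟨(h.nb_closed d).conj x hx _ hm, ?_⟩
    rcases f.conj x hx _ hm with r | r <;> rw [r, e, rvec_smul]
    · exact ⟨k, hk, rfl⟩
    · exact ⟨-k, by rw [neg_mul_neg, hk], by rw [neg_smul]; rfl⟩

omit h hloc hn in
theorem rvec_scale {Q : QuadraticForm (ZMod 3) (Fin n → ZMod 3)} {k : ZMod 3} (hk : k * k = 1)
    (v y : Fin n → ZMod 3) : rvec Q (k • v) y = rvec Q v y := by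
  rw [rvec, rvec, map_smul, LinearMap.smul_apply, smul_eq_mul, smul_smul, mul_right_comm, hk, one_mul]

omit h hloc hn in
theorem trans_eq {Q : QuadraticForm (ZMod 3) (Fin n → ZMod 3)} {x u : Fin n → ZMod 3} (qx : Q x = 1)
    (hxu : pb Q x u = 0) (y : Fin n → ZMod 3) :
    rvec Q (x + u) (rvec Q x y) = y + (-pb Q u y) • x + (pb Q x y - pb Q u y) • u := by
  simp only [rvec, map_add, map_sub, map_smul, LinearMap.add_apply, pb_self, qx, pb_symm Q u x, hxu, smul_eq_mul]
  generalize pb Q x y = b; generalize pb Q u y = β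
  match_scalars
  · ring
  · revert b β; decide
  · revert b β; decide

omit h hloc hn in
theorem trans_inv {Q : QuadraticForm (ZMod 3) (Fin n → ZMod 3)} {x u : Fin n → ZMod 3} (qx : Q x = 1)
    (hxu : pb Q x u = 0) (y : Fin n → ZMod 3) :
    rvec Q x (rvec Q (x + u) y) = y + pb Q u y • x + (-pb Q x y - pb Q u y) • u := by
  simp only [rvec, map_add, map_sub, map_smul, LinearMap.add_apply, pb_self, qx, hxu, smul_eq_mul]
  generalize pb Q x y = b; generalize pb Q u y = β
  match_scalars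
  · ring
  · revert b β; decide
  · revert b β; decide

variable {d c : G} (hd : d ∈ D) (hc : c ∈ D) (hdc : ¬ Commute d c)
  {Q : QuadraticForm (ZMod 3) (Fin n → ZMod 3)} (hQ : (QuadraticMap.polarBilin Q).Nondegenerate)
  {φ : G → Fin n → ZMod 3} (f : RC (nb D d) Q φ)
include hd hc hdc hQ f

/-- The singular point of a common neighbour. -/
def IsU (D : Set G) (d c : G) (Q : QuadraticForm (ZMod 3) (Fin n → ZMod 3)) (φ : G → Fin n → ZMod 3) (a : G)
    (u : Fin n → ZMod 3) : Prop :=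
  u ≠ 0 ∧ Q u = 0 ∧ pb Q (φ a) u = 0 ∧
    ∀ x ∈ nb D d, x ≠ a → Commute a x → (x ∈ tri D d c ↔ pb Q u (φ x) = 0)

theorem refl_step {a b : G} (ha : a ∈ tri D d c) (hb : b ∈ tri D d c) (hne : b ≠ a) (hab : Commute a b)
    {u v : Fin n → ZMod 3} (hu : IsU D d c Q φ a u) (hv : IsU D d c Q φ b v) : ∃ k : ZMod 3, v = k • u := by
  obtain ⟨hu0, qu, hau, hMa⟩ := hu
  obtain ⟨hv0, qv, hbv, hMb⟩ := hv
  have hSd := h.nb_closed d
  have qa := f.norm a ha.1
  have qb := f.norm b hb.1
  have hba : pb Q (φ a) (φ b) = 0 := (f.com_iff hSd ha.1 hb.1 (Ne.symm hne)).1 hab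
  have hub : pb Q u (φ b) = 0 := (hMa b hb.1 hne hab).1 hb
  have hva : pb Q v (φ a) = 0 := (hMb a ha.1 (Ne.symm hne) hab.symm).1 ha
  set Z := perp Q (perp Q ⊤ (φ a)) (φ b) with hZ
  have hND : ND Q Z := ((nd_top hQ).perp_aniso (s := φ a) trivial (by rw [qa]; decide)).perp_aniso
    ⟨trivial, hba⟩ (by rw [qb]; decide)
  have hmemZ : ∀ {y}, pb Q (φ a) y = 0 → pb Q (φ b) y = 0 → y ∈ Z := fun h1 h2 => ⟨⟨trivial, h1⟩, h2⟩
  have huZ : u ∈ Z := hmemZ hau (by rw [pb_symm]; exact hub)
  have hvZ : v ∈ Z := hmemZ (by rw [pb_symm]; exact hva) hbv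
  by_cases hex : ∃ x ∈ perp Q Z u, Q x = 1
  · refine hND.line_det huZ hu0 qu hvZ qv hex ?_
    rintro x ⟨hxm, hxu⟩ qx
    have hxa : pb Q (φ a) x = 0 := hxm.1.2
    have hxb : pb Q (φ b) x = 0 := hxm.2
    obtain ⟨w, hw, k, hk, ew⟩ := f.exists_rep qx
    have hwa : w ≠ a := fun e => by
      have := (RC.rep_form f hk ew (φ a)).2 hxa
      rw [e, f.self_form ha.1] at this; exact absurd this (by decide)
    have hwb : w ≠ b := fun e => by
      have := (RC.rep_form f hk ew (φ b)).2 hxb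
      rw [e, f.self_form hb.1] at this; exact absurd this (by decide)
    have hwT := (hMa w hw hwa (f.commute_of_form hSd ha.1 hw ((RC.rep_form f hk ew (φ a)).2 hxa))).2
      ((RC.rep_form f hk ew u).2 hxu)
    exact (RC.rep_form f hk ew v).1
      ((hMb w hw hwb (f.commute_of_form hSd hb.1 hw ((RC.rep_form f hk ew (φ b)).2 hxb))).1 hwT)
  push Not at hex
  obtain ⟨w, hw, qw, huw⟩ := hND.exists_partner huZ hu0 qu
  have hND' := hND.perp_pair (u := u) (w := w) huZ hw qu qw huw
  obtain ⟨r, hr, qr⟩ := hND'.exists_aniso (by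
    have := finrank_pair (Q := Q) Z u w
    have := finrank_perp Q (perp Q ⊤ (φ a)) (φ b)
    have := finrank_perp Q (⊤ : Submodule (ZMod 3) (Fin n → ZMod 3)) (φ a)
    have := finrank_top' (n := n)
    rw [hZ] at *
    omega)
  have hrZ : r ∈ perp Q Z u := hr.1
  have hru : pb Q u r = 0 := hr.1.2
  have hra : pb Q (φ a) r = 0 := hr.1.1.1.2
  have hrb : pb Q (φ b) r = 0 := hr.1.1.2
  have qr2 : Q r = 2 := by
    rcases three_cases (Q r) with e | e | e
    · exact absurd e qr
    · exact absurd e (hex r hrZ)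
    · rw [e]; rfl
  set x := φ a + φ b + r with hx
  have qx : Q x = 1 := by
    rw [hx, q_add, q_add, qa, qb, qr2, hba, map_add, LinearMap.add_apply, hra, hrb]; decide
  have hxu : pb Q x u = 0 := by
    rw [hx, map_add, map_add, LinearMap.add_apply, LinearMap.add_apply, hau, pb_symm Q (φ b), hub, pb_symm Q r, hru]
    simp
  have hbu : pb Q (φ b) u = 0 := by rw [pb_symm]; exact hub
  have qshift : ∀ {y}, Q y = 1 → pb Q y u = 0 → Q (y + u) = 1 := fun e1 e2 => by rw [q_add, e1, qu, e2]; decide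
  obtain ⟨X, hX, kX, hkX, eX⟩ := f.exists_rep qx
  obtain ⟨X', hX', kX', hkX', eX'⟩ := f.exists_rep (qshift qx hxu)
  obtain ⟨A', hA', kA, hkA, eA⟩ := f.exists_rep (qshift qa hau)
  obtain ⟨B', hB', kB, hkB, eB⟩ := f.exists_rep (qshift qb hbu)
  set l := [X', X, a, A', b, B'] with hl
  have hlm : ∀ z ∈ l, z ∈ nb D d := by
    intro z hz
    simp only [hl, List.mem_cons, List.not_mem_nil, or_false] at hz
    rcases hz with rfl | rfl | rfl | rfl | rfl | rfl
    exacts [hX', hX, ha.1, hA', hb.1, hB']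
  set g := l.prod with hg
  set L : (Fin n → ZMod 3) → Fin n → ZMod 3 := fun y => y + (-pb Q u y) • r + (pb Q r y + pb Q u y) • u with hLdef
  have hfold : ∀ y, l.foldr (fun z v => rvec Q (φ z) v) y = L y := by
    intro y
    simp only [hl, List.foldr_cons, List.foldr_nil, eX, eX', eA, eB, rvec_scale hkX, rvec_scale hkX', rvec_scale hkA,
      rvec_scale hkB, trans_eq qx hxu, trans_inv qa hau, trans_inv qb hbu, hLdef]
    simp only [hx, map_add, map_smul, LinearMap.add_apply, smul_eq_mul, hub, pb_symm Q u (φ a), hau,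
      pb_self, qu, qa, qb, hba, pb_symm Q (φ b) (φ a), hbu, pb_symm Q r (φ a), hra, pb_symm Q r (φ b), hrb,
      pb_symm Q r u, hru]
    generalize pb Q (φ a) y = i; generalize pb Q (φ b) y = j; generalize pb Q r y = k; generalize pb Q u y = β
    match_scalars <;> (revert i j k β; decide)
  have hact : ∀ y ∈ nb D d, g * y * g⁻¹ ∈ nb D d ∧ ∀ w, pb Q w (φ (g * y * g⁻¹)) = 0 ↔ pb Q w (L (φ y)) = 0 := by
    intro y hy
    obtain ⟨hm, k, hk, e⟩ := refl_word h f l hlm y hy
    refine ⟨hm, fun w => ?_⟩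
    rw [hg, RC.rep_form f hk e, hfold]
  have hLform : ∀ y z, pb Q (L y) (L z) = pb Q y z := by
    intro y z
    simp only [hLdef, map_add, map_smul, LinearMap.add_apply, LinearMap.smul_apply, smul_eq_mul, pb_self, qu, qr2,
      pb_symm Q r u, hru, pb_symm Q y r, pb_symm Q y u]
    generalize pb Q y z = s; generalize pb Q u y = i; generalize pb Q u z = j
    generalize pb Q r y = k; generalize pb Q r z = l
    revert s i j k l; decide
  have hLu : L u = u := by
    simp only [hLdef, pb_self, qu, pb_symm Q r u, hru]; simp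
  have hLa : L (φ a) = φ a := by
    simp only [hLdef, pb_symm Q u (φ a), hau, pb_symm Q r (φ a), hra]; simp
  have hLb : L (φ b) = φ b := by
    simp only [hLdef, hub, pb_symm Q r (φ b), hrb]; simp
  have hgd : g * d * g⁻¹ = d := by
    have : Commute g d := by
      rw [hg]; exact Commute.list_prod_left l d fun z hz => (hlm z hz).2.2.symm
    rw [this.eq, mul_inv_cancel_right]
  have hgfix : ∀ y ∈ nb D d, L (φ y) = φ y → g * y * g⁻¹ = y := by
    intro y hy e
    obtain ⟨hm, k, hk, e'⟩ := refl_word h f l hlm y hy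
    rw [hfold, e] at e'
    refine f.inj _ hm y hy ?_
    rcases three_cases k with r | r | r
    · rw [r, mul_zero] at hk; exact absurd hk (by decide)
    · rw [r, one_smul] at e'; exact Or.inl e'
    · rw [r, neg_one_smul] at e'; exact Or.inr e'
  have hga := hgfix a ha.1 hLa
  have hgb := hgfix b hb.1 hLb
  have hinvm : ∀ y ∈ nb D d, g⁻¹ * y * g ∈ nb D d := by
    intro y hy
    refine ⟨by simpa using h.mem hy.1 g⁻¹, fun e => hy.2.1 ?_, ?_⟩
    · have h5 : g * (g⁻¹ * y * g) * g⁻¹ = y := by group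
      rw [← h5, e, hgd]
    · rw [← commute_conj_iff g, hgd, show g * (g⁻¹ * y * g) * g⁻¹ = y by group]; exact hy.2.2
  set z := g * c * g⁻¹ with hz
  have hzD : z ∈ D := h.mem hc g
  have hdz : ¬ Commute d z := fun q => hdc ((commute_conj_iff g d c).1 (by rw [hgd]; exact q))
  have haz : Commute a z := by rw [← hga]; exact (commute_conj_iff g a c).2 ha.2
  have hfix : ∀ y ∈ nb D d, (y ∈ tri D d c ↔ g * y * g⁻¹ ∈ tri D d c) := by
    have hT : tri D d z = tri D d c := by
      have hsame : z = c ∨ z = d * c * d := by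
        refine refl_det h hloc hn hd hc hzD hdc hdz ha haz fun y hy hya hay hyc => ?_
        obtain ⟨y', hy', rfl⟩ : ∃ y' ∈ nb D d, g * y' * g⁻¹ = y := ⟨g⁻¹ * y * g, hinvm y hy, by group⟩
        have hy'a : y' ≠ a := fun e => hya (by rw [e, hga])
        have hay' : Commute a y' := by rw [← hga] at hay; exact (commute_conj_iff g a y').1 hay
        have h1 := (hMa _ hy hya hay).1 ⟨hy, hyc⟩
        rw [(hact y' hy').2, ← hLu, hLform] at h1
        exact (commute_conj_iff g _ _).2 ((hMa y' hy' hy'a hay').2 h1).2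
      rcases hsame with e | e <;> rw [e]
      ext y
      exact and_congr_right fun hy => commute_c'_iff h hd hc hdc hy.2.2.symm
    intro y hy
    constructor
    · intro hyT
      rw [← hT]
      exact ⟨(hact y hy).1, (commute_conj_iff g _ _).2 hyT.2⟩
    · intro hyT
      rw [← hT] at hyT
      exact ⟨hy, (commute_conj_iff g _ _).1 hyT.2⟩
  -- the point of `b` is kept
  have hLv : ∀ y, Q y = 1 → pb Q (φ b) y = 0 → pb Q v y = 0 → pb Q v (L y) = 0 := by
    intro y qy hby hvy
    obtain ⟨Y, hY, k, hk, eY⟩ := f.exists_rep qy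
    have hYb : Y ≠ b := fun e => by
      have := (RC.rep_form f hk eY (φ b)).2 hby
      rw [e, f.self_form hb.1] at this; exact absurd this (by decide)
    have hbY := f.commute_of_form hSd hb.1 hY ((RC.rep_form f hk eY (φ b)).2 hby)
    have hYT := (hMb Y hY hYb hbY).2 ((RC.rep_form f hk eY v).2 hvy)
    have h2 := (hfix Y hY).1 hYT
    have h3 := (hMb _ (hact Y hY).1 (fun e => hYb (mul_left_cancel (mul_right_cancel (e.trans hgb.symm))))
      (by rw [← hgb]; exact (commute_conj_iff g b Y).2 hbY)).1 h2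
    rw [(hact Y hY).2] at h3
    have hsmul : L (φ Y) = k • L y := by
      simp only [eY, hLdef, map_smul, smul_eq_mul]
      match_scalars <;> ring
    rw [hsmul, map_smul, smul_eq_mul] at h3
    rcases mul_eq_zero.1 h3 with e | e
    · rw [e, mul_zero] at hk; exact absurd hk (by decide)
    · exact e
  obtain ⟨k, hk⟩ := det_point_perp hQ hn qb qv hv0 hbv
    (show Q (L (L v)) = 0 by
      have := (hLform (L v) (L v)).trans (hLform v v)
      rw [pb_self, pb_self, qv] at this
      revert this; generalize Q (L (L v)) = s; revert s; decide)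
    (show pb Q (φ b) (L (L v)) = 0 by rw [← hLb, hLform, ← hLb, hLform]; exact hbv)
    fun y qy hby hvy => by
      have hL3 : ∀ y, L (L (L y)) = y := by
        intro y
        simp only [hLdef, map_add, map_smul, smul_eq_mul, pb_self, qu, qr2, pb_symm Q r u, hru]
        generalize pb Q u y = i; generalize pb Q r y = j
        match_scalars <;> (try revert i j) <;> decide
      rw [← hLform, hL3]
      exact hLv y qy hby hvy
  -- a vector meeting `u` would be moved
  have hvu : pb Q u v = 0 := by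
    by_contra hne'
    have hform := congrArg (pb Q u) hk
    simp only [hLdef, map_add, map_smul, smul_eq_mul, pb_self, qu, hru, mul_zero, add_zero] at hform
    have hk1 : k = 1 := by
      have : k * pb Q u v = 1 * pb Q u v := by rw [one_mul]; exact hform.symm
      exact mul_right_cancel₀ hne' this
    have hformr := congrArg (pb Q r) hk
    simp only [hLdef, hk1, map_add, map_smul, smul_eq_mul, pb_self, qu, qr2, hru, pb_symm Q r u, mul_zero,
      add_zero] at hformr
    revert hformr hne'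
    generalize pb Q u v = i; generalize pb Q r v = j
    revert i j; decide
  refine hND.of_perp huZ hu0 hvZ qu fun y hy => ?_
  have hvp : v ∈ perp Q Z u := ⟨hvZ, hvu⟩
  rcases three_cases (pb Q v y) with e | e | e
  · exact e
  all_goals
    exfalso
    refine hex (y + ((1 - Q y) * pb Q v y) • v) ((perp Q Z u).add_mem hy ((perp Q Z u).smul_mem _ hvp)) ?_
    rw [sub_comb, qv, pb_symm Q y v, e]
    generalize Q y = s; revert s; decide

/-- The common neighbours of a far pair are the points orthogonal to one singular point. -/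
theorem refl_tri : ∃ u, u ≠ 0 ∧ Q u = 0 ∧ ∀ x ∈ nb D d, (x ∈ tri D d c ↔ pb Q u (φ x) = 0) := by
  have hSd := h.nb_closed d
  obtain ⟨a, ha⟩ := h.tri_nonempty hd hc hdc
  obtain ⟨u, hu⟩ : ∃ u, IsU D d c Q φ a u := refl_local h hloc hn hd hc hdc ha f
  obtain ⟨hu0, qu, hau, hMa⟩ := hu
  let Cs : G → Prop := fun t => t ∈ tri D d c ∧ IsU D d c Q φ t u
  have hCa : Cs a := ⟨ha, hu0, qu, hau, hMa⟩
  have hperp : ∀ t, Cs t → pb Q (φ t) u = 0 := fun t q => q.2.2.2.1
  have hnext : ∀ t, Cs t → ∀ x ∈ nb D d, pb Q (φ t) (φ x) = 0 → pb Q u (φ x) = 0 → Cs x := by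
    intro t htC x hx h1 h2
    by_cases e : x = t
    · exact e ▸ htC
    have htx := (f.com_iff hSd htC.1.1 hx (Ne.symm e)).2 h1
    have hxT := (htC.2.2.2.2 x hx e htx).2 h2
    obtain ⟨v, hv⟩ : ∃ v, IsU D d c Q φ x v := refl_local h hloc hn hd hc hdc hxT f
    obtain ⟨k, hk⟩ := refl_step h hloc hn hd hc hdc hQ f htC.1 hxT e htx htC.2 hv
    obtain ⟨hv0, qv, hxv, hMx⟩ := hv
    have hk0 : k ≠ 0 := fun r => hv0 (by rw [hk, r, zero_smul])
    refine ⟨hxT, hu0, qu, by rw [pb_symm]; exact h2, fun y hy hne hxy => ?_⟩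
    rw [hMx y hy hne hxy, hk, map_smul, LinearMap.smul_apply, smul_eq_mul, mul_eq_zero]
    simp [hk0]
  have hsat : ∀ r, Cs r → ∀ x ∈ nb D d, ∀ k l : ZMod 3, φ x = k • φ r + l • u → Cs x := by
    intro r hr x hx k l e
    obtain ⟨y, qy, hry, huy⟩ := exists_x_perp hQ hn (f.norm r hr.1.1) qu hu0 (hperp r hr)
    obtain ⟨Y, hY, s, hs, eY⟩ := f.exists_rep qy
    have hY' : Cs Y := hnext r hr Y hY ((RC.rep_form f hs eY (φ r)).2 hry) ((RC.rep_form f hs eY u).2 huy)
    refine hnext Y hY' x hx ?_ ?_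
    · rw [e, map_add, map_smul, map_smul, pb_symm Q (φ Y), (RC.rep_form f hs eY (φ r)).2 hry, hperp Y hY',
        smul_zero, smul_zero, add_zero]
    · rw [e, map_add, map_smul, map_smul, pb_symm Q u (φ r), hperp r hr, pb_self, qu, mul_zero, smul_zero, smul_zero,
        add_zero]
  have hlift : ∀ w, Q w = 1 → pb Q u w ≠ 0 → ∃ x, Cs x ∧ pb Q w (φ x) = 0 := by
    intro w qw hw
    have qx : Q (φ a + (-(pb Q w (φ a) * pb Q u w)) • u) = 1 := by
      rw [sub_comb, f.norm a ha.1, qu, hau]; simp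
    obtain ⟨x, hx, k, hk, ex⟩ := f.exists_rep qx
    refine ⟨x, hsat a hCa x hx k (k * -(pb Q w (φ a) * pb Q u w)) (by rw [ex, smul_add, smul_smul]), ?_⟩
    rw [RC.rep_form f hk ex, map_add, map_smul, smul_eq_mul, pb_symm Q w u, neg_mul, mul_assoc, sq_one _ hw, mul_one,
      add_neg_cancel]
  have hTu : ∀ t ∈ tri D d c, pb Q u (φ t) = 0 := by
    intro t ht
    by_contra hne
    obtain ⟨x, hxC, hwx⟩ := hlift (φ t) (f.norm t ht.1) hne
    have htx : t ≠ x := fun e => by rw [← e, f.self_form ht.1] at hwx; exact absurd hwx (by decide)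
    exact hne ((hxC.2.2.2.2 t ht.1 htx ((f.com_iff hSd hxC.1.1 ht.1 htx.symm).2 (by rw [pb_symm]; exact hwx))).1 ht)
  have hall : ∀ t ∈ tri D d c, Cs t := by
    intro t ht
    obtain ⟨v, hv0, qv, htv, hMt⟩ := refl_local h hloc hn hd hc hdc ht f
    have htu := hTu t ht
    obtain ⟨k, hk⟩ := det_point_perp hQ hn (f.norm t ht.1) qv hv0 htv qu (by rw [pb_symm]; exact htu)
      fun y qy hty hvy => by
        obtain ⟨Y, hY, s, hs, eY⟩ := f.exists_rep qy
        have hYt : Y ≠ t := fun e => by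
          have := (RC.rep_form f hs eY (φ t)).2 hty
          rw [e, f.self_form ht.1] at this; exact absurd this (by decide)
        exact (RC.rep_form f hs eY u).1 (hTu Y ((hMt Y hY hYt (f.commute_of_form hSd ht.1 hY
          ((RC.rep_form f hs eY (φ t)).2 hty))).2 ((RC.rep_form f hs eY v).2 hvy)))
    have hk0 : k ≠ 0 := fun r => hu0 (by rw [hk, r, zero_smul])
    refine ⟨ht, hu0, qu, by rw [pb_symm]; exact htu, fun y hy hne hty => ?_⟩
    rw [hMt y hy hne hty, hk, map_smul, LinearMap.smul_apply, smul_eq_mul, mul_eq_zero]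
    simp [hk0]
  refine ⟨u, hu0, qu, fun x hx => ⟨hTu x, fun hux => ?_⟩⟩
  by_contra hxT
  have hxu : pb Q (φ x) u = 0 := by rw [pb_symm]; exact hux
  obtain ⟨x', hx', k, hk, ex'⟩ := f.exists_rep (show Q (φ x + u) = 1 by rw [q_add, f.norm x hx, qu, hxu]; decide)
  have hx'T : x' ∉ tri D d c := fun r => hxT (hsat x' (hall x' r) x hx k (-1) (by
    rw [ex', smul_smul, hk, one_smul, neg_one_smul, add_neg_cancel_right])).1
  have hne : x ≠ x' := fun e => hu0 (by
    have h2 := congrArg (pb Q (φ x)) ex'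
    rw [← e, f.self_form hx, map_smul, map_add, f.self_form hx, hxu, add_zero, smul_eq_mul] at h2
    have : k = 1 := mul_right_cancel₀ (by decide : (2 : ZMod 3) ≠ 0) (h2.symm.trans (one_mul _).symm)
    rw [this, one_smul, ← e] at ex'
    exact add_eq_left.1 ex'.symm)
  have key : ∀ y ∈ nb D d, (x * y * x ∈ tri D d c ↔ x' * y * x' ∈ tri D d c) := by
    intro y hy
    have hy1 := hSd.conj x hx y hy
    have hy2 := hSd.conj x' hx' y hy
    have hu' : ∀ z, pb Q u (rvec Q (φ x') z) = pb Q u z ∧ pb Q u (rvec Q (φ x) z) = pb Q u z := fun z => by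
      rw [ex', rvec_scale hk]
      simp only [rvec, map_sub, map_smul, map_add, pb_self, qu, pb_symm Q u (φ x), hxu]
      constructor <;> simp
    by_cases huy : pb Q u (φ y) = 0
    · have hrr : rvec Q (φ x') (φ y) = rvec Q (φ x) (φ y) + (-pb Q (φ x) (φ y)) • u := by
        rw [ex', rvec_scale hk, rvec, rvec, map_add, LinearMap.add_apply, huy, add_zero, smul_add, neg_smul,
          ← sub_eq_add_neg, sub_sub]
      have hs : ∀ p ∈ tri D d c, ∀ q ∈ nb D d, ∀ i j : ZMod 3, φ q = i • φ p + j • u → q ∈ tri D d c :=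
        fun p hp q hq i j e => (hsat p (hall p hp) q hq i j e).1
      rcases f.conj x hx y hy with e | e <;> rcases f.conj x' hx' y hy with e' | e' <;> rw [hrr] at e'
      · exact ⟨fun r => hs _ r _ hy2 1 (-pb Q (φ x) (φ y)) (by rw [e', e]; module),
          fun r => hs _ r _ hy1 1 (pb Q (φ x) (φ y)) (by rw [e', e]; module)⟩
      · exact ⟨fun r => hs _ r _ hy2 (-1) (pb Q (φ x) (φ y)) (by rw [e', e]; module),
          fun r => hs _ r _ hy1 (-1) (pb Q (φ x) (φ y)) (by rw [e', e]; module)⟩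
      · exact ⟨fun r => hs _ r _ hy2 (-1) (-pb Q (φ x) (φ y)) (by rw [e', e]; module),
          fun r => hs _ r _ hy1 (-1) (-pb Q (φ x) (φ y)) (by rw [e', e]; module)⟩
      · exact ⟨fun r => hs _ r _ hy2 1 (pb Q (φ x) (φ y)) (by rw [e', e]; module),
          fun r => hs _ r _ hy1 1 (-pb Q (φ x) (φ y)) (by rw [e', e]; module)⟩
    · refine iff_of_false (fun r => huy ?_) fun r => huy ?_
      · rw [← (hu' (φ y)).2]; exact (f.conj_form hx hy u).1 (hTu _ r)
      · rw [← (hu' (φ y)).1]; exact (f.conj_form hx' hy u).1 (hTu _ r)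
  have heq : tri D d (xx c x') = tri D d (xx c x) := by
    ext y
    by_cases hy : y ∈ nb D d
    swap
    · exact iff_of_false (fun r => hy r.1) fun r => hy r.1
    have hiff : ∀ e ∈ nb D d, (y ∈ tri D d (xx c e) ↔ e * y * e ∈ tri D d c) := fun e he =>
      ⟨fun r => (commute_xx_nb h hd hc hdc he hy).1 r.2.symm,
        fun r => ⟨hy, ((commute_xx_nb h hd hc hdc he hy).2 r).symm⟩⟩
    rw [hiff x hx, hiff x' hx', key y hy]
  rcases refl_tdet h hloc hn d hd (xx c x) (xx_mem h hd hc hdc hx) (xx c x') (xx_mem h hd hc hdc hx')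
    (xx_far_d h hd hc hdc hx) (xx_far_d h hd hc hdc hx') heq with r | r
  · exact hne (xx_injOn h hd hc hdc hx' hx'T hx hxT r).symm
  · rw [← yy_eq_dxd h hd hc hdc hx] at r
    exact xx_ne_yy h hd hc hdc hx' hx'T hx hxT r

end CfsgLib.Fischer
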