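import Cfsg.Agent.Fischer.Component
import Cfsg.Agent.Fischer.ReflTri

/-!
Fischer's theorem: connected sets with reflection neighbourhoods are twin-free and form one class.
-/

set_option autoImplicit false
set_option linter.unusedSectionVars false
set_option linter.style.haveILetI false

namespace CfsgLib.Fischer

open CfsgLib.ThreeT CfsgLib.ThreeT.Prod

universe u

section space

variable {n : ℕ} {Q : QuadraticForm (ZMod 3) (Fin n → ZMod 3)} (hQ : (QuadraticMap.polarBilin Q).Nondegenerate)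
  (hn : 5 ≤ n)
include hQ hn

local notation "V" => (Fin n → ZMod 3)

theorem exists_orth_one {u : V} (qu : Q u = 1) : ∃ w, Q w = 1 ∧ pb Q u w = 0 := by
  obtain ⟨w, hw, qw⟩ := ((nd_top hQ).perp_aniso (s := u) trivial (by rw [qu]; decide)).exists_one (by
    have := finrank_perp Q (⊤ : Submodule (ZMod 3) V) u
    have := finrank_top' (n := n)
    omega)
  exact ⟨w, qw, hw.2⟩

theorem exists_far_one {u : V} (qu : Q u = 1) :
    ∃ v, Q v = 1 ∧ pb Q u v ≠ 0 ∧ v ≠ u ∧ v ≠ -u := by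
  have h0 := nd_top hQ
  have h1 := h0.perp_aniso (s := u) trivial (by rw [qu]; decide)
  have d0 := finrank_perp Q (⊤ : Submodule (ZMod 3) V) u
  have dt := finrank_top' (n := n)
  obtain ⟨w1, hw1, q1⟩ := h1.exists_one (by omega)
  have h2 := h1.perp_aniso hw1 (by rw [q1]; decide)
  have d1 := finrank_perp Q (perp Q ⊤ u) w1
  obtain ⟨w2, hw2, q2⟩ := h2.exists_one (by omega)
  have h3 := h2.perp_aniso hw2 (by rw [q2]; decide)
  have d2 := finrank_perp Q (perp Q (perp Q ⊤ u) w1) w2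
  obtain ⟨w3, hw3, q3⟩ := h3.exists_one (by omega)
  have u1 : pb Q u w1 = 0 := hw1.2
  have u2 : pb Q u w2 = 0 := hw2.1.2
  have u3 : pb Q u w3 = 0 := hw3.1.1.2
  have a2 : pb Q w1 w2 = 0 := hw2.2
  have a3 : pb Q w1 w3 = 0 := hw3.1.2
  have b3 : pb Q w2 w3 = 0 := hw3.2
  have hu : pb Q u (u + w1 + w2 + w3) = 2 := by
    simp only [map_add, pb_self, qu, u1, u2, u3]; decide
  have h1v : pb Q w1 (u + w1 + w2 + w3) = 2 := by
    simp only [map_add, pb_self, q1, pb_symm Q w1 u, u1, a2, a3]; decide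
  refine ⟨u + w1 + w2 + w3, ?_, by rw [hu]; decide, fun e => ?_, fun e => ?_⟩
  · simp only [q_add, qu, q1, q2, q3, map_add, LinearMap.add_apply, u1, u2, u3, a2, a3, b3]; decide
  · rw [e, pb_symm, u1] at h1v; exact absurd h1v (by decide)
  · rw [e, map_neg, pb_symm, u1] at h1v; exact absurd h1v (by decide)

theorem exists_perp_not_perp {u v : V} (qu : Q u = 1) (qv : Q v = 1) (hb : pb Q u v ≠ 0) (h1 : v ≠ u) (h2 : v ≠ -u) :
    ∃ x, Q x = 1 ∧ pb Q u x = 0 ∧ pb Q v x ≠ 0 := by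
  set v' := v + pb Q u v • u with hv'
  have hperp : pb Q u v' = 0 := by
    rw [hv', map_add, map_smul, pb_self, qu, smul_eq_mul]
    generalize pb Q u v = s; revert s; decide
  have qv' : Q v' = 0 := by
    rw [hv', sub_comb, qv, qu, pb_symm Q v u]
    revert hb; generalize pb Q u v = s; revert s; decide
  have hv0 : v' ≠ 0 := by
    intro e
    rw [hv'] at e
    rcases three_cases (pb Q u v) with r | r | r
    · exact hb r
    · rw [r, one_smul] at e; exact h2 (eq_neg_of_add_eq_zero_left e)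
    · rw [r, neg_one_smul, ← sub_eq_add_neg, sub_eq_zero] at e; exact h1 e
  have hZ := (nd_top hQ).perp_aniso (s := u) trivial (by rw [qu]; decide)
  obtain ⟨p, hp, qp, hpv⟩ := hZ.exists_partner (u := v') ⟨trivial, hperp⟩ hv0 qv'
  obtain ⟨x, hx, qx⟩ := (hZ.perp_pair (u := v') (w := p) ⟨trivial, hperp⟩ hp qv' qp hpv).exists_one (by
    have := finrank_pair (Q := Q) (perp Q ⊤ u) v' p
    have := finrank_perp Q (⊤ : Submodule (ZMod 3) V) u
    have := finrank_top' (n := n)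
    omega)
  have hux : pb Q u x = 0 := hx.1.1.2
  have hvx : pb Q v' x = 0 := hx.1.2
  have hpx : pb Q p x = 0 := hx.2
  have hup : pb Q u p = 0 := hp.2
  refine ⟨x + p, ?_, ?_, ?_⟩
  · rw [q_add, qx, qp, pb_symm Q x p, hpx]; decide
  · rw [map_add, hux, hup, add_zero]
  · have e : pb Q v (x + p) = pb Q v' (x + p) := by
      rw [hv', map_add (pb Q), map_smul, LinearMap.add_apply, LinearMap.smul_apply, map_add (pb Q u), hux, hup,
        add_zero, smul_zero, add_zero]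
    rw [e, map_add, hvx, hpv, zero_add]
    decide

theorem exists_far_both {u v : V} (qu : Q u = 1) (qv : Q v = 1) (huv : pb Q u v = 0) :
    ∃ x, Q x = 1 ∧ pb Q u x ≠ 0 ∧ pb Q v x ≠ 0 := by
  have h1 := ((nd_top hQ).perp_aniso (s := u) trivial (by rw [qu]; decide)).perp_aniso (s := v) ⟨trivial, huv⟩
    (by rw [qv]; decide)
  have d0 := finrank_perp Q (⊤ : Submodule (ZMod 3) V) u
  have d1 := finrank_perp Q (perp Q ⊤ u) v
  have dt := finrank_top' (n := n)
  obtain ⟨w1, hw1, q1⟩ := h1.exists_one (by omega)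
  have h2 := h1.perp_aniso hw1 (by rw [q1]; decide)
  have d2 := finrank_perp Q (perp Q (perp Q ⊤ u) v) w1
  obtain ⟨w2, hw2, q2⟩ := h2.exists_one (by omega)
  have u1 : pb Q u w1 = 0 := hw1.1.2
  have v1 : pb Q v w1 = 0 := hw1.2
  have u2 : pb Q u w2 = 0 := hw2.1.1.2
  have v2 : pb Q v w2 = 0 := hw2.1.2
  have a2 : pb Q w1 w2 = 0 := hw2.2
  refine ⟨u + v + w1 + w2, ?_, ?_, ?_⟩
  · simp only [q_add, qu, qv, q1, q2, map_add, LinearMap.add_apply, huv, u1, v1, u2, v2, a2]; decide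
  · simp only [map_add, pb_self, qu, huv, u1, u2]; decide
  · simp only [map_add, pb_self, qv, pb_symm Q v u, huv, v1, v2]; decide

end space

variable {G : Type u} [Group G] {S : Set G} {n : ℕ}

theorem RC.ne_vec {Q : QuadraticForm (ZMod 3) (Fin n → ZMod 3)} {φ : G → Fin n → ZMod 3} (f : RC S Q φ) {x y : G}
    (hx : x ∈ S) (hy : y ∈ S) (hne : x ≠ y) : φ y ≠ φ x ∧ φ y ≠ -φ x :=
  ⟨fun e => hne (f.inj y hy x hx (Or.inl e)).symm, fun e => hne (f.inj y hy x hx (Or.inr e)).symm⟩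

theorem rco_nonempty (hn : 5 ≤ n) {μ : ZMod 3} (h : RCo S n μ) : S.Nonempty := by
  obtain ⟨Q, hQ, -, φ, f⟩ := h
  obtain ⟨v, -, qv⟩ := (nd_top hQ).exists_one (by
    have := finrank_top' (n := n)
    omega)
  obtain ⟨x, hx, -⟩ := f.surj v qv
  exact ⟨x, hx⟩

/-- Connected sets with reflection neighbourhoods are twin-free and form one class. -/
theorem refl_good (hS : Closed S) (hconn : Conn S) (hne : S.Nonempty) (hn : 5 ≤ n) {μ : ZMod 3}
    (hloc : ∀ x ∈ S, RCo (nb S x) n μ) : NoTwins S ∧ OneClass S ∧ Edge S := by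
  refine ⟨⟨fun a ha b hb hab => ?_, fun a ha b hb hab => ?_⟩, ?_, ?_⟩
  · by_contra hne
    have hc : Commute a b := (hab b hb).2 (Commute.refl b)
    obtain ⟨Q, hQ, -, φ, f⟩ := hloc a ha
    have hb' : b ∈ nb S a := ⟨hb, Ne.symm hne, hc⟩
    obtain ⟨v, qv, hbv, hv1, hv2⟩ := exists_far_one hQ hn (f.norm b hb')
    obtain ⟨z, hz, k, hk, ez⟩ := f.exists_rep qv
    have hbz : b ≠ z := fun e => by
      subst e
      rcases three_cases k with r | r | r
      · rw [r, mul_zero] at hk; exact absurd hk (by decide)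
      · rw [r, one_smul] at ez; exact hv1 ez.symm
      · rw [r, neg_one_smul] at ez; exact hv2 (by rw [ez, neg_neg])
    exact hbv ((RC.rep_form f hk ez (φ b)).1 ((f.com_iff (hS.nb a) hb' hz hbz).1 ((hab z hz.1).1 hz.2.2)))
  · by_contra hne
    have hc : ¬ Commute a b := fun q => by
      have : b ∈ nb S b := hab ▸ (⟨hb, Ne.symm hne, q⟩ : b ∈ nb S a)
      exact this.2.1 rfl
    obtain ⟨z, hz⟩ := rco_nonempty hn (hloc a ha)
    have hz' : z ∈ nb S b := hab ▸ hz
    obtain ⟨Q, hQ, -, φ, f⟩ := hloc z hz.1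
    have ha' : a ∈ nb S z := ⟨ha, hz.2.1.symm, hz.2.2.symm⟩
    have hb' : b ∈ nb S z := ⟨hb, hz'.2.1.symm, hz'.2.2.symm⟩
    obtain ⟨h1, h2⟩ := f.ne_vec ha' hb' hne
    obtain ⟨x, qx, hax, hbx⟩ := exists_perp_not_perp hQ hn (f.norm a ha') (f.norm b hb')
      (fun e => hc ((f.com_iff (hS.nb z) ha' hb' hne).2 e)) h1 h2
    obtain ⟨w, hw, k, hk, ew⟩ := f.exists_rep qx
    have hwa : w ∈ nb S a := by
      refine ⟨hw.1, fun e => ?_, f.commute_of_form (hS.nb z) ha' hw ((RC.rep_form f hk ew (φ a)).2 hax)⟩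
      have := (RC.rep_form f hk ew (φ a)).2 hax
      rw [e, f.self_form ha'] at this
      exact absurd this (by decide)
    have hwb : w ∈ nb S b := hab ▸ hwa
    exact hbx ((RC.rep_form f hk ew (φ b)).1 ((f.com_iff (hS.nb z) hb' hw hwb.2.1.symm).1 hwb.2.2))
  · refine oneClass_of hS hconn fun x hx y hy hne hxy => ?_
    obtain ⟨Q, hQ, -, φ, f⟩ := hloc x hx
    have hy' : y ∈ nb S x := ⟨hy, hne.symm, hxy⟩
    obtain ⟨v, qv, hyv⟩ := exists_orth_one hQ hn (f.norm y hy')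
    obtain ⟨w, hw, k, hk, ew⟩ := f.exists_rep qv
    have hwy : Commute w y := f.commute_of_form (hS.nb x) hw hy' (by
      rw [pb_symm]; exact (RC.rep_form f hk ew (φ y)).2 hyv)
    have hwy' : w ≠ y := fun e => by
      have := (RC.rep_form f hk ew (φ y)).2 hyv
      rw [e, f.self_form hy'] at this
      exact absurd this (by decide)
    obtain ⟨Q', hQ', -, ψ, g⟩ := hloc w hw.1
    have hxw : x ∈ nb S w := ⟨hx, hw.2.1.symm, hw.2.2.symm⟩
    have hyw : y ∈ nb S w := ⟨hy, hwy'.symm, hwy⟩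
    obtain ⟨s, qs, h1, h2⟩ := exists_far_both hQ' hn (g.norm x hxw) (g.norm y hyw)
      ((g.com_iff (hS.nb w) hxw hyw hne).1 hxy)
    obtain ⟨r, hr, l, hl, er⟩ := g.exists_rep qs
    have hxy0 := (g.com_iff (hS.nb w) hxw hyw hne).1 hxy
    refine ⟨r, hr.1, fun c => ?_, fun c => ?_⟩
    · by_cases e : x = r
      · exact h2 ((RC.rep_form g hl er (ψ y)).1 (by rw [← e, pb_symm]; exact hxy0))
      · exact h1 ((RC.rep_form g hl er (ψ x)).1 ((g.com_iff (hS.nb w) hxw hr e).1 c))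
    · by_cases e : y = r
      · exact h1 ((RC.rep_form g hl er (ψ x)).1 (by rw [← e]; exact hxy0))
      · exact h2 ((RC.rep_form g hl er (ψ y)).1 ((g.com_iff (hS.nb w) hyw hr e).1 c))
  · obtain ⟨a, ha⟩ := hne
    obtain ⟨b, hb⟩ := rco_nonempty hn (hloc a ha)
    exact ⟨a, ha, b, hb.1, hb.2.1.symm, hb.2.2⟩

/-- The component of a member in a closed set with reflection neighbourhoods. -/
theorem refl_component [Finite G] (hS : Closed S) (hn : 5 ≤ n) {μ : ZMod 3} (hloc : ∀ x ∈ S, RCo (nb S x) n μ) {a : G}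
    (ha : a ∈ S) :
    NoTwins (comp S a) ∧ Fi (qimg (comp S a)) ∧
      ∀ x ∈ qimg (comp S a), RCo (nb (qimg (comp S a)) x) n μ := by
  set C := comp S a
  have hC : Closed C := comp_closed hS a
  have hl : ∀ x ∈ C, RCo (nb C x) n μ := fun x hx => by
    rw [comp_nb hx]
    exact hloc x hx.1
  obtain ⟨htw, hcl, he⟩ := refl_good hC (comp_conn a) ⟨a, mem_comp_self ha⟩ hn hl
  refine ⟨htw, fi_quot hC htw (comp_conn a) hcl he, fun x hx => ?_⟩
  obtain ⟨ψ, g, -⟩ := (SIso.qmap hC htw).symm hC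
  exact (hl _ (g.bij.mapsTo hx)).comp (g.nb hx)

end CfsgLib.Fischer
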