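import Cfsg.Agent.Fischer.Pair

/-!
Fischer's theorem: neighbourhoods with central cores satisfy the hypothesis again.
-/

set_option autoImplicit false
set_option linter.unusedSectionVars false
set_option linter.style.haveILetI false

namespace CfsgLib.Fischer

open CfsgLib.ThreeT CfsgLib.ThreeT.Prod
open scoped commutatorElement

universe u v

variable {G : Type u} [Group G]

/-- An isomorphism of closed sets. -/
structure SIso {H : Type v} [Group H] (S : Set G) (S' : Set H) (φ : G → H) : Prop where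
  bij : Set.BijOn φ S S'
  com : ∀ x ∈ S, ∀ y ∈ S, (Commute (φ x) (φ y) ↔ Commute x y)
  conj : ∀ x ∈ S, ∀ y ∈ S, φ (x * y * x) = φ x * φ y * φ x

theorem SIso.qmap {S : Set G} (hS : Closed S) (htw : NoTwins S) : SIso S (qimg S) (Fischer.qmap S) :=
  ⟨qmap_bijOn hS htw, fun _ hx _ hy => qmap_commute hS htw hx hy, fun _ hx _ hy => qmap_conj hS hx hy⟩

theorem SIso.conjugate (S : Set G) (g : G) :
    SIso S ((fun z => g * z * g⁻¹) '' S) (fun z => g * z * g⁻¹) :=
  ⟨Set.InjOn.bijOn_image fun _ _ _ _ e => mul_left_cancel (mul_right_cancel e),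
    fun x _ y _ => commute_conj_iff g x y, fun x _ y _ => by group⟩

theorem SIso.nb {H : Type v} [Group H] {S : Set G} {S' : Set H} {φ : G → H} (f : SIso S S' φ) {a : G} (ha : a ∈ S) :
    SIso (Prod.nb S a) (Prod.nb S' (φ a)) φ := by
  refine ⟨⟨fun y hy => ⟨f.bij.mapsTo hy.1, fun e => hy.2.1 (f.bij.injOn hy.1 ha e),
    (f.com a ha y hy.1).2 hy.2.2⟩, f.bij.injOn.mono fun y hy => hy.1, ?_⟩,
    fun x hx y hy => f.com x hx.1 y hy.1, fun x hx y hy => f.conj x hx.1 y hy.1⟩
  intro z hz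
  obtain ⟨y, hy, rfl⟩ := f.bij.surjOn hz.1
  exact ⟨y, ⟨hy, fun e => hz.2.1 (by rw [e]), (f.com a ha y hy).1 hz.2.2⟩, rfl⟩

theorem SIso.tri {H : Type v} [Group H] {S : Set G} {S' : Set H} {φ : G → H} (f : SIso S S' φ) {a c : G}
    (ha : a ∈ S) (hc : c ∈ S) : SIso (Prod.tri S a c) (Prod.tri S' (φ a) (φ c)) φ := by
  refine ⟨⟨fun y hy => ⟨(f.nb ha).bij.mapsTo hy.1, (f.com y hy.1.1 c hc).2 hy.2⟩,
    f.bij.injOn.mono fun y hy => hy.1.1, ?_⟩,
    fun x hx y hy => f.com x hx.1.1 y hy.1.1, fun x hx y hy => f.conj x hx.1.1 y hy.1.1⟩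
  intro z hz
  obtain ⟨y, hy, rfl⟩ := (f.nb ha).bij.surjOn hz.1
  exact ⟨y, ⟨hy, (f.com y hy.1 c hc).1 hz.2⟩, rfl⟩

theorem SIso.symm_noTwins {H : Type v} [Group H] {S : Set G} {S' : Set H} {φ : G → H} (f : SIso S S' φ)
    (hn : NoTwins S) : NoTwins S' := by
  constructor
  · intro a ha b hb hab
    obtain ⟨x, hx, rfl⟩ := f.bij.surjOn ha
    obtain ⟨y, hy, rfl⟩ := f.bij.surjOn hb
    refine congrArg φ (hn.near x hx y hy fun z hz => ?_)
    rw [← f.com x hx z hz, ← f.com y hy z hz]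
    exact hab _ (f.bij.mapsTo hz)
  · intro a ha b hb hab
    obtain ⟨x, hx, rfl⟩ := f.bij.surjOn ha
    obtain ⟨y, hy, rfl⟩ := f.bij.surjOn hb
    refine congrArg φ (hn.far x hx y hy (Set.ext fun z => ?_))
    constructor
    · intro hz
      have h1 : φ z ∈ Prod.nb S' (φ y) := hab ▸ (f.nb hx).bij.mapsTo hz
      exact ⟨hz.1, fun e => h1.2.1 (by rw [e]), (f.com y hy z hz.1).1 h1.2.2⟩
    · intro hz
      have h1 : φ z ∈ Prod.nb S' (φ x) := hab.symm ▸ (f.nb hy).bij.mapsTo hz
      exact ⟨hz.1, fun e => h1.2.1 (by rw [e]), (f.com x hx z hz.1).1 h1.2.2⟩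

theorem SIso.edge {H : Type v} [Group H] {S : Set G} {S' : Set H} {φ : G → H} (f : SIso S S' φ) (he : Edge S) :
    Edge S' :=
  let ⟨a, ha, b, hb, hne, hc⟩ := he
  ⟨φ a, f.bij.mapsTo ha, φ b, f.bij.mapsTo hb, fun e => hne (f.bij.injOn ha hb e), (f.com a ha b hb).2 hc⟩

namespace Fi

variable [Finite G] {D : Set G} (h : Fi D)
include h

/-- Conjugation carries neighbourhoods to neighbourhoods. -/
theorem nb_siso {a b : G} (ha : a ∈ D) (hb : b ∈ D) : ∃ φ : G → G, SIso (nb D a) (nb D b) φ := by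
  obtain ⟨g, rfl⟩ := exists_conj h.cls ha hb
  have e : nb D (g * a * g⁻¹) = (fun z => g * z * g⁻¹) '' nb D a := others_conj h.cls g a
  exact ⟨_, e ▸ SIso.conjugate _ g⟩

/-- With twin-free neighbourhoods having an edge, the neighbourhoods are connected. -/
theorem nb_conn {d : G} (hd : d ∈ D) (htw : NoTwins (nb D d)) (he : Edge (nb D d)) : Conn (nb D d) := by
  intro b hb c hc
  by_contra hbc
  have hncbc : ¬ Commute b c := fun q => hbc (Link.of_commute hb hc q)
  have hd' : d ∈ tri D b c := ⟨⟨hd, hb.2.1.symm, hb.2.2.symm⟩, hc.2.2⟩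
  have hiso : ∀ f ∈ tri D b c, f ≠ d → ¬ Commute f d := fun f hf hne q => hbc
    ((Link.of_commute hb ⟨hf.1.1, hne, q.symm⟩ hf.1.2.2).trans
      (Link.of_commute ⟨hf.1.1, hne, q.symm⟩ hc hf.2))
  have hall : ∀ f ∈ tri D b c, ∀ f' ∈ tri D b c, f ≠ f' → ¬ Commute f f' := by
    intro f hf f' hf' hne q
    by_cases ef : f = d
    · subst ef; exact hiso f' hf' (Ne.symm hne) q.symm
    have hfd := hiso f hf ef
    have hfix : ∀ x, Commute (d * f) x → (d * f) * x * (d * f)⁻¹ = x := fun x hx => by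
      rw [hx.eq, mul_inv_cancel_right]
    have hb' : Commute (d * f) b := hd'.1.2.2.symm.mul_left hf.1.2.2.symm
    have hc' : Commute (d * f) c := hd'.2.mul_left hf.2
    have hdf : (d * f) * d * (d * f)⁻¹ = f := by
      rw [mul_inv_rev, h.closed.inv hd, h.closed.inv hf.1.1]
      calc d * f * d * (f * d) = (d * f * d) * f * d := by group
        _ = (f * d * f) * f * d := by rw [h.closed.braid hd hf.1.1 fun r => hfd r.symm]
        _ = f := by rw [h.closed.cancel_right hf.1.1, h.closed.cancel_right hd]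
    set u := (d * f)⁻¹ * f' * (d * f) with hu
    have hfu : (d * f) * u * (d * f)⁻¹ = f' := by rw [hu]; group
    have hu' : u ∈ tri D b c := by
      refine ⟨⟨by simpa [hu] using h.mem hf'.1.1 (d * f)⁻¹, fun e => hf'.1.2.1 ?_, ?_⟩, ?_⟩
      · rw [← hfu, e, hfix b hb']
      · rw [← commute_conj_iff (d * f), hfu, hfix b hb']; exact hf'.1.2.2
      · rw [← commute_conj_iff (d * f), hfu, hfix c hc']; exact hf'.2
    have hne' : u ≠ d := fun e => hne (by rw [← hfu, e, hdf])
    refine hiso u hu' hne' ?_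
    rw [← commute_conj_iff (d * f), hfu, hdf]
    exact q.symm
  obtain ⟨p, hp, q, hq, hpq, hcpq⟩ := he
  refine hpq (htw.near p hp q hq fun f hf => ?_)
  have key : ∀ p ∈ nb D d, ∀ q ∈ nb D d, p ≠ q → Commute p q → Commute p f → Commute q f := by
    intro p hp q hq hne hc' hpf
    by_contra hqf
    obtain ⟨g, gb, gc⟩ := h.conj_pair hq.1 hf.1 hqf hb.1 hc.1 hncbc
    have hmem : ∀ x, x ∈ tri D q f → g * x * g⁻¹ ∈ tri D b c := fun x hx =>
      ⟨⟨h.mem hx.1.1 g, fun e => hx.1.2.1 (by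
        rw [← gb] at e
        exact mul_left_cancel (mul_right_cancel e)), gb ▸ (commute_conj_iff g _ _).2 hx.1.2.2⟩,
        gc ▸ (commute_conj_iff g _ _).2 hx.2⟩
    have h1 : d ∈ tri D q f := ⟨⟨hd, hq.2.1.symm, hq.2.2.symm⟩, hf.2.2⟩
    have h2 : p ∈ tri D q f := ⟨⟨hp.1, hne, hc'.symm⟩, hpf⟩
    exact hall _ (hmem d h1) _ (hmem p h2) (fun e => hp.2.1 (mul_left_cancel (mul_right_cancel e)).symm)
      ((commute_conj_iff g _ _).2 hp.2.2)
  exact ⟨key p hp q hq hpq hcpq, key q hq p hp hpq.symm hcpq.symm⟩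

theorem perf : ⁅commutator G, commutator G⁆ = commutator G := by
  haveI := h.simple
  rcases (inferInstance : IsSimpleGroup (commutator G)).eq_bot_or_eq_top_of_normal (commutator (commutator G))
    inferInstance with e | e
  · exfalso
    haveI hc : Group.IsSolvable (commutator G) := Group.isSolvable_of_comm fun a b => by
      have h1 : ⁅a, b⁆ ∈ commutator (commutator G) := Subgroup.commutator_mem_commutator (Subgroup.mem_top a) (Subgroup.mem_top b)
      rw [e, Subgroup.mem_bot, commutatorElement_eq_one_iff_mul_comm] at h1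
      exact h1
    have hbot := h.sol (commutator G) inferInstance hc
    obtain ⟨a, ha, -⟩ := h.width
    refine ne_one_of_orderOf (h.cls.1.1 a ha) (Subgroup.mem_bot.1 (h.center ▸ Subgroup.mem_center_iff.2 fun g => ?_))
    have h2 : ⁅g, a⁆ ∈ commutator G := Subgroup.commutator_mem_commutator (Subgroup.mem_top g) (Subgroup.mem_top a)
    rw [hbot, Subgroup.mem_bot, commutatorElement_eq_one_iff_mul_comm] at h2
    exact h2
  · have := congrArg (Subgroup.map (commutator G).subtype) e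
    rwa [Subgroup.map_subtype_commutator, ← MonoidHom.range_eq_map, Subgroup.range_subtype] at this

/-- The neighbourhood as a class of its group. -/
theorem hclass {d : G} (hd : d ∈ D) :
    Cfsg.IsThreeTranspositionClass {z : ↥(Subgroup.closure (nb D d)) | (z : G) ∈ nb D d} := by
  obtain ⟨b, hb⟩ := h.exists_near hd
  refine ⟨⟨fun z hz => (Subgroup.orderOf_coe z).symm.trans (h.cls.1.1 _ hz.1), fun u hu v hv =>
    (h.cls.1.2 _ hu.1 _ hv.1).imp (fun e => Subtype.ext e) fun e => Subtype.ext e⟩,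
    ⟨⟨b, Subgroup.subset_closure hb⟩, hb, Set.ext fun e => ⟨fun he => ?_, fun he => ?_⟩⟩,
    Subgroup.closure_closure_coe_preimage⟩
  · obtain ⟨g, hg, hge⟩ := h.conj_near hd hb he
    exact isConj_iff.2 ⟨⟨g, hg⟩, Subtype.ext hge⟩
  · obtain ⟨g, rfl⟩ := isConj_iff.1
      (show IsConj (⟨b, Subgroup.subset_closure hb⟩ : ↥(Subgroup.closure (nb D d))) e from he)
    exact (h.nb_closed d).conj_mem g.2 b hb

/-- Central cores of a neighbourhood make it twin-free with an edge. -/
theorem nb_good {d : G} (hd : d ∈ D)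
    (h2 : Cfsg.pCore 2 ↥(Subgroup.closure (nb D d)) ≤ Subgroup.center ↥(Subgroup.closure (nb D d)))
    (ho : Cfsg.oddCore ↥(Subgroup.closure (nb D d)) ≤ Subgroup.center ↥(Subgroup.closure (nb D d))) :
    NoTwins (nb D d) ∧ Edge (nb D d) := by
  classical
  have hsolv : ¬ Group.IsSolvable ↥(Subgroup.closure (nb D d)) := fun hs =>
    CfsgLib.ThreeT.SolvableLocal.false_of_central h.cls h.sol h.perf hd hs h2 ho
  have h3 : Cfsg.pCore 3 ↥(Subgroup.closure (nb D d)) ≤ Subgroup.center ↥(Subgroup.closure (nb D d)) := by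
    haveI : Fact (Nat.Prime 3) := ⟨by norm_num⟩
    refine le_trans (CfsgLib.Solvable.le_pPrimeCore 2 (CfsgLib.Solvable.pCore_normal _) ?_) ho
    obtain ⟨k, hk⟩ := IsPGroup.iff_card.mp
      (CfsgLib.Solvable.isPGroup_pCore (G := ↥(Subgroup.closure (nb D d))) 3)
    rw [hk]
    exact ((Nat.coprime_primes (by norm_num : Nat.Prime 3) Nat.prime_two).mpr (by norm_num)).pow_left k
  set H := Subgroup.closure (nb D d)
  have hcl := h.hclass hd
  have hnc : ∀ a ∈ nb D d, ¬ ∀ z ∈ nb D d, Commute a z := by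
    intro a ha hall
    refine hsolv (Group.isSolvable_of_comm fun x y => Subtype.ext ?_)
    have hall' : ∀ b ∈ nb D d, ∀ z ∈ nb D d, Commute b z := by
      intro b hb z hz
      obtain ⟨g, hg, rfl⟩ := h.conj_near hd ha hb
      have hga : Commute g a := Prod.commute_of_closure (fun y hy => (hall y hy).symm) g hg
      rw [hga.eq, mul_inv_cancel_right]
      exact hall z hz
    exact (Prod.commute_of_closure (S := nb D d) (fun v hv =>
      (Prod.commute_of_closure (fun w hw => hall' w hw v hv) (y : G) y.2).symm) (x : G) x.2).eq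
  refine ⟨⟨fun a ha b hb hab => ?_, fun a ha b hb hab => ?_⟩, ?_⟩
  · by_contra hne
    set a' : ↥H := ⟨a, Subgroup.subset_closure ha⟩
    set b' : ↥H := ⟨b, Subgroup.subset_closure hb⟩
    have hm := mul_mem_two_core hcl (show a' ∈ {z : ↥H | (z : G) ∈ nb D d} from ha)
      (show b' ∈ {z : ↥H | (z : G) ∈ nb D d} from hb) (fun e he => by
        constructor <;> intro q
        · exact Subtype.ext ((hab e he).2 (q.map H.subtype)).eq
        · exact Subtype.ext ((hab e he).1 (q.map H.subtype)).eq)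
    have hab' : Commute a b := ((hab b hb).2 (Commute.refl b))
    refine hnc a ha fun z hz => ?_
    have hz' : Commute (a * b) z :=
      (congrArg Subtype.val (Subgroup.mem_center_iff.1 (h2 hm) ⟨z, Subgroup.subset_closure hz⟩)).symm
    exact ((commute_mul_iff h.cls.1 ha.1 hb.1 hz.1 hab' hne).1 hz').1
  · by_contra hne
    set a' : ↥H := ⟨a, Subgroup.subset_closure ha⟩
    set b' : ↥H := ⟨b, Subgroup.subset_closure hb⟩
    have hm := mul_mem_three_core hcl (show a' ∈ {z : ↥H | (z : G) ∈ nb D d} from ha)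
      (show b' ∈ {z : ↥H | (z : G) ∈ nb D d} from hb) (Set.ext fun z => by
        have := Set.ext_iff.1 hab (z : G)
        constructor
        · rintro ⟨hz, hza, hc⟩
          obtain ⟨-, h1, h2⟩ := this.1 ⟨hz, fun e => hza (Subtype.ext e), hc.map H.subtype⟩
          exact ⟨hz, fun e => h1 (congrArg Subtype.val e), Subtype.ext h2.eq⟩
        · rintro ⟨hz, hza, hc⟩
          obtain ⟨-, h1, h2⟩ := this.2 ⟨hz, fun e => hza (Subtype.ext e), hc.map H.subtype⟩
          exact ⟨hz, fun e => h1 (congrArg Subtype.val e), Subtype.ext h2.eq⟩)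
    have hza : Commute (a * b) a :=
      (congrArg Subtype.val (Subgroup.mem_center_iff.1 (h3 hm) a')).symm
    have hab' : Commute a b := by
      have e : a * b * a = a * (a * b) := hza.eq
      rw [h.closed.cancel ha.1] at e
      exact (h.closed.fix_iff ha.1 b).1 e
    exact ((Set.ext_iff.1 hab b).1 ⟨hb, Ne.symm hne, hab'⟩).2.1 rfl
  · by_contra hno
    refine hsolv (isSolvable_of_no_commuting hcl fun x y hxy hc => hno ?_)
    exact ⟨_, x.2, _, y.2, fun e => hxy (Subtype.ext (Subtype.ext e)), hc.map H.subtype⟩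

/-- The hypothesis passes to the neighbourhood. -/
theorem local_fi {d : G} (hd : d ∈ D)
    (h2 : Cfsg.pCore 2 ↥(Subgroup.closure (nb D d)) ≤ Subgroup.center ↥(Subgroup.closure (nb D d)))
    (ho : Cfsg.oddCore ↥(Subgroup.closure (nb D d)) ≤ Subgroup.center ↥(Subgroup.closure (nb D d))) :
    NoTwins (nb D d) ∧ Fi (qimg (nb D d)) := by
  obtain ⟨htw, he⟩ := h.nb_good hd h2 ho
  exact ⟨htw, fi_quot (h.nb_closed d) htw (h.nb_conn hd htw he) (h.nb_oneClass hd) he⟩

/-- Subgroups fixing a member are proper, so their quotients are smaller. -/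
theorem card_lt {d : G} (hd : d ∈ D) {S : Set G} (hS : ∀ y ∈ S, Commute y d) :
    Nat.card (QG S) < Nat.card G := by
  refine lt_of_le_of_lt (Nat.le_of_dvd Nat.card_pos (Subgroup.card_quotient_dvd_card _)) ?_
  refine lt_of_le_of_ne (Nat.le_of_dvd Nat.card_pos (Subgroup.card_subgroup_dvd_card _)) fun e => ?_
  have htop := Subgroup.eq_top_of_card_eq _ e
  refine ne_one_of_orderOf (h.cls.1.1 d hd) (Subgroup.mem_bot.1 (h.center ▸ Subgroup.mem_center_iff.2 fun g => ?_))
  exact (Prod.commute_of_closure hS g (htop ▸ Subgroup.mem_top g)).eq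

end Fi

end CfsgLib.Fischer
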