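import Mathlib.Data.ZMod.Basic
import Mathlib.Data.Fin.VecNotation

/-!
Tables: orthogonal spaces of dimension six over two elements, as eight letters and as five-dimensional
orthogonal space over three elements.
-/

set_option autoImplicit false

namespace CfsgLib.Fischer.O6

/-- The non-singular vectors of the hyperbolic space. -/
def pvec : Fin 28 → Fin 6 → ZMod 2 :=
  ![![0, 0, 1, 0, 0, 1], ![0, 1, 0, 0, 1, 1], ![0, 1, 1, 1, 1, 0],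
    ![1, 0, 0, 1, 1, 1], ![1, 0, 1, 1, 0, 0], ![1, 1, 0, 1, 0, 1],
    ![1, 1, 1, 0, 1, 0], ![0, 1, 1, 0, 1, 0], ![0, 1, 0, 1, 1, 1],
    ![1, 0, 1, 1, 1, 0], ![1, 0, 0, 1, 0, 1], ![1, 1, 1, 1, 0, 0],
    ![1, 1, 0, 0, 1, 1], ![0, 0, 1, 1, 0, 1], ![1, 1, 0, 1, 0, 0],
    ![1, 1, 1, 1, 1, 1], ![1, 0, 0, 1, 1, 0], ![1, 0, 1, 0, 0, 1],
    ![1, 1, 1, 0, 0, 1], ![1, 1, 0, 0, 1, 0], ![1, 0, 1, 0, 1, 1],
    ![1, 0, 0, 1, 0, 0], ![0, 0, 1, 0, 1, 1], ![0, 1, 0, 0, 1, 0],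
    ![0, 1, 1, 1, 0, 1], ![0, 1, 1, 0, 0, 1], ![0, 1, 0, 1, 1, 0],
    ![0, 0, 1, 1, 1, 1]]

/-- The corresponding pairs of eight letters. -/
def pedge : Fin 28 → Fin 8 → ZMod 2 :=
  ![![1, 1, 0, 0, 0, 0, 0, 0], ![1, 0, 1, 0, 0, 0, 0, 0], ![1, 0, 0, 1, 0, 0, 0, 0],
    ![1, 0, 0, 0, 1, 0, 0, 0], ![1, 0, 0, 0, 0, 1, 0, 0], ![1, 0, 0, 0, 0, 0, 1, 0],
    ![1, 0, 0, 0, 0, 0, 0, 1], ![0, 1, 1, 0, 0, 0, 0, 0], ![0, 1, 0, 1, 0, 0, 0, 0],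
    ![0, 1, 0, 0, 1, 0, 0, 0], ![0, 1, 0, 0, 0, 1, 0, 0], ![0, 1, 0, 0, 0, 0, 1, 0],
    ![0, 1, 0, 0, 0, 0, 0, 1], ![0, 0, 1, 1, 0, 0, 0, 0], ![0, 0, 1, 0, 1, 0, 0, 0],
    ![0, 0, 1, 0, 0, 1, 0, 0], ![0, 0, 1, 0, 0, 0, 1, 0], ![0, 0, 1, 0, 0, 0, 0, 1],
    ![0, 0, 0, 1, 1, 0, 0, 0], ![0, 0, 0, 1, 0, 1, 0, 0], ![0, 0, 0, 1, 0, 0, 1, 0],
    ![0, 0, 0, 1, 0, 0, 0, 1], ![0, 0, 0, 0, 1, 1, 0, 0], ![0, 0, 0, 0, 1, 0, 1, 0],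
    ![0, 0, 0, 0, 1, 0, 0, 1], ![0, 0, 0, 0, 0, 1, 1, 0], ![0, 0, 0, 0, 0, 1, 0, 1],
    ![0, 0, 0, 0, 0, 0, 1, 1]]

/-- The non-singular vectors of the elliptic space. -/
def mvec : Fin 36 → Fin 6 → ZMod 2 :=
  ![![0, 0, 0, 1, 0, 0], ![0, 0, 0, 1, 0, 1], ![0, 0, 0, 1, 1, 0],
    ![0, 0, 0, 1, 1, 1], ![0, 0, 1, 0, 0, 1], ![0, 0, 1, 0, 1, 1],
    ![0, 0, 1, 1, 0, 0], ![0, 0, 1, 1, 1, 0], ![0, 1, 0, 0, 1, 0],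
    ![0, 1, 0, 0, 1, 1], ![0, 1, 0, 1, 0, 0], ![0, 1, 0, 1, 0, 1],
    ![0, 1, 1, 0, 0, 1], ![0, 1, 1, 0, 1, 0], ![0, 1, 1, 1, 0, 0],
    ![0, 1, 1, 1, 1, 1], ![1, 0, 0, 0, 0, 0], ![1, 0, 0, 0, 0, 1],
    ![1, 0, 0, 0, 1, 0], ![1, 0, 0, 0, 1, 1], ![1, 0, 0, 1, 0, 0],
    ![1, 0, 0, 1, 0, 1], ![1, 0, 0, 1, 1, 0], ![1, 0, 0, 1, 1, 1],
    ![1, 0, 1, 0, 0, 0], ![1, 0, 1, 0, 1, 0], ![1, 0, 1, 1, 0, 0],
    ![1, 0, 1, 1, 1, 0], ![1, 1, 0, 0, 0, 0], ![1, 1, 0, 0, 0, 1],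
    ![1, 1, 0, 1, 0, 0], ![1, 1, 0, 1, 0, 1], ![1, 1, 1, 0, 0, 0],
    ![1, 1, 1, 0, 1, 1], ![1, 1, 1, 1, 0, 0], ![1, 1, 1, 1, 1, 1]]

/-- The corresponding points of norm one. -/
def mpts : Fin 36 → Fin 5 → ZMod 3 :=
  ![![0, 0, 0, 1, 1], ![0, 0, 0, 1, 2], ![0, 1, 1, 0, 0],
    ![0, 1, 2, 0, 0], ![1, 1, 2, 1, 2], ![1, 2, 1, 2, 1],
    ![1, 1, 2, 2, 1], ![1, 2, 1, 1, 2], ![1, 0, 1, 0, 0],
    ![1, 0, 2, 0, 0], ![1, 2, 0, 0, 0], ![1, 1, 0, 0, 0],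
    ![1, 1, 1, 1, 2], ![1, 2, 2, 2, 1], ![1, 1, 1, 2, 1],
    ![1, 2, 2, 1, 2], ![0, 1, 0, 0, 1], ![0, 1, 0, 0, 2],
    ![0, 0, 1, 1, 0], ![0, 0, 1, 2, 0], ![0, 1, 0, 2, 0],
    ![0, 1, 0, 1, 0], ![0, 0, 1, 0, 2], ![0, 0, 1, 0, 1],
    ![1, 2, 2, 1, 1], ![1, 1, 1, 2, 2], ![1, 2, 2, 2, 2],
    ![1, 1, 1, 1, 1], ![1, 0, 0, 2, 0], ![1, 0, 0, 1, 0],
    ![1, 0, 0, 0, 1], ![1, 0, 0, 0, 2], ![1, 2, 1, 1, 1],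
    ![1, 1, 2, 2, 2], ![1, 2, 1, 2, 2], ![1, 1, 2, 1, 1]]

/-- The alternating form. -/
def bf (u v : Fin 6 → ZMod 2) : ZMod 2 :=
  u 0 * v 3 + u 1 * v 4 + u 2 * v 5 + (u 3 * v 0 + u 4 * v 1 + u 5 * v 2)

/-- A transvection. -/
def tv (u v : Fin 6 → ZMod 2) : Fin 6 → ZMod 2 := fun k => v k + bf u v * u k

/-- The hyperbolic form. -/
def qp (v : Fin 6 → ZMod 2) : ZMod 2 := v 0 * v 3 + v 1 * v 4 + v 2 * v 5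

/-- The elliptic form. -/
def qm (v : Fin 6 → ZMod 2) : ZMod 2 := qp v + (v 3 + v 0)

/-- The dot product of eight entries. -/
def d8 (u v : Fin 8 → ZMod 2) : ZMod 2 :=
  u 0 * v 0 + u 1 * v 1 + u 2 * v 2 + u 3 * v 3 + (u 4 * v 4 + u 5 * v 5 + u 6 * v 6 + u 7 * v 7)

/-- A transvection on eight entries. -/
def tv8 (u v : Fin 8 → ZMod 2) : Fin 8 → ZMod 2 := fun k => v k + d8 u v * u k

/-- Minus the sum of five squares. -/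
def n5 (v : Fin 5 → ZMod 3) : ZMod 3 := -(v 0 * v 0 + v 1 * v 1 + v 2 * v 2 + v 3 * v 3 + v 4 * v 4)

/-- A reflection. -/
def rf (u x : Fin 5 → ZMod 3) : Fin 5 → ZMod 3 :=
  fun k => x k - (u 0 * x 0 + u 1 * x 1 + u 2 * x 2 + u 3 * x 3 + u 4 * x 4) * u k

theorem pvec_norm : ∀ i, qp (pvec i) = 1 := by decide +kernel

theorem pvec_inj : ∀ i j, (∀ k, pvec i k = pvec j k) → i = j := by decide +kernel

theorem pvec_cover : ∀ a b c e g r : ZMod 2, qp ![a, b, c, e, g, r] = 1 →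
    ∃ i, ∀ k, pvec i k = ![a, b, c, e, g, r] k := by decide +kernel

theorem pedge_edge : ∀ i, ∃ a b, a ≠ b ∧ ∀ k, pedge i k = (if k = a then 1 else 0) + (if k = b then 1 else 0) := by
  decide +kernel

theorem pedge_inj : ∀ i j, (∀ k, pedge i k = pedge j k) → i = j := by decide +kernel

theorem pedge_cover : ∀ a b : Fin 8, a ≠ b →
    ∃ i, ∀ k, pedge i k = (if k = a then 1 else 0) + (if k = b then 1 else 0) := by decide +kernel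

theorem p_match : ∀ i j, ∃ l, (∀ k, pvec l k = tv (pvec i) (pvec j) k) ∧
    ∀ k, pedge l k = tv8 (pedge i) (pedge j) k := by decide +kernel

theorem mvec_norm : ∀ i, qm (mvec i) = 1 := by decide +kernel

theorem mvec_inj : ∀ i j, (∀ k, mvec i k = mvec j k) → i = j := by decide +kernel

theorem mvec_cover : ∀ a b c e g r : ZMod 2, qm ![a, b, c, e, g, r] = 1 →
    ∃ i, ∀ k, mvec i k = ![a, b, c, e, g, r] k := by decide +kernel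

theorem mpts_norm : ∀ i, n5 (mpts i) = 1 := by decide +kernel

theorem mpts_inj : ∀ i j, ((∀ k, mpts i k = mpts j k) ∨ ∀ k, mpts i k = -mpts j k) → i = j := by decide +kernel

theorem mpts_cover : ∀ a b c e g : ZMod 3, n5 ![a, b, c, e, g] = 1 →
    ∃ i, (∀ k, mpts i k = ![a, b, c, e, g] k) ∨ ∀ k, mpts i k = -![a, b, c, e, g] k := by decide +kernel

theorem m_match : ∀ i j, ∃ l, (∀ k, mvec l k = tv (mvec i) (mvec j) k) ∧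
    ((∀ k, mpts l k = rf (mpts i) (mpts j) k) ∨ ∀ k, mpts l k = -rf (mpts i) (mpts j) k) := by decide +kernel

end CfsgLib.Fischer.O6
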