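import Cfsg.Agent.Fischer.StepTwo

/-!
Fischer's theorem: symmetric neighbourhoods give a symmetric group of two points more.
-/

set_option autoImplicit false
set_option linter.unusedSectionVars false

namespace CfsgLib.Fischer

open CfsgLib.ThreeT CfsgLib.ThreeT.Prod

universe u

section vectors

variable {m : ℕ}

/-- The vector of an edge. -/
def edge (i j : Fin m) : Fin m → ZMod 2 := Pi.single i 1 + Pi.single j 1

theorem edge_mem {i j : Fin m} (h : i ≠ j) : edge i j ∈ edges m := ⟨i, j, h, rfl⟩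

theorem edge_comm (i j : Fin m) : edge i j = edge j i := add_comm _ _

theorem edge_apply (i j k : Fin m) : edge i j k = (if k = i then 1 else 0) + (if k = j then 1 else 0) := by
  simp [edge, Pi.single_apply]

theorem edge_apply_eq_one {i j k : Fin m} (h : i ≠ j) : edge i j k = 1 ↔ k = i ∨ k = j := by
  rw [edge_apply]
  by_cases h1 : k = i
  · subst h1; simp [h]
  · by_cases h2 : k = j <;> simp [h1, h2, Ne.symm h]

theorem edge_apply_eq_zero {i j k : Fin m} (h : i ≠ j) : edge i j k = 0 ↔ k ≠ i ∧ k ≠ j := by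
  rw [← not_or, ← edge_apply_eq_one h]
  generalize edge i j k = z
  revert z; decide

theorem dot_edge (i j : Fin m) (v : Fin m → ZMod 2) : dot m (edge i j) v = v i + v j := by
  simp [dot, edge, add_mul, Finset.sum_add_distrib, Pi.single_apply]

theorem dot_symm (u v : Fin m → ZMod 2) : dot m u v = dot m v u := by
  simp [dot, mul_comm]

theorem edge_inj {i j k : Fin m} (h : i ≠ j) (hk : i ≠ k) (e : edge i j = edge i k) : j = k := by
  rcases (edge_apply_eq_one hk (k := j)).1 (e ▸ (edge_apply_eq_one h).2 (Or.inr rfl)) with q | q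
  · exact absurd q.symm h
  · exact q

theorem edge_disjoint {i j k l : Fin m} (hij : i ≠ j) (hkl : k ≠ l) (hne : edge i j ≠ edge k l)
    (h : dot m (edge i j) (edge k l) = 0) : i ≠ k ∧ i ≠ l ∧ j ≠ k ∧ j ≠ l := by
  rw [dot_edge, edge_apply, edge_apply] at h
  refine ⟨?_, ?_, ?_, ?_⟩ <;> rintro rfl
  · by_cases e : j = l
    · exact hne (by rw [e])
    · simp [hkl, Ne.symm hij, e] at h
  · by_cases e : j = k
    · exact hne (by rw [e, edge_comm])
    · simp [Ne.symm hkl, Ne.symm hij, e] at h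
  · by_cases e : i = l
    · exact hne (by rw [e, edge_comm])
    · simp [hkl, hij, e] at h
  · by_cases e : i = k
    · exact hne (by rw [e])
    · simp [Ne.symm hkl, hij, e] at h

theorem edge_meet {i j k l : Fin m} (hij : i ≠ j) (hkl : k ≠ l) (h : dot m (edge i j) (edge k l) = 1) :
    ∃ r s t, r ≠ s ∧ r ≠ t ∧ s ≠ t ∧ edge i j = edge r s ∧ edge k l = edge r t := by
  rw [dot_edge, edge_apply, edge_apply] at h
  by_cases e1 : i = k
  · subst e1
    refine ⟨i, j, l, hij, hkl, ?_, rfl, rfl⟩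
    rintro rfl
    simp [hkl, Ne.symm hij, show ((1 : ZMod 2) + 1) = 0 from rfl] at h
  by_cases e2 : i = l
  · subst e2
    refine ⟨i, j, k, hij, Ne.symm hkl, ?_, rfl, edge_comm _ _⟩
    rintro rfl
    simp [e1, Ne.symm hij, show ((1 : ZMod 2) + 1) = 0 from rfl] at h
  by_cases e3 : j = k
  · subst e3
    exact ⟨j, i, l, Ne.symm hij, hkl, e2, edge_comm _ _, rfl⟩
  by_cases e4 : j = l
  · subst e4
    exact ⟨j, i, k, Ne.symm hij, e3, e1, edge_comm _ _, edge_comm _ _⟩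
  simp [e1, e2, e3, e4] at h

theorem edge_add {r s t : Fin m} : edge r t + edge r s = edge s t := by
  rw [edge, edge, edge, show (Pi.single r 1 + Pi.single t 1 + (Pi.single r 1 + Pi.single s 1) : Fin m → ZMod 2) =
    (Pi.single r 1 + Pi.single r 1) + (Pi.single s 1 + Pi.single t 1) by abel, vadd_self, zero_add]

theorem exists_avoid (S : Finset (Fin m)) (h : S.card < m) : ∃ l, l ∉ S := by
  by_contra q
  push Not at q
  have := Finset.card_le_card (fun x _ => q x : (Finset.univ : Finset (Fin m)) ⊆ S)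
  simp at this
  omega

theorem exists_edge_avoid (S : Finset (Fin m)) (h : S.card + 1 < m) :
    ∃ k l, k ≠ l ∧ k ∉ S ∧ l ∉ S := by
  obtain ⟨k, hk⟩ := exists_avoid S (by omega)
  obtain ⟨l, hl⟩ := exists_avoid (insert k S) (lt_of_le_of_lt (Finset.card_insert_le k S) h)
  simp only [Finset.mem_insert, not_or] at hl
  exact ⟨k, l, Ne.symm hl.1, hk, hl.2⟩

/-- Pairwise meeting edges without triangles lie in a star. -/
theorem star_of {S : Set (Fin m → ZMod 2)} {r s t : Fin m} (hrs : r ≠ s) (hrt : r ≠ t) (hst : s ≠ t)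
    (hS : S ⊆ edges m) (h1 : edge r s ∈ S) (h2 : edge r t ∈ S) (h3 : edge s t ∉ S)
    (hmeet : ∀ x ∈ S, ∀ y ∈ S, x ≠ y → dot m x y = 1) : ∀ x ∈ S, x r = 1 := by
  intro x hx
  obtain ⟨k, l, hkl, rfl⟩ := hS hx
  change edge k l ∈ S at hx
  change edge k l r = 1
  by_contra hr
  rw [edge_apply_eq_one hkl, not_or] at hr
  have hne : ∀ z, edge k l ≠ edge r z ∨ r = z := by
    intro z
    by_cases q : r = z
    · exact Or.inr q
    · refine Or.inl fun e => ?_
      have := (edge_apply_eq_one q (k := r)).2 (Or.inl rfl)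
      rw [← e, edge_apply_eq_one hkl] at this
      exact this.elim hr.1 hr.2
  have e1 := hmeet _ hx _ h1 ((hne s).resolve_right hrs)
  have e2 := hmeet _ hx _ h2 ((hne t).resolve_right hrt)
  rw [dot_edge, edge_apply, edge_apply, if_neg (Ne.symm hr.1), if_neg (Ne.symm hr.2), zero_add, zero_add] at e1 e2
  have hs : s = k ∨ s = l := by
    by_contra q
    rw [not_or] at q
    simp [Ne.symm q.1, Ne.symm q.2] at e1
  have ht : t = k ∨ t = l := by
    by_contra q
    rw [not_or] at q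
    simp [Ne.symm q.1, Ne.symm q.2] at e2
  refine h3 ?_
  rcases hs with rfl | rfl <;> rcases ht with rfl | rfl
  · exact absurd rfl hst
  · exact hx
  · rwa [edge_comm]
  · exact absurd rfl hst

theorem five_cover {i j k l p : Fin 5} (h1 : i ≠ j) (h2 : i ≠ k) (h3 : i ≠ l) (h4 : i ≠ p) (h5 : j ≠ k) (h6 : j ≠ l)
    (h7 : j ≠ p) (h8 : k ≠ l) (h9 : k ≠ p) (h10 : l ≠ p) (x : Fin 5) : x = i ∨ x = j ∨ x = k ∨ x = l ∨ x = p := by
  omega

end vectors

variable {G : Type u} [Group G] [Finite G] {D : Set G} {m : ℕ}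

/-- A local chart. -/
theorem sym_chart (hloc : ∀ a ∈ D, SymCo (nb D a) m) {a : G} (ha : a ∈ D) :
    ∃ ψ : G → Fin m → ZMod 2, TwoCo (nb D a) (dot m) (edges m) ψ := hloc a ha

variable (h : Fi D) (hloc : ∀ a ∈ D, SymCo (nb D a) m)
include h hloc

theorem sym_tri_mem {d c t : G} (hd : d ∈ D) (hc : c ∈ D) (ht : t ∈ tri D d c) (hdc : ¬ Commute d c) :
    d ∈ nb D t ∧ c ∈ nb D t :=
  ⟨⟨hd, ht.1.2.1.symm, ht.1.2.2.symm⟩, hc, fun e => hdc (e ▸ ht.1.2.2), ht.2⟩

theorem sym_tdet (hm : 5 ≤ m) : TDet D := by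
  intro d hd c hc c2 hc2 hdc hdc2 e
  obtain ⟨t, ht⟩ := h.tri_nonempty hd hc hdc
  obtain ⟨ψ, f⟩ := hloc t ht.1.1
  have hS := h.nb_closed t
  obtain ⟨hdt, hct⟩ := sym_tri_mem h hloc hd hc ht hdc
  obtain ⟨-, hct2⟩ := sym_tri_mem h hloc hd hc2 (e ▸ ht : t ∈ tri D d c2) hdc2
  obtain ⟨i, j, hij, ed⟩ := f.bij.mapsTo hdt
  obtain ⟨i', j', hij', ec⟩ := f.bij.mapsTo hct
  obtain ⟨i2, j2, hij2, ec2⟩ := f.bij.mapsTo hct2
  have g1 := (f.form_eq_one hS hdt hct).1 hdc
  have g2 := (f.form_eq_one hS hdt hct2).1 hdc2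
  rw [ed, ec] at g1
  rw [ed, ec2] at g2
  obtain ⟨r, s, k, hrs, hrk, hsk, e1, e2⟩ := edge_meet hij hij' g1
  obtain ⟨r2, s2, k2, hrs2, hrk2, hsk2, e3, e4⟩ := edge_meet hij hij2 g2
  have hrr : (r2 = r ∧ s2 = s) ∨ (r2 = s ∧ s2 = r) := by
    have h1 := (edge_apply_eq_one hrs (k := r2)).1 (by
      rw [← e1]; change edge i j r2 = 1; rw [e3]; exact (edge_apply_eq_one hrs2).2 (Or.inl rfl))
    have h2 := (edge_apply_eq_one hrs (k := s2)).1 (by
      rw [← e1]; change edge i j s2 = 1; rw [e3]; exact (edge_apply_eq_one hrs2).2 (Or.inr rfl))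
    rcases h1 with rfl | rfl <;> rcases h2 with rfl | rfl
    · exact absurd rfl hrs2
    · exact Or.inl ⟨rfl, rfl⟩
    · exact Or.inr ⟨rfl, rfl⟩
    · exact absurd rfl hrs2
  have hk2 : k2 = k := by
    by_contra hne
    obtain ⟨l, hl⟩ := exists_avoid ({r, s, k, k2} : Finset (Fin m))
      (lt_of_le_of_lt Finset.card_le_four (by omega))
    simp only [Finset.mem_insert, Finset.mem_singleton, not_or] at hl
    have hkr2 : k ≠ r2 := by rcases hrr with ⟨q, -⟩ | ⟨q, -⟩ <;> rw [q] <;> [exact Ne.symm hrk; exact Ne.symm hsk]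
    have hlr2 : l ≠ r2 := by rcases hrr with ⟨q, -⟩ | ⟨q, -⟩ <;> rw [q] <;> [exact hl.1; exact hl.2.1]
    obtain ⟨x, hx, ex⟩ := f.bij.surjOn (edge_mem (Ne.symm hl.2.2.1) : edge k l ∈ edges m)
    have hxd : Commute x d := by
      rw [f.commute_iff hS hx hdt, ex, ed, dot_symm]
      change dot m (edge i j) (edge k l) = 0
      rw [show edge i j = edge r s from e1, dot_edge, edge_apply, edge_apply, if_neg hrk, if_neg hsk, if_neg (Ne.symm hl.1),
        if_neg (Ne.symm hl.2.1)]; simp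
    have hxne : x ≠ d := fun q => by
      have h1 : edge k l r = edge r s r := by rw [← ex, q, ed]; exact congrFun e1 r
      rw [(edge_apply_eq_one hrs).2 (Or.inl rfl), (edge_apply_eq_zero (Ne.symm hl.2.2.1)).2 ⟨hrk, Ne.symm hl.1⟩] at h1
      exact absurd h1 (by decide)
    have hx2 : x ∈ tri D d c2 := ⟨⟨hx.1, hxne, hxd.symm⟩, by
      rw [f.commute_iff hS hx hct2, ex, ec2, dot_edge]
      change edge i2 j2 k + edge i2 j2 l = 0
      rw [e4, (edge_apply_eq_zero hrk2).2 ⟨hkr2, Ne.symm hne⟩,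
        (edge_apply_eq_zero hrk2).2 ⟨hlr2, hl.2.2.2⟩, add_zero]⟩
    have hx1 := (e ▸ hx2 : x ∈ tri D d c).2
    rw [f.commute_iff hS hx hct, ex, ec, dot_edge] at hx1
    change edge i' j' k + edge i' j' l = 0 at hx1
    rw [e2, (edge_apply_eq_one hrk).2 (Or.inr rfl), (edge_apply_eq_zero hrk).2 ⟨hl.1, hl.2.2.1⟩] at hx1
    exact absurd hx1 (by decide)
  subst hk2
  rcases hrr with ⟨q, -⟩ | ⟨q, -⟩
  · left
    refine f.bij.injOn hct2 hct ?_
    rw [ec2, ec]
    change edge i2 j2 = edge i' j'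
    rw [e4, e2, q]
  · right
    refine f.bij.injOn hct2 (hS.conj d hdt c hct) ?_
    rw [f.conj_add hS hdt hct hdc, ec2, ec, ed]
    change edge i2 j2 = edge i' j' + edge i j
    rw [e4, e2, show edge i j = edge r s from e1, q, edge_add]

variable {d c : G} (hd : d ∈ D) (hc : c ∈ D) (hdc : ¬ Commute d c) {φ : G → Fin m → ZMod 2}
  (f : TwoCo (nb D d) (dot m) (edges m) φ) (hm : 5 ≤ m)
include hd hc hdc f hm

/-- The point avoided by the common neighbours near one of them. -/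
theorem sym_local {a : G} (ha : a ∈ tri D d c) :
    ∃ p, φ a p = 0 ∧ ∀ b ∈ nb D d, b ≠ a → Commute a b → (b ∈ tri D d c ↔ φ b p = 0) := by
  classical
  obtain ⟨ψ, g⟩ := hloc a ha.1.1
  have hSd := h.nb_closed d
  have hSa := h.nb_closed a
  obtain ⟨hda, hca⟩ := sym_tri_mem h hloc hd hc ha hdc
  obtain ⟨i, j, hij, ed⟩ := g.bij.mapsTo hda
  obtain ⟨i', j', hij', ec⟩ := g.bij.mapsTo hca
  have g1 := (g.form_eq_one hSa hda hca).1 hdc
  rw [ed, ec] at g1
  obtain ⟨r, s, k, hrs, hrk, hsk, e1, e2⟩ := edge_meet hij hij' g1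
  let S : Set G := {b | b ∈ nb D d ∧ b ≠ a ∧ Commute a b ∧ b ∉ tri D d c}
  have hSmem : ∀ b ∈ S, ∃ l, l ≠ r ∧ l ≠ s ∧ l ≠ k ∧ ψ b = edge k l := by
    rintro b ⟨hb, hba, hab, hbT⟩
    have hb' : b ∈ nb D a := ⟨hb.1, hba, hab⟩
    obtain ⟨x, y, hxy, eb⟩ := g.bij.mapsTo hb'
    change ψ b = edge x y at eb
    have hbd : dot m (edge x y) (edge r s) = 0 := by
      have := (g.commute_iff hSa hb' hda).1 hb.2.2.symm
      rw [eb, ed] at this
      rwa [← e1]
    have hne : edge x y ≠ edge r s := fun q => hb.2.1 (g.bij.injOn hb' hda (by rw [eb, ed, q]; exact e1.symm))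
    obtain ⟨xr, xs, yr, ys⟩ := edge_disjoint hxy hrs hne hbd
    have hbc : dot m (edge x y) (edge r k) = 1 := by
      have := (g.form_eq_one hSa hb' hca).1 fun q => hbT ⟨hb, q⟩
      rw [eb, ec] at this
      rwa [← e2]
    rw [dot_edge, edge_apply, edge_apply, if_neg xr, if_neg yr, zero_add, zero_add] at hbc
    by_cases hx : x = k
    · exact ⟨y, yr, ys, fun q => hxy (hx.trans q.symm), by rw [eb, hx]⟩
    · by_cases hy : y = k
      · exact ⟨x, xr, xs, hx, by rw [eb, hy, edge_comm]⟩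
      · rw [if_neg hx, if_neg hy] at hbc; exact absurd hbc (by decide)
  have hSex : ∀ l, l ≠ r → l ≠ s → l ≠ k → ∃ b ∈ S, ψ b = edge k l := by
    intro l lr ls lk
    obtain ⟨b, hb, eb⟩ := g.bij.surjOn (edge_mem (Ne.symm lk) : edge k l ∈ edges m)
    have hcd : Commute b d := by
      rw [g.commute_iff hSa hb hda, eb, ed, dot_edge]
      change edge i j k + edge i j l = 0
      rw [show edge i j = edge r s from e1, (edge_apply_eq_zero hrs).2 ⟨Ne.symm hrk, Ne.symm hsk⟩,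
        (edge_apply_eq_zero hrs).2 ⟨lr, ls⟩, add_zero]
    refine ⟨b, ⟨⟨hb.1, fun q => ?_, hcd.symm⟩, hb.2.1, hb.2.2, fun q => ?_⟩, eb⟩
    · have h1 : edge k l r = edge r s r := by rw [← eb, q, ed]; exact congrFun e1 r
      rw [(edge_apply_eq_one hrs).2 (Or.inl rfl), (edge_apply_eq_zero (Ne.symm lk)).2 ⟨hrk, Ne.symm lr⟩] at h1
      exact absurd h1 (by decide)
    · have h2 := (g.commute_iff hSa hb hca).1 q.2
      rw [eb, ec, dot_edge] at h2
      change edge i' j' k + edge i' j' l = 0 at h2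
      rw [e2, (edge_apply_eq_one hrk).2 (Or.inr rfl), (edge_apply_eq_zero hrk).2 ⟨lr, lk⟩] at h2
      exact absurd h2 (by decide)
  obtain ⟨l1, l2, hl12, hl1, hl2⟩ := exists_edge_avoid ({r, s, k} : Finset (Fin m))
    (lt_of_le_of_lt (Nat.add_le_add_right Finset.card_le_three 1) (by omega))
  simp only [Finset.mem_insert, Finset.mem_singleton, not_or] at hl1 hl2
  obtain ⟨b1, hb1, eb1⟩ := hSex l1 hl1.1 hl1.2.1 hl1.2.2
  obtain ⟨b2, hb2, eb2⟩ := hSex l2 hl2.1 hl2.2.1 hl2.2.2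
  have hmeet : ∀ x ∈ S, ∀ y ∈ S, x ≠ y → ¬ Commute x y := by
    intro x hx y hy hne q
    obtain ⟨l, -, -, hlk, ex⟩ := hSmem x hx
    obtain ⟨l', -, -, hlk', ey⟩ := hSmem y hy
    rw [g.commute_iff hSa ⟨hx.1.1, hx.2.1, hx.2.2.1⟩ ⟨hy.1.1, hy.2.1, hy.2.2.1⟩, ex, ey] at q
    exact (edge_disjoint (Ne.symm hlk) (Ne.symm hlk')
      (fun q' => hne (g.bij.injOn ⟨hx.1.1, hx.2.1, hx.2.2.1⟩ ⟨hy.1.1, hy.2.1, hy.2.2.1⟩ (by rw [ex, ey, q']))) q).1 rfl
  have hne12 : b1 ≠ b2 := fun q => hl12 (edge_inj (Ne.symm hl1.2.2) (Ne.symm hl2.2.2) (by rw [← eb1, ← eb2, q]))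
  have hnot : b1 * b2 * b1 ∉ S := by
    intro q
    obtain ⟨l, -, -, hlk, el⟩ := hSmem _ q
    rw [g.conj_add hSa ⟨hb1.1.1, hb1.2.1, hb1.2.2.1⟩ ⟨hb2.1.1, hb2.2.1, hb2.2.2.1⟩ (hmeet _ hb1 _ hb2 hne12),
      eb1, eb2, edge_add] at el
    have := (edge_apply_eq_zero hl12 (k := k)).2 ⟨Ne.symm hl1.2.2, Ne.symm hl2.2.2⟩
    rw [el, (edge_apply_eq_one (Ne.symm hlk)).2 (Or.inl rfl)] at this
    exact absurd this (by decide)
  -- transfer to the chart at `d`
  obtain ⟨x1, y1, hxy1, ef1⟩ := f.bij.mapsTo hb1.1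
  obtain ⟨x2, y2, hxy2, ef2⟩ := f.bij.mapsTo hb2.1
  change φ b1 = edge x1 y1 at ef1
  change φ b2 = edge x2 y2 at ef2
  have hdot := (f.form_eq_one hSd hb1.1 hb2.1).1 (hmeet _ hb1 _ hb2 hne12)
  rw [ef1, ef2] at hdot
  obtain ⟨p, u, w, hpu, hpw, huw, eu, ew⟩ := edge_meet hxy1 hxy2 hdot
  have hsub : φ '' S ⊆ edges m := by
    rintro _ ⟨b, hb, rfl⟩; exact f.bij.mapsTo hb.1
  have hthird : φ (b1 * b2 * b1) = edge u w := by
    rw [f.conj_add hSd hb1.1 hb2.1 (hmeet _ hb1 _ hb2 hne12), ef1, ef2, eu, ew, edge_add]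
  have hstar := star_of hpu hpw huw hsub ⟨b1, hb1, by rw [ef1, eu]⟩ ⟨b2, hb2, by rw [ef2, ew]⟩
    (by
      rintro ⟨b, hb, eb⟩
      exact hnot (f.bij.injOn hb.1 (hSd.conj _ hb1.1 _ hb2.1) (eb.trans hthird.symm) ▸ hb))
    (by
      rintro _ ⟨x, hx, rfl⟩ _ ⟨y, hy, rfl⟩ hne
      exact (f.form_eq_one hSd hx.1 hy.1).1 (hmeet x hx y hy fun q => hne (by rw [q])))
  have hap : φ a p = 0 := by
    obtain ⟨a1, a2, ha12, ea⟩ := f.bij.mapsTo ha.1
    change φ a = edge a1 a2 at ea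
    have h0 := (f.commute_iff hSd ha.1 hb1.1).1 hb1.2.2.1
    rw [ea, ef1, eu] at h0
    have := edge_disjoint ha12 hpu (fun q => hb1.2.1 (f.bij.injOn hb1.1 ha.1 (by rw [ea, ef1, eu, q]))) h0
    rw [ea, edge_apply_eq_zero ha12]
    exact ⟨Ne.symm this.1, Ne.symm this.2.2.1⟩
  refine ⟨p, hap, fun b hb hba hab => ⟨fun hbT => ?_, fun hb0 => by_contra fun hbT => ?_⟩⟩
  · -- the star is full
    by_contra hne
    have hb1' : φ b p = 1 := (two_ne_iff _).1 hne
    obtain ⟨x, y, hxy, eb⟩ := f.bij.mapsTo hb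
    change φ b = edge x y at eb
    rw [eb, edge_apply_eq_one hxy] at hb1'
    obtain ⟨q, hpq, ebq⟩ : ∃ q, p ≠ q ∧ φ b = edge p q := by
      rcases hb1' with rfl | rfl
      exacts [⟨y, hxy, eb⟩, ⟨x, Ne.symm hxy, eb.trans (edge_comm _ _)⟩]
    obtain ⟨a1, a2, ha12, ea⟩ := f.bij.mapsTo ha.1
    change φ a = edge a1 a2 at ea
    rw [ea, edge_apply_eq_zero ha12] at hap
    let Q : Finset (Fin m) := Finset.univ.filter fun l => l ≠ a1 ∧ l ≠ a2 ∧ l ≠ p
    let R : Finset (Fin m) := Finset.univ.filter fun l => l ≠ r ∧ l ≠ s ∧ l ≠ k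
    have hQ : Q.card = R.card := by
      have e : ∀ x y z : Fin m, x ≠ y → x ≠ z → y ≠ z →
          (Finset.univ.filter fun l => l ≠ x ∧ l ≠ y ∧ l ≠ z) = Finset.univ \ {x, y, z} := by
        intro x y z _ _ _; ext l; simp
      simp only [Q, R]
      rw [e _ _ _ ha12 (Ne.symm hap.1) (Ne.symm hap.2), e _ _ _ hrs hrk hsk,
        Finset.card_sdiff_of_subset (Finset.subset_univ _), Finset.card_sdiff_of_subset (Finset.subset_univ _),
        Finset.card_eq_three.2 ⟨_, _, _, ha12, Ne.symm hap.1, Ne.symm hap.2, rfl⟩,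
        Finset.card_eq_three.2 ⟨_, _, _, hrs, hrk, hsk, rfl⟩]
    have hR : ∀ l ∈ R, ∃ b' ∈ S, ψ b' = edge k l := fun l hl => by
      simp only [R, Finset.mem_filter, Finset.mem_univ, true_and] at hl
      exact hSex l hl.1 hl.2.1 hl.2.2
    choose! F hF using hR
    have hG : ∀ l ∈ R, ∃ q' ∈ Q, φ (F l) = edge p q' := by
      intro l hl
      obtain ⟨hS', -⟩ := hF l hl
      obtain ⟨x, y, hxy, e⟩ := f.bij.mapsTo hS'.1
      change φ (F l) = edge x y at e
      have h1 := hstar _ ⟨_, hS', rfl⟩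
      rw [e, edge_apply_eq_one hxy] at h1
      obtain ⟨q', hpq', eq'⟩ : ∃ q', p ≠ q' ∧ φ (F l) = edge p q' := by
        rcases h1 with rfl | rfl
        exacts [⟨y, hxy, e⟩, ⟨x, Ne.symm hxy, e.trans (edge_comm _ _)⟩]
      have h0 := (f.commute_iff hSd ha.1 hS'.1).1 hS'.2.2.1
      rw [ea, eq'] at h0
      obtain ⟨-, n1, -, n2⟩ := edge_disjoint ha12 hpq'
        (fun q'' => hS'.2.1 (f.bij.injOn hS'.1 ha.1 (by rw [ea, eq', q'']))) h0
      exact ⟨q', by simp [Q, Ne.symm n1, Ne.symm n2, Ne.symm hpq'], eq'⟩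
    choose! H hH using hG
    have hinj : Set.InjOn H R := fun l hl l' hl' e => by
      have e2 : F l = F l' := f.bij.injOn (hF l hl).1.1 (hF l' hl').1.1 (by rw [(hH l hl).2, (hH l' hl').2, e])
      have e3 : edge k l = edge k l' := by rw [← (hF l hl).2, ← (hF l' hl').2, e2]
      have hl2 : l ≠ k := by simp [R] at hl; exact hl.2.2
      have hl2' : l' ≠ k := by simp [R] at hl'; exact hl'.2.2
      exact edge_inj (Ne.symm hl2) (Ne.symm hl2') e3
    have hsur := Finset.surj_on_of_inj_on_of_card_le (s := R) (t := Q) (fun l _ => H l) (fun l hl => (hH l hl).1)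
      (fun l l' hl hl' e => hinj hl hl' e) hQ.le
    have h0 := (f.commute_iff hSd ha.1 hb).1 hab
    rw [ea, ebq] at h0
    obtain ⟨-, n1, -, n2⟩ := edge_disjoint ha12 hpq
      (fun q'' => hba (f.bij.injOn hb ha.1 (by rw [ea, ebq, q'']))) h0
    obtain ⟨l, hl, el⟩ := hsur q (by simp [Q, Ne.symm n1, Ne.symm n2, Ne.symm hpq])
    have : F l = b := f.bij.injOn (hF l hl).1.1 hb (by rw [(hH l hl).2, ebq, ← el])
    exact (hF l hl).1.2.2.2 (this ▸ hbT)
  · exact absurd (hstar _ ⟨b, ⟨hb, hba, hab, hbT⟩, rfl⟩) (by rw [hb0]; decide)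

theorem sym_global (hm6 : m ≠ 6) : ∃ p, ∀ b ∈ nb D d, (b ∈ tri D d c ↔ φ b p = 0) := by
  classical
  have hSd := h.nb_closed d
  rcases (show m = 5 ∨ 7 ≤ m by omega) with rfl | h7
  · have hedge : ∀ {x y : Fin 5}, x ≠ y → ∃ e ∈ nb D d, φ e = edge x y := fun hxy =>
      f.bij.surjOn (edge_mem hxy)
    have hmap : ∀ {e}, e ∈ nb D d → ∃ x y, x ≠ y ∧ φ e = edge x y := fun he => f.bij.mapsTo he
    have huniq : ∀ t ∈ tri D d c, ∀ z ∈ tri D d c, ∀ z' ∈ tri D d c, z ≠ t → z' ≠ t → Commute t z →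
        Commute t z' → z = z' := by
      intro t ht z hz z' hz' hzt hzt' c1 c2
      obtain ⟨p, hp, hM⟩ := sym_local h hloc hd hc hdc f hm ht
      obtain ⟨i, j, hij, et⟩ := hmap ht.1
      obtain ⟨k, l, hkl, ez⟩ := hmap hz.1
      obtain ⟨k', l', hkl', ez'⟩ := hmap hz'.1
      rw [et, edge_apply_eq_zero hij] at hp
      have z0 := (hM z hz.1 hzt c1).1 hz
      have z0' := (hM z' hz'.1 hzt' c2).1 hz'
      rw [ez, edge_apply_eq_zero hkl] at z0
      rw [ez', edge_apply_eq_zero hkl'] at z0'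
      have d0 := (f.commute_iff hSd ht.1 hz.1).1 c1
      have d0' := (f.commute_iff hSd ht.1 hz'.1).1 c2
      rw [et, ez] at d0
      rw [et, ez'] at d0'
      obtain ⟨ik, il, jk, jl⟩ := edge_disjoint hij hkl
        (fun w => hzt (f.bij.injOn hz.1 ht.1 (by rw [et, ez, w]))) d0
      obtain ⟨ik', il', jk', jl'⟩ := edge_disjoint hij hkl'
        (fun w => hzt' (f.bij.injOn hz'.1 ht.1 (by rw [et, ez', w]))) d0'
      refine f.bij.injOn hz.1 hz'.1 ?_
      rw [ez, ez']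
      rcases five_cover hij ik il (Ne.symm hp.1) jk jl (Ne.symm hp.2) hkl (Ne.symm z0.1) (Ne.symm z0.2) k'
        with r | r | r | r | r
      · exact absurd r.symm ik'
      · exact absurd r.symm jk'
      · rcases five_cover hij ik il (Ne.symm hp.1) jk jl (Ne.symm hp.2) hkl (Ne.symm z0.1) (Ne.symm z0.2) l'
          with q | q | q | q | q
        · exact absurd q.symm il'
        · exact absurd q.symm jl'
        · exact absurd (r.trans q.symm) hkl'
        · rw [r, q]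
        · exact absurd q.symm z0'.2
      · rcases five_cover hij ik il (Ne.symm hp.1) jk jl (Ne.symm hp.2) hkl (Ne.symm z0.1) (Ne.symm z0.2) l'
          with q | q | q | q | q
        · exact absurd q.symm il'
        · exact absurd q.symm jl'
        · rw [r, q, edge_comm]
        · exact absurd (r.trans q.symm) hkl'
        · exact absurd q.symm z0'.2
      · exact absurd r.symm z0'.1
    obtain ⟨a, ha⟩ := h.tri_nonempty hd hc hdc
    obtain ⟨p, hp, hM⟩ := sym_local h hloc hd hc hdc f hm ha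
    obtain ⟨i, j, hij, ea⟩ := hmap ha.1
    rw [ea, edge_apply_eq_zero hij] at hp
    obtain ⟨k, l, hkl, hk, hl⟩ := exists_edge_avoid ({i, j, p} : Finset (Fin 5))
      (lt_of_le_of_lt (Nat.add_le_add_right Finset.card_le_three 1) (by norm_num))
    simp only [Finset.mem_insert, Finset.mem_singleton, not_or] at hk hl
    obtain ⟨hki, hkj, hkp⟩ := hk
    obtain ⟨hli, hlj, hlp⟩ := hl
    obtain ⟨b, hb, eb⟩ := hedge hkl
    have hdisj : ∀ {x y u w : Fin 5} {e e'}, x ≠ y → u ≠ w → x ≠ u → x ≠ w → y ≠ u → y ≠ w →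
        e ∈ nb D d → e' ∈ nb D d → φ e = edge x y → φ e' = edge u w → Commute e e' ∧ e ≠ e' := by
      intro x y u w e e' hxy huw q1 q2 q3 q4 he he' ee ee'
      refine ⟨?_, fun r => ?_⟩
      · rw [f.commute_iff hSd he he', ee, ee', dot_edge, (edge_apply_eq_zero huw).2 ⟨q1, q2⟩,
          (edge_apply_eq_zero huw).2 ⟨q3, q4⟩, add_zero]
      · have := (edge_apply_eq_one hxy (k := x)).2 (Or.inl rfl)
        rw [← ee, r, ee', (edge_apply_eq_zero huw).2 ⟨q1, q2⟩] at this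
        exact absurd this (by decide)
    obtain ⟨hab, hne⟩ := hdisj hij hkl (Ne.symm hki) (Ne.symm hli) (Ne.symm hkj) (Ne.symm hlj) ha.1 hb ea eb
    have hbT : b ∈ tri D d c := (hM b hb (Ne.symm hne) hab).2
      (by rw [eb, edge_apply_eq_zero hkl]; exact ⟨Ne.symm hkp, Ne.symm hlp⟩)
    have hcov := five_cover hij (Ne.symm hki) (Ne.symm hli) (Ne.symm hp.1) (Ne.symm hkj) (Ne.symm hlj)
      (Ne.symm hp.2) hkl hkp hlp
    have hTp : ∀ e ∈ tri D d c, φ e p = 0 := by
      intro e he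
      by_contra hne'
      obtain ⟨x, y, hxy, ee⟩ := hmap he.1
      obtain ⟨x, hpx, ee⟩ : ∃ x, p ≠ x ∧ φ e = edge p x := by
        have h1 := (two_ne_iff _).1 hne'
        rw [ee, edge_apply_eq_one hxy] at h1
        rcases h1 with rfl | rfl
        exacts [⟨y, hxy, ee⟩, ⟨x, Ne.symm hxy, ee.trans (edge_comm _ _)⟩]
      rcases hcov x with rfl | rfl | rfl | rfl | rfl
      · obtain ⟨c1, n1⟩ := hdisj hkl hpx hkp hki hlp hli hb he.1 eb ee
        have := huniq b hbT a ha e he hne (Ne.symm n1) hab.symm c1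
        rw [← this, ea, (edge_apply_eq_zero hij).2 hp] at hne'
        exact hne' rfl
      · obtain ⟨c1, n1⟩ := hdisj hkl hpx hkp hkj hlp hlj hb he.1 eb ee
        have := huniq b hbT a ha e he hne (Ne.symm n1) hab.symm c1
        rw [← this, ea, (edge_apply_eq_zero hij).2 hp] at hne'
        exact hne' rfl
      · obtain ⟨c1, n1⟩ := hdisj hij hpx (Ne.symm hp.1) (Ne.symm hki) (Ne.symm hp.2) (Ne.symm hkj) ha.1 he.1 ea ee
        have := huniq a ha b hbT e he (Ne.symm hne) (Ne.symm n1) hab c1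
        rw [← this, eb, (edge_apply_eq_zero hkl).2 ⟨Ne.symm hkp, Ne.symm hlp⟩] at hne'
        exact hne' rfl
      · obtain ⟨c1, n1⟩ := hdisj hij hpx (Ne.symm hp.1) (Ne.symm hli) (Ne.symm hp.2) (Ne.symm hlj) ha.1 he.1 ea ee
        have := huniq a ha b hbT e he (Ne.symm hne) (Ne.symm n1) hab c1
        rw [← this, eb, (edge_apply_eq_zero hkl).2 ⟨Ne.symm hkp, Ne.symm hlp⟩] at hne'
        exact hne' rfl
      · exact hpx rfl
    by_cases hthree : ∃ t ∈ tri D d c, t ≠ a ∧ t ≠ b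
    · refine ⟨p, fun e he => ⟨hTp e, fun he0 => ?_⟩⟩
      have hclose : ∀ {r u w : Fin 5}, r ≠ u → r ≠ w → u ≠ w → (∃ e ∈ tri D d c, φ e = edge r u) →
          (∃ e ∈ tri D d c, φ e = edge r w) → ∃ e ∈ tri D d c, φ e = edge u w := by
        rintro r u w hru hrw huw ⟨e1, he1, q1⟩ ⟨e2, he2, q2⟩
        refine ⟨e1 * e2 * e1, (h.closed.tri d c).conj e1 he1 e2 he2, ?_⟩
        rw [f.conj_add hSd he1.1 he2.1 ?_, q1, q2, edge_add]
        rw [f.form_eq_one hSd he1.1 he2.1, q1, q2, dot_edge, (edge_apply_eq_one hrw).2 (Or.inl rfl),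
          (edge_apply_eq_zero hrw).2 ⟨Ne.symm hru, huw⟩, add_zero]
      have hsw : ∀ {r u : Fin 5}, (∃ e ∈ tri D d c, φ e = edge r u) → ∃ e ∈ tri D d c, φ e = edge u r :=
        fun {r u} ⟨e, he, q⟩ => ⟨e, he, q.trans (edge_comm r u)⟩
      obtain ⟨t, ht, hta, htb⟩ := hthree
      obtain ⟨x, y, hxy, et⟩ := hmap ht.1
      have ht0 := hTp t ht
      rw [et, edge_apply_eq_zero hxy] at ht0
      have haE : ∃ e ∈ tri D d c, φ e = edge i j := ⟨a, ha, ea⟩
      have hbE : ∃ e ∈ tri D d c, φ e = edge k l := ⟨b, hbT, eb⟩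
      obtain ⟨i', j', k', l', hi, hj, hk', hl', hik, hij', hkl', htE⟩ : ∃ i' j' k' l' : Fin 5,
          (i' = i ∧ j' = j ∨ i' = j ∧ j' = i) ∧ True ∧ (k' = k ∧ l' = l ∨ k' = l ∧ l' = k) ∧ True ∧
          i' ≠ k' ∧ i' ≠ j' ∧ k' ≠ l' ∧ ∃ e ∈ tri D d c, φ e = edge i' k' := by
        have e1 : ∃ e ∈ tri D d c, φ e = edge x y := ⟨t, ht, et⟩
        have nij : ∀ {u w : Fin 5}, φ t = edge u w → ¬ (u = i ∧ w = j) ∧ ¬ (u = j ∧ w = i) ∧
            ¬ (u = k ∧ w = l) ∧ ¬ (u = l ∧ w = k) := by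
          intro u w q
          refine ⟨?_, ?_, ?_, ?_⟩ <;> rintro ⟨rfl, rfl⟩
          · exact hta (f.bij.injOn ht.1 ha.1 (q.trans ea.symm))
          · exact hta (f.bij.injOn ht.1 ha.1 (q.trans ((edge_comm _ _).trans ea.symm)))
          · exact htb (f.bij.injOn ht.1 hb (q.trans eb.symm))
          · exact htb (f.bij.injOn ht.1 hb (q.trans ((edge_comm _ _).trans eb.symm)))
        obtain ⟨n1, n2, n3, n4⟩ := nij et
        rcases hcov x with rfl | rfl | rfl | rfl | rfl <;> rcases hcov y with rfl | rfl | rfl | rfl | rfl <;>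
          first
          | exact absurd rfl hxy
          | exact absurd rfl ht0.1.symm
          | exact absurd rfl ht0.2.symm
          | exact absurd ⟨rfl, rfl⟩ n1
          | exact absurd ⟨rfl, rfl⟩ n2
          | exact absurd ⟨rfl, rfl⟩ n3
          | exact absurd ⟨rfl, rfl⟩ n4
          | exact ⟨_, j, _, l, Or.inl ⟨rfl, rfl⟩, trivial, Or.inl ⟨rfl, rfl⟩, trivial, hxy, hij, hkl, e1⟩
          | exact ⟨_, j, _, l, Or.inl ⟨rfl, rfl⟩, trivial, Or.inl ⟨rfl, rfl⟩, trivial, hxy.symm, hij, hkl, hsw e1⟩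
          | exact ⟨_, j, _, k, Or.inl ⟨rfl, rfl⟩, trivial, Or.inr ⟨rfl, rfl⟩, trivial, hxy, hij, hkl.symm, e1⟩
          | exact ⟨_, j, _, k, Or.inl ⟨rfl, rfl⟩, trivial, Or.inr ⟨rfl, rfl⟩, trivial, hxy.symm, hij, hkl.symm, hsw e1⟩
          | exact ⟨_, i, _, l, Or.inr ⟨rfl, rfl⟩, trivial, Or.inl ⟨rfl, rfl⟩, trivial, hxy, hij.symm, hkl, e1⟩
          | exact ⟨_, i, _, l, Or.inr ⟨rfl, rfl⟩, trivial, Or.inl ⟨rfl, rfl⟩, trivial, hxy.symm, hij.symm, hkl, hsw e1⟩
          | exact ⟨_, i, _, k, Or.inr ⟨rfl, rfl⟩, trivial, Or.inr ⟨rfl, rfl⟩, trivial, hxy, hij.symm, hkl.symm, e1⟩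
          | exact ⟨_, i, _, k, Or.inr ⟨rfl, rfl⟩, trivial, Or.inr ⟨rfl, rfl⟩, trivial, hxy.symm, hij.symm, hkl.symm, hsw e1⟩
      have haE' : ∃ e ∈ tri D d c, φ e = edge i' j' := by
        rcases hi with ⟨rfl, rfl⟩ | ⟨rfl, rfl⟩
        exacts [haE, hsw haE]
      have hbE' : ∃ e ∈ tri D d c, φ e = edge k' l' := by
        rcases hk' with ⟨rfl, rfl⟩ | ⟨rfl, rfl⟩
        exacts [hbE, hsw hbE]
      have njk : j' ≠ k' := by rcases hi with ⟨rfl, rfl⟩ | ⟨rfl, rfl⟩ <;> rcases hk' with ⟨rfl, rfl⟩ | ⟨rfl, rfl⟩ <;> omega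
      have njl : j' ≠ l' := by rcases hi with ⟨rfl, rfl⟩ | ⟨rfl, rfl⟩ <;> rcases hk' with ⟨rfl, rfl⟩ | ⟨rfl, rfl⟩ <;> omega
      have nil : i' ≠ l' := by rcases hi with ⟨rfl, rfl⟩ | ⟨rfl, rfl⟩ <;> rcases hk' with ⟨rfl, rfl⟩ | ⟨rfl, rfl⟩ <;> omega
      have hjkE := hclose hij' hik njk haE' htE
      have hilE := hclose hik.symm hkl' nil (hsw htE) hbE'
      have hjlE := hclose (Ne.symm njk) hkl' njl (hsw hjkE) hbE'
      obtain ⟨x, y, hxy, ee⟩ := hmap he
      rw [ee, edge_apply_eq_zero hxy] at he0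
      have hfin : ∃ e' ∈ tri D d c, φ e' = edge x y := by
        have c4 : ∀ z, z ≠ p → z = i' ∨ z = j' ∨ z = k' ∨ z = l' := by
          intro z hz
          rcases hi with ⟨rfl, rfl⟩ | ⟨rfl, rfl⟩ <;> rcases hk' with ⟨rfl, rfl⟩ | ⟨rfl, rfl⟩ <;>
            rcases hcov z with r | r | r | r | r <;> first | exact absurd r hz | simp [r]
        rcases c4 x (Ne.symm he0.1) with rfl | rfl | rfl | rfl <;>
          rcases c4 y (Ne.symm he0.2) with rfl | rfl | rfl | rfl <;>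
          first
          | exact absurd rfl hxy
          | exact haE' | exact hsw haE' | exact htE | exact hsw htE | exact hbE' | exact hsw hbE'
          | exact hjkE | exact hsw hjkE | exact hilE | exact hsw hilE | exact hjlE | exact hsw hjlE
      obtain ⟨e', he', q⟩ := hfin
      rwa [f.bij.injOn he he'.1 (ee.trans q.symm)]
    · exfalso
      push Not at hthree
      obtain ⟨u, hu, eu⟩ := hedge (Ne.symm hki : i ≠ k)
      obtain ⟨v, hv, ev⟩ := hedge (Ne.symm hlj : j ≠ l)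
      have hT : ∀ e ∈ nb D d, (e ∈ tri D d c ↔ φ e = edge i j ∨ φ e = edge k l) := by
        intro e he
        constructor
        · intro q
          by_cases r : e = a
          · exact Or.inl (r ▸ ea)
          · exact Or.inr (hthree e q r ▸ eb)
        · rintro (q | q)
          · rwa [f.bij.injOn he ha.1 (q.trans ea.symm)]
          · rwa [f.bij.injOn he hb (q.trans eb.symm)]
      have hnot : ∀ {x y : Fin 5}, ∀ e ∈ nb D d, φ e = edge x y → x ≠ y →
          ((x = i ∧ y = k) ∨ (x = j ∧ y = l)) → e ∉ tri D d c := by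
        intro x y e he q hxy hxy' r
        have h1 := (edge_apply_eq_one hxy (k := x)).2 (Or.inl rfl)
        have h2 := (edge_apply_eq_one hxy (k := y)).2 (Or.inr rfl)
        rcases (hT e he).1 r with w | w <;> rw [← q, w] at h1 h2
        · rw [edge_apply_eq_one hij] at h1 h2; omega
        · rw [edge_apply_eq_one hkl] at h1 h2; omega
      have huT := hnot u hu eu (Ne.symm hki) (Or.inl ⟨rfl, rfl⟩)
      have hvT := hnot v hv ev (Ne.symm hlj) (Or.inr ⟨rfl, rfl⟩)
      have heq : tri D d (xx c u) = tri D d (xx c v) := by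
        ext e
        have hiff : ∀ w ∈ nb D d, (e ∈ tri D d (xx c w) ↔ e ∈ nb D d ∧ w * e * w ∈ tri D d c) := fun w hw =>
          ⟨fun q => ⟨q.1, (commute_xx_nb h hd hc hdc hw q.1).1 q.2.symm⟩,
            fun q => ⟨q.1, ((commute_xx_nb h hd hc hdc hw q.1).2 q.2).symm⟩⟩
        rw [hiff u hu, hiff v hv]
        refine and_congr_right fun he => ?_
        have hback : ∀ w ∈ nb D d, (w * e * w ∈ tri D d c ↔
            φ e = tvec (dot 5) (φ w) (edge i j) ∨ φ e = tvec (dot 5) (φ w) (edge k l)) := by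
          intro w hw
          rw [← ea, ← eb, ← f.conj w hw a ha.1, ← f.conj w hw b hb,
            f.bij.injOn.eq_iff he (hSd.conj w hw a ha.1), f.bij.injOn.eq_iff he (hSd.conj w hw b hb)]
          constructor
          · intro q
            rcases (hT _ (hSd.conj w hw e he)).1 q with r | r
            · left; rw [← f.bij.injOn (hSd.conj w hw e he) ha.1 (r.trans ea.symm), h.closed.conj_conj hw.1]
            · right; rw [← f.bij.injOn (hSd.conj w hw e he) hb (r.trans eb.symm), h.closed.conj_conj hw.1]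
          · rintro (q | q) <;> rw [q, h.closed.conj_conj hw.1]
            exacts [ha, hbT]
        rw [hback u hu, hback v hv, eu, ev]
        have c1 : tvec (dot 5) (edge i k) (edge i j) = edge k j := by
          rw [tvec, dot_edge, (edge_apply_eq_one hij).2 (Or.inl rfl),
            (edge_apply_eq_zero hij).2 ⟨hki, hkj⟩, add_zero, one_smul, edge_add (r := i) (t := j) (s := k)]
        have c2 : tvec (dot 5) (edge j l) (edge i j) = edge l i := by
          rw [tvec, dot_edge, (edge_apply_eq_one hij).2 (Or.inr rfl),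
            (edge_apply_eq_zero hij).2 ⟨hli, hlj⟩, add_zero, one_smul, edge_comm i j, edge_add (r := j) (t := i) (s := l)]
        have c3 : tvec (dot 5) (edge i k) (edge k l) = edge i l := by
          rw [tvec, dot_edge, (edge_apply_eq_one hkl).2 (Or.inl rfl),
            (edge_apply_eq_zero hkl).2 ⟨Ne.symm hki, Ne.symm hli⟩, zero_add, one_smul, edge_comm i k,
            edge_add (r := k) (t := l) (s := i)]
        have c4 : tvec (dot 5) (edge j l) (edge k l) = edge j k := by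
          rw [tvec, dot_edge, (edge_apply_eq_one hkl).2 (Or.inr rfl),
            (edge_apply_eq_zero hkl).2 ⟨Ne.symm hkj, Ne.symm hlj⟩, zero_add, one_smul, edge_comm j l, edge_comm k l,
            edge_add (r := l) (t := k) (s := j)]
        rw [c1, c2, c3, c4, edge_comm l i, edge_comm k j, Or.comm]
      have hne' : u ≠ v := fun q => by
        have := (edge_apply_eq_one (Ne.symm hki) (k := i)).2 (Or.inl rfl)
        rw [← eu, q, ev, edge_apply_eq_one (Ne.symm hlj)] at this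
        exact this.elim hij (Ne.symm hli)
      rcases sym_tdet h hloc hm d hd (xx c v) (xx_mem h hd hc hdc hv) (xx c u) (xx_mem h hd hc hdc hu)
        (xx_far_d h hd hc hdc hv) (xx_far_d h hd hc hdc hu) heq with q | q
      · exact hne' (xx_injOn h hd hc hdc hu huT hv hvT q)
      · rw [← yy_eq_dxd h hd hc hdc hv] at q
        exact xx_ne_yy h hd hc hdc hu huT hv hvT q
  · obtain ⟨a, ha⟩ := h.tri_nonempty hd hc hdc
    obtain ⟨p, hp, hM⟩ := sym_local h hloc hd hc hdc f hm ha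
    -- adjacent common neighbours avoid the same point
    have hadj : ∀ {a b}, ∀ (ha : a ∈ tri D d c) (hb : b ∈ tri D d c) (p : Fin m),
        (φ a p = 0 ∧ ∀ z ∈ nb D d, z ≠ a → Commute a z → (z ∈ tri D d c ↔ φ z p = 0)) → b ≠ a → Commute a b →
        φ b p = 0 ∧ ∀ z ∈ nb D d, z ≠ b → Commute b z → (z ∈ tri D d c ↔ φ z p = 0) := by
      intro a b ha hb p ⟨hp, hM⟩ hne hab
      obtain ⟨p', hp', hM'⟩ := sym_local h hloc hd hc hdc f hm hb
      have hbp := (hM b hb.1 hne hab).1 hb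
      suffices p' = p from ⟨hbp, this ▸ hM'⟩
      by_contra hpp
      have hap' := (hM' a ha.1 (Ne.symm hne) hab.symm).1 ha
      obtain ⟨a1, a2, ha12, ea⟩ := f.bij.mapsTo ha.1
      obtain ⟨b1, b2, hb12, eb⟩ := f.bij.mapsTo hb.1
      change φ a = edge a1 a2 at ea
      change φ b = edge b1 b2 at eb
      rw [ea, edge_apply_eq_zero ha12] at hp hap'
      rw [eb, edge_apply_eq_zero hb12] at hbp hp'
      obtain ⟨l, hl⟩ := exists_avoid ({a1, a2, b1, b2, p, p'} : Finset (Fin m))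
        (lt_of_le_of_lt Finset.card_le_six (by omega))
      simp only [Finset.mem_insert, Finset.mem_singleton, not_or] at hl
      obtain ⟨z, hz, ez⟩ := f.bij.surjOn (edge_mem (Ne.symm hl.2.2.2.2.1) : edge p l ∈ edges m)
      have hza : Commute a z := by
        rw [f.commute_iff hSd ha.1 hz, ea, ez, dot_symm, dot_edge, (edge_apply_eq_zero ha12).2 hp,
          (edge_apply_eq_zero ha12).2 ⟨hl.1, hl.2.1⟩, add_zero]
      have hzb : Commute b z := by
        rw [f.commute_iff hSd hb.1 hz, eb, ez, dot_symm, dot_edge, (edge_apply_eq_zero hb12).2 hbp,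
          (edge_apply_eq_zero hb12).2 ⟨hl.2.2.1, hl.2.2.2.1⟩, add_zero]
      have hpl := (edge_apply_eq_one (Ne.symm hl.2.2.2.2.1) (k := p)).2 (Or.inl rfl)
      have hza' : z ≠ a := fun w => by
        rw [← ez, w, ea, (edge_apply_eq_zero ha12).2 hp] at hpl; exact absurd hpl (by decide)
      have hzb' : z ≠ b := fun w => by
        rw [← ez, w, eb, (edge_apply_eq_zero hb12).2 hbp] at hpl; exact absurd hpl (by decide)
      have h1 := (hM' z hz hzb' hzb).2 (by
        rw [ez, edge_apply_eq_zero (Ne.symm hl.2.2.2.2.1)]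
        exact ⟨hpp, Ne.symm hl.2.2.2.2.2⟩)
      have h2 := (hM z hz hza' hza).1 h1
      rw [ez, hpl] at h2
      exact absurd h2 (by decide)
    have hall : ∀ b ∈ nb D d, φ b p = 0 → b ∈ tri D d c ∧
        ∀ z ∈ nb D d, z ≠ b → Commute b z → (z ∈ tri D d c ↔ φ z p = 0) := by
      intro b hb hb0
      by_cases hne : b = a
      · exact hne ▸ ⟨ha, hM⟩
      by_cases hab : Commute a b
      · exact ⟨(hM b hb hne hab).2 hb0, (hadj ha ((hM b hb hne hab).2 hb0) p ⟨hp, hM⟩ hne hab).2⟩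
      obtain ⟨a1, a2, ha12, ea⟩ := f.bij.mapsTo ha.1
      obtain ⟨b1, b2, hb12, eb⟩ := f.bij.mapsTo hb
      change φ a = edge a1 a2 at ea
      change φ b = edge b1 b2 at eb
      have hp' := hp
      rw [ea, edge_apply_eq_zero ha12] at hp'
      rw [eb, edge_apply_eq_zero hb12] at hb0
      obtain ⟨k, l, hkl, hk, hl⟩ := exists_edge_avoid ({a1, a2, b1, b2, p} : Finset (Fin m))
        (lt_of_le_of_lt (Nat.add_le_add_right Finset.card_le_five 1) (by omega))
      simp only [Finset.mem_insert, Finset.mem_singleton, not_or] at hk hl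
      obtain ⟨z, hz, ez⟩ := f.bij.surjOn (edge_mem hkl)
      have hzp : φ z p = 0 := by
        rw [ez, edge_apply_eq_zero hkl]; exact ⟨Ne.symm hk.2.2.2.2, Ne.symm hl.2.2.2.2⟩
      have hza : Commute a z := by
        rw [f.commute_iff hSd ha.1 hz, ea, ez, dot_edge,
          (edge_apply_eq_zero hkl).2 ⟨Ne.symm hk.1, Ne.symm hl.1⟩,
          (edge_apply_eq_zero hkl).2 ⟨Ne.symm hk.2.1, Ne.symm hl.2.1⟩, add_zero]
      have hzb : Commute z b := by
        rw [f.commute_iff hSd hz hb, eb, ez, dot_symm, dot_edge,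
          (edge_apply_eq_zero hkl).2 ⟨Ne.symm hk.2.2.1, Ne.symm hl.2.2.1⟩,
          (edge_apply_eq_zero hkl).2 ⟨Ne.symm hk.2.2.2.1, Ne.symm hl.2.2.2.1⟩, add_zero]
      have hk1 := (edge_apply_eq_one hkl (k := k)).2 (Or.inl rfl)
      have hza' : z ≠ a := fun w => by
        rw [← ez, w, ea, (edge_apply_eq_zero ha12).2 ⟨hk.1, hk.2.1⟩] at hk1; exact absurd hk1 (by decide)
      have hzb' : b ≠ z := fun w => by
        rw [← ez, ← w, eb, (edge_apply_eq_zero hb12).2 ⟨hk.2.2.1, hk.2.2.2.1⟩] at hk1; exact absurd hk1 (by decide)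
      have hzT := (hM z hz hza' hza).2 hzp
      have hMz := hadj ha hzT p ⟨hp, hM⟩ hza' hza
      have hbT := (hMz.2 b hb hzb' hzb).2 (by rw [eb, edge_apply_eq_zero hb12]; exact hb0)
      exact ⟨hbT, (hadj hzT hbT p hMz hzb' hzb).2⟩
    refine ⟨p, fun b hb => ⟨fun hbT => ?_, fun hb0 => (hall b hb hb0).1⟩⟩
    by_contra hne
    obtain ⟨b1, b2, hb12, eb⟩ := f.bij.mapsTo hb
    change φ b = edge b1 b2 at eb
    obtain ⟨k, l, hkl, hk, hl⟩ := exists_edge_avoid ({b1, b2, p} : Finset (Fin m))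
      (lt_of_le_of_lt (Nat.add_le_add_right Finset.card_le_three 1) (by omega))
    simp only [Finset.mem_insert, Finset.mem_singleton, not_or] at hk hl
    obtain ⟨z, hz, ez⟩ := f.bij.surjOn (edge_mem hkl)
    obtain ⟨-, hMz⟩ := hall z hz (by rw [ez, edge_apply_eq_zero hkl]; exact ⟨Ne.symm hk.2.2, Ne.symm hl.2.2⟩)
    have hzb : Commute z b := by
      rw [f.commute_iff hSd hz hb, eb, ez, dot_symm, dot_edge,
        (edge_apply_eq_zero hkl).2 ⟨Ne.symm hk.1, Ne.symm hl.1⟩,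
        (edge_apply_eq_zero hkl).2 ⟨Ne.symm hk.2.1, Ne.symm hl.2.1⟩, add_zero]
    refine hne ((hMz b hb (fun w => ?_) hzb).1 hbT)
    have hk1 := (edge_apply_eq_one hkl (k := k)).2 (Or.inl rfl)
    rw [← ez, ← w, eb, (edge_apply_eq_zero hb12).2 ⟨hk.1, hk.2.1⟩] at hk1
    exact absurd hk1 (by decide)

end CfsgLib.Fischer
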