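import Cfsg.Agent.Fischer.StepSymp
import Cfsg.Agent.Fischer.StepSym
import Cfsg.Agent.Fischer.U4Refl
import Cfsg.Agent.Fischer.O6Data

/-!
Fischer's theorem: standard forms of orthogonal coordinates over two elements, and the small coincidences.
-/

set_option autoImplicit false
set_option linter.unusedSectionVars false

namespace CfsgLib.Fischer

open CfsgLib.ThreeT CfsgLib.ThreeT.Prod

universe u

variable {m : ℕ}

/-- The hyperbolic form. -/
def qplus (m : ℕ) (v : Fin m ⊕ Fin m → ZMod 2) : ZMod 2 := ∑ i, v (Sum.inl i) * v (Sum.inr i)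

/-- The anisotropic vector of the first pair. -/
def delta0 (m : ℕ) : Fin (m + 1) ⊕ Fin (m + 1) → ZMod 2 :=
  Pi.single (Sum.inl 0) 1 + Pi.single (Sum.inr 0) 1

/-- The elliptic form. -/
def qminus (m : ℕ) (v : Fin (m + 1) ⊕ Fin (m + 1) → ZMod 2) : ZMod 2 := qplus (m + 1) v + sform (m + 1) (delta0 m) v

theorem qplus_isQ (m : ℕ) : IsQ m (qplus m) := fun u v => by
  rw [sform_apply, CfsgLib.Symp.form_apply]
  simp only [qplus, Pi.add_apply, ← Finset.sum_add_distrib]
  refine Finset.sum_congr rfl fun i _ => ?_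
  exact (show ∀ a b c d : ZMod 2, (a + c) * (b + d) = a * b + c * d + (b * c - a * d) by decide) _ _ _ _

theorem qplus_delta0 (m : ℕ) : qplus (m + 1) (delta0 m) = 1 := by
  rw [qplus, Finset.sum_eq_single 0 (fun i _ hi => ?_) (by simp)]
  · simp [delta0]
  · simp [delta0, hi]

theorem sform_delta0 (v : Fin (m + 1) ⊕ Fin (m + 1) → ZMod 2) :
    sform (m + 1) (delta0 m) v = v (Sum.inr 0) + v (Sum.inl 0) := by
  rw [delta0, map_add, LinearMap.add_apply, sform_apply, sform_apply,
    CfsgLib.Symp.form_single_inl, CfsgLib.Symp.form_single_inr]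
  simp [CharTwo.neg_eq]

variable {G : Type u} [Group G] {D : Set G}

/-- Moving the form by a singular vector. -/
theorem quad_translate {q : (Fin m ⊕ Fin m → ZMod 2) → ZMod 2} (hq : IsQ m q) {φ : G → Fin m ⊕ Fin m → ZMod 2}
    (f : TwoCo D (sform m) {v | q v = 1} φ) {u : Fin m ⊕ Fin m → ZMod 2} (hu : q u = 0) :
    TwoCo D (sform m) {v | q v + sform m u v = 1} (fun x => tvec (sform m) u (φ x)) := by
  have hB : ∀ x y, sform m (tvec (sform m) u x) (tvec (sform m) u y) = sform m x y := by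
    intro x y
    simp only [tvec, map_add, map_smul, LinearMap.add_apply, LinearMap.smul_apply, smul_eq_mul, sform_self,
      sform_symm x u]
    generalize sform m u x = a; generalize sform m u y = b; generalize sform m x y = c
    revert a b c; decide
  have hinv : ∀ x, tvec (sform m) u (tvec (sform m) u x) = x := by
    intro x
    simp only [tvec, map_add, map_smul, smul_eq_mul, sform_self, mul_zero, add_zero]
    rw [add_assoc, vadd_self, add_zero]
  have hq' : ∀ x, q (tvec (sform m) u x) + sform m u (tvec (sform m) u x) = q x := by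
    intro x
    rw [hq.tvec_apply, hu]
    simp only [tvec, map_add, map_smul, smul_eq_mul, sform_self, mul_zero, add_zero]
    generalize q x = a; generalize sform m u x = b
    revert a b; decide
  refine ⟨⟨fun x hx => (hq' _).trans (f.bij.mapsTo hx), fun x hx y hy e => f.bij.injOn hx hy ?_, fun v hv => ?_⟩,
    f.symm, fun p _ => sform_self p, fun e => ?_, fun x hx y hy => ?_⟩
  · rw [← hinv (φ x), ← hinv (φ y)]
    exact congrArg _ e
  · obtain ⟨x, hx, e⟩ := f.bij.surjOn (show q (tvec (sform m) u v) = 1 by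
      rw [← hq' (tvec (sform m) u v), hinv]; exact hv)
    exact ⟨x, hx, by show tvec (sform m) u (φ x) = v; rw [e, hinv]⟩
  · have h0 : q 0 + sform m u 0 = 1 := e
    rw [hq.zero, map_zero, add_zero] at h0
    exact zero_ne_one h0
  · show tvec (sform m) u (φ (x * y * x)) = tvec (sform m) (tvec (sform m) u (φ x)) (tvec (sform m) u (φ y))
    rw [f.conj x hx y hy]
    have h2 := hB (φ x) (φ y)
    simp only [tvec] at h2 ⊢
    rw [h2]
    simp only [map_add, map_smul, smul_eq_mul]
    module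

/-- Every form over two elements is the hyperbolic or the elliptic one. -/
theorem quad_normal (h : QuadCo D (m + 1)) :
    (∃ φ, TwoCo D (sform (m + 1)) {v | qplus (m + 1) v = 1} φ) ∨
      ∃ φ, TwoCo D (sform (m + 1)) {v | qminus m v = 1} φ := by
  obtain ⟨q, hq, φ, f⟩ := h
  obtain ⟨δ, hδ⟩ := (qplus_isQ (m + 1)).exists_diff hq
  have h0 := qplus_delta0 m
  rcases two_cases (qplus (m + 1) δ) with e | e
  · have g := quad_translate hq f (u := δ) (by rw [hδ, sform_self, e, add_zero])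
    refine Or.inl ⟨fun x => tvec (sform (m + 1)) δ (φ x), ?_⟩
    have es : {v | q v + sform (m + 1) δ v = 1} = {v | qplus (m + 1) v = 1} := by
      ext v
      simp only [Set.mem_setOf_eq, hδ, add_assoc]
      rw [show sform (m + 1) δ v + sform (m + 1) δ v = 0 from
        (show ∀ a : ZMod 2, a + a = 0 by decide) _, add_zero]
    rwa [es] at g
  · refine Or.inr ⟨fun x => tvec (sform (m + 1)) (δ + delta0 m) (φ x), ?_⟩
    have g := quad_translate hq f (u := δ + delta0 m) (by
      rw [hδ, qplus_isQ (m + 1) δ, e, h0, map_add, sform_self, zero_add]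
      generalize sform (m + 1) δ (delta0 m) = a
      revert a; decide)
    have es : {v | q v + sform (m + 1) (δ + delta0 m) v = 1} = {v | qminus m v = 1} := by
      ext v
      simp only [Set.mem_setOf_eq, hδ, qminus, map_add, LinearMap.add_apply]
      rw [(show ∀ a b c : ZMod 2, a + b + (b + c) = a + c by decide) _ _ _]
    rwa [es] at g

/-- Six entries as a vector. -/
def enc6 (a : Fin 6 → ZMod 2) : Fin 3 ⊕ Fin 3 → ZMod 2 := Sum.elim ![a 0, a 1, a 2] ![a 3, a 4, a 5]

/-- A vector as six entries. -/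
def dec6 (v : Fin 3 ⊕ Fin 3 → ZMod 2) : Fin 6 → ZMod 2 :=
  ![v (Sum.inl 0), v (Sum.inl 1), v (Sum.inl 2), v (Sum.inr 0), v (Sum.inr 1), v (Sum.inr 2)]

theorem dec_enc (a : Fin 6 → ZMod 2) : dec6 (enc6 a) = a := by
  funext k; fin_cases k <;> rfl

theorem enc_dec (v : Fin 3 ⊕ Fin 3 → ZMod 2) : enc6 (dec6 v) = v := by
  funext k; rcases k with k | k <;> fin_cases k <;> rfl

theorem dec_tvec (u v : Fin 3 ⊕ Fin 3 → ZMod 2) : dec6 (tvec (sform 3) u v) = O6.tv (dec6 u) (dec6 v) := by
  funext k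
  have e : sform 3 u v = O6.bf (dec6 u) (dec6 v) := by
    rw [sform_apply, CfsgLib.Symp.form_apply]
    simp only [Fin.sum_univ_three, CharTwo.sub_eq_add, O6.bf, dec6, Matrix.cons_val]
    ring
  simp only [O6.tv, ← e]
  fin_cases k <;> simp [dec6, tvec]

theorem dec_qplus (v : Fin 3 ⊕ Fin 3 → ZMod 2) : qplus 3 v = O6.qp (dec6 v) := by
  simp only [qplus, Fin.sum_univ_three, O6.qp, dec6, Matrix.cons_val]

theorem dec_qminus (v : Fin 3 ⊕ Fin 3 → ZMod 2) : qminus 2 v = O6.qm (dec6 v) := by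
  rw [qminus, sform_delta0, dec_qplus, O6.qm]
  simp [dec6]

variable {N : ℕ}

/-- Numbering of coordinates by a table. -/
theorem table_index {q : (Fin 3 ⊕ Fin 3 → ZMod 2) → ZMod 2} {φ : G → Fin 3 ⊕ Fin 3 → ZMod 2}
    (f : TwoCo D (sform 3) {v | q v = 1} φ) (hD : Closed D) (A : Fin N → Fin 6 → ZMod 2)
    (qd : (Fin 6 → ZMod 2) → ZMod 2) (hqd : ∀ v, q v = qd (dec6 v)) (hn : ∀ i, qd (A i) = 1)
    (hinj : ∀ i j, (∀ k, A i k = A j k) → i = j)
    (hcov : ∀ a b c e g r : ZMod 2, qd ![a, b, c, e, g, r] = 1 → ∃ i, ∀ k, A i k = ![a, b, c, e, g, r] k) :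
    ∃ I : G → Option (Fin N), (∀ x ∈ D, ∃ i, I x = some i) ∧ (∀ x ∈ D, ∀ y ∈ D, I x = I y → x = y) ∧
      (∀ i, ∃ x ∈ D, I x = some i) ∧ ∀ x ∈ D, ∀ y ∈ D, ∀ i j l, I x = some i → I y = some j →
        (∀ k, A l k = O6.tv (A i) (A j) k) → I (x * y * x) = some l := by
  classical
  let I : G → Option (Fin N) := fun x => if h : ∃ i, A i = dec6 (φ x) then some h.choose else none
  have hI : ∀ x ∈ D, ∃ i, I x = some i ∧ A i = dec6 (φ x) := by
    intro x hx
    have hex : ∃ i, A i = dec6 (φ x) := by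
      obtain ⟨i, hi⟩ := hcov _ _ _ _ _ _ ((hqd (φ x)).symm.trans (f.bij.mapsTo hx))
      exact ⟨i, funext hi⟩
    exact ⟨hex.choose, dif_pos hex, hex.choose_spec⟩
  have hset : ∀ x ∈ D, ∀ i, A i = dec6 (φ x) → I x = some i := by
    intro x hx i hi
    obtain ⟨j, hj, hj'⟩ := hI x hx
    rw [hj, hinj j i fun k => congrFun (hj'.trans hi.symm) k]
  refine ⟨I, fun x hx => (hI x hx).imp fun i hi => hi.1, fun x hx y hy e => ?_, fun i => ?_,
    fun x hx y hy i j l hi hj hl => ?_⟩
  · obtain ⟨i, hi, hi'⟩ := hI x hx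
    obtain ⟨j, hj, hj'⟩ := hI y hy
    rw [hi, hj, Option.some.injEq] at e
    refine f.bij.injOn hx hy ?_
    rw [← enc_dec (φ x), ← enc_dec (φ y), ← hi', ← hj', e]
  · obtain ⟨x, hx, e⟩ := f.bij.surjOn (show q (enc6 (A i)) = 1 by rw [hqd, dec_enc, hn])
    exact ⟨x, hx, hset x hx i (by rw [e, dec_enc])⟩
  · refine hset _ (hD.conj x hx y hy) l ?_
    obtain ⟨i', hi1, hi2⟩ := hI x hx
    obtain ⟨j', hj1, hj2⟩ := hI y hy
    obtain rfl : i = i' := Option.some.inj (hi.symm.trans hi1)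
    obtain rfl : j = j' := Option.some.inj (hj.symm.trans hj1)
    rw [f.conj x hx y hy, dec_tvec, ← hi2, ← hj2]
    exact funext hl

theorem dot_eight (u v : Fin 8 → ZMod 2) : dot 8 u v = O6.d8 u v := by
  show ∑ i, u i * v i = _
  simp only [Fin.sum_univ_eight, O6.d8]
  ring

/-- The hyperbolic six-dimensional space is eight letters. -/
theorem plus_sym (hD : Closed D) {φ : G → Fin 3 ⊕ Fin 3 → ZMod 2}
    (f : TwoCo D (sform 3) {v | qplus 3 v = 1} φ) : SymCo D 8 := by
  obtain ⟨I, hI, hinj, hsurj, hconj⟩ :=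
    table_index f hD O6.pvec O6.qp dec_qplus O6.pvec_norm O6.pvec_inj O6.pvec_cover
  refine ⟨fun x => (I x).elim 0 O6.pedge, ⟨fun x hx => ?_, fun x hx y hy e => ?_, fun v hv => ?_⟩, dot_symm, ?_, ?_,
    fun x hx y hy => ?_⟩
  · obtain ⟨i, hi⟩ := hI x hx
    obtain ⟨a, b, hab, he⟩ := O6.pedge_edge i
    exact ⟨a, b, hab, funext fun k => by simp only [hi]; exact (he k).trans (edge_apply a b k).symm⟩
  · obtain ⟨i, hi⟩ := hI x hx
    obtain ⟨j, hj⟩ := hI y hy
    simp only [hi, hj] at e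
    exact hinj x hx y hy (by rw [hi, hj, O6.pedge_inj i j fun k => congrFun e k])
  · obtain ⟨a, b, hab, rfl⟩ := hv
    obtain ⟨i, hi⟩ := O6.pedge_cover a b hab
    obtain ⟨x, hx, e⟩ := hsurj i
    exact ⟨x, hx, funext fun k => by
      show (I x).elim 0 O6.pedge k = _
      rw [e]; exact (hi k).trans (edge_apply a b k).symm⟩
  · rintro _ ⟨a, b, hab, rfl⟩
    show dot 8 (edge a b) (edge a b) = 0
    rw [dot_edge, (edge_apply_eq_one hab).2 (Or.inl rfl), (edge_apply_eq_one hab).2 (Or.inr rfl)]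
    decide
  · rintro ⟨a, b, hab, e⟩
    have := congrFun e a
    rw [Pi.zero_apply, show (Pi.single a 1 + Pi.single b 1 : Fin 8 → ZMod 2) = edge a b from rfl,
      (edge_apply_eq_one hab).2 (Or.inl rfl)] at this
    exact one_ne_zero this.symm
  · obtain ⟨i, hi⟩ := hI x hx
    obtain ⟨j, hj⟩ := hI y hy
    obtain ⟨l, hl, hl'⟩ := O6.p_match i j
    simp only [hi, hj, hconj x hx y hy i j l hi hj hl]
    funext k
    show O6.pedge l k = tvec (dot 8) (O6.pedge i) (O6.pedge j) k
    simp only [hl' k, O6.tv8, tvec, Pi.add_apply, Pi.smul_apply, smul_eq_mul, dot_eight]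

theorem nfive_apply (v : Fin 5 → ZMod 3) : (-five) v = O6.n5 v := by
  rw [QuadraticMap.neg_apply, five_apply]
  rfl

theorem nfive_pb (v w : Fin 5 → ZMod 3) :
    pb (-five) v w = v 0 * w 0 + v 1 * w 1 + v 2 * w 2 + v 3 * w 3 + v 4 * w 4 := by
  show QuadraticMap.polar (⇑(-five)) v w = _
  rw [QuadraticMap.coeFn_neg, QuadraticMap.polar_neg, show QuadraticMap.polar (⇑five) v w = pb five v w from rfl,
    five_pb]
  generalize v 0 * w 0 + v 1 * w 1 + v 2 * w 2 + v 3 * w 3 + v 4 * w 4 = s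
  revert s; decide

theorem nfive_rvec (v w : Fin 5 → ZMod 3) : rvec (-five) v w = O6.rf v w := by
  funext k
  simp only [rvec, O6.rf, Pi.sub_apply, Pi.smul_apply, smul_eq_mul, nfive_pb]

theorem nfive_nondeg : (QuadraticMap.polarBilin (-five)).Nondegenerate := by
  have e : ∀ v w, pb (-five) v w = -pb five v w := fun v w => by
    show QuadraticMap.polar (⇑(-five)) v w = -QuadraticMap.polar (⇑five) v w
    rw [QuadraticMap.coeFn_neg, QuadraticMap.polar_neg]
  refine ⟨fun v hv => five_nondeg.1 v fun w => ?_, fun w hw => five_nondeg.2 w fun v => ?_⟩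
  · exact neg_eq_zero.1 ((e v w).symm.trans (hv w))
  · exact neg_eq_zero.1 ((e v w).symm.trans (hw v))

theorem nfive_det : Cfsg.polarGramDet (⇑(-five)) = 1 := by
  have e : (Matrix.of fun i j : Fin 5 => QuadraticMap.polar (⇑(-five)) (Pi.single i 1) (Pi.single j 1)) =
      -(Matrix.of fun i j : Fin 5 => QuadraticMap.polar (⇑five) (Pi.single i 1) (Pi.single j 1)) := by
    ext i j
    rw [Matrix.neg_apply, Matrix.of_apply, Matrix.of_apply, QuadraticMap.coeFn_neg, QuadraticMap.polar_neg]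
  rw [Cfsg.polarGramDet, e, Matrix.det_neg, Fintype.card_fin,
    show (Matrix.of fun i j : Fin 5 => QuadraticMap.polar (⇑five) (Pi.single i 1) (Pi.single j 1)).det =
      Cfsg.polarGramDet (⇑five) from rfl, five_det]
  decide

/-- The elliptic six-dimensional space is an orthogonal space of dimension five over three elements. -/
theorem minus_refl (hD : Closed D) {φ : G → Fin 3 ⊕ Fin 3 → ZMod 2}
    (f : TwoCo D (sform 3) {v | qminus 2 v = 1} φ) : RCo D 5 1 := by
  obtain ⟨I, hI, hinj, hsurj, hconj⟩ :=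
    table_index f hD O6.mvec O6.qm dec_qminus O6.mvec_norm O6.mvec_inj O6.mvec_cover
  refine ⟨-five, nfive_nondeg, nfive_det, fun x => (I x).elim 0 O6.mpts, fun x hx => ?_, fun x hx y hy e => ?_,
    fun v hv => ?_, fun x hx y hy => ?_⟩
  · obtain ⟨i, hi⟩ := hI x hx
    rw [nfive_apply, hi]
    exact O6.mpts_norm i
  · obtain ⟨i, hi⟩ := hI x hx
    obtain ⟨j, hj⟩ := hI y hy
    simp only [hi, hj] at e
    exact hinj x hx y hy (by rw [hi, hj, O6.mpts_inj i j (e.imp (fun q k => congrFun q k) fun q k => congrFun q k)])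
  · have ev : ∀ k, (![v 0, v 1, v 2, v 3, v 4] : Fin 5 → ZMod 3) k = v k := by intro k; fin_cases k <;> rfl
    obtain ⟨i, hi⟩ := O6.mpts_cover (v 0) (v 1) (v 2) (v 3) (v 4) (by
      rw [← hv, nfive_apply]; rfl)
    obtain ⟨x, hx, e⟩ := hsurj i
    refine ⟨x, hx, ?_⟩
    simp only [e]
    exact hi.imp (fun q => funext fun k => (q k).trans (ev k)) fun q => funext fun k => (q k).trans (by
      show -(![v 0, v 1, v 2, v 3, v 4] : Fin 5 → ZMod 3) k = -v k
      rw [ev])
  · obtain ⟨i, hi⟩ := hI x hx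
    obtain ⟨j, hj⟩ := hI y hy
    obtain ⟨l, hl, hl'⟩ := O6.m_match i j
    simp only [hi, hj, hconj x hx y hy i j l hi hj hl]
    show O6.mpts l = rvec (-five) (O6.mpts i) (O6.mpts j) ∨ O6.mpts l = -rvec (-five) (O6.mpts i) (O6.mpts j)
    rw [nfive_rvec]
    exact hl'.imp funext fun q => funext q

/-- Orthogonal groups in dimension six. -/
theorem quad_three (hD : Closed D) (h : QuadCo D 3) : SymCo D 8 ∨ RCo D 5 1 := by
  rcases quad_normal (m := 2) h with ⟨φ, f⟩ | ⟨φ, f⟩
  · exact Or.inl (plus_sym hD f)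
  · exact Or.inr (minus_refl hD f)

end CfsgLib.Fischer
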