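import Cfsg.Agent.Fischer.StepSymp

/-!
Fischer's theorem: orthogonal groups over two elements in dimension at least eight are no neighbourhoods.
-/

set_option autoImplicit false
set_option linter.unusedSectionVars false

namespace CfsgLib.Fischer

open CfsgLib.ThreeT CfsgLib.ThreeT.Prod

universe u

section form

variable {m : ℕ}

theorem exists_perp_all {k : ℕ} (hk : k < m + m) (S : Fin k → Fin m ⊕ Fin m → ZMod 2) :
    ∃ v, v ≠ 0 ∧ ∀ i, sform m (S i) v = 0 := by
  have hni : ¬ Function.Injective fun (v : Fin m ⊕ Fin m → ZMod 2) (i : Fin k) => sform m (S i) v := by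
    intro hinj
    have := Fintype.card_le_of_injective _ hinj
    simp only [Fintype.card_fun, Fintype.card_sum, Fintype.card_fin, ZMod.card] at this
    exact absurd ((Nat.pow_le_pow_iff_right (by norm_num)).1 this) (by omega)
  rw [Function.not_injective_iff] at hni
  obtain ⟨x, y, e, hne⟩ := hni
  refine ⟨x + y, fun r => hne ?_, fun i => ?_⟩
  · rw [← add_zero x, ← vadd_self y, ← add_assoc, r, zero_add]
  · rw [map_add, show sform m (S i) x = sform m (S i) y from congrFun e i, vadd_self]

/-- A linear functional is given by the form. -/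
theorem sform_repr (L : (Fin m ⊕ Fin m → ZMod 2) →ₗ[ZMod 2] ZMod 2) : ∃ v, sform m v = L := by
  refine ⟨Sum.elim (fun i => L (Pi.single (Sum.inr i) 1)) (fun i => L (Pi.single (Sum.inl i) 1)), ?_⟩
  refine (Pi.basisFun (ZMod 2) (Fin m ⊕ Fin m)).ext fun i => ?_
  rw [Pi.basisFun_apply]
  rcases i with i | i
  · rw [sform_symm, sform_apply, CfsgLib.Symp.form_single_inl]; simp
  · rw [sform_symm, sform_apply, CfsgLib.Symp.form_single_inr]; simp

theorem sum_solve : ∀ i j k s t r : ZMod 2, i + j + k = s + t + r → k + r = i + s + (j + t) := by decide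

end form

variable {G : Type u} [Group G] [Finite G] {D : Set G} {m : ℕ}
variable (h : Fi D) (hloc : ∀ a ∈ D, QuadCo (nb D a) m)
include h hloc

/-- The functional cutting out the common neighbours next to one of them. -/
theorem quad_local {d c a : G} (hd : d ∈ D) (hc : c ∈ D) (hdc : ¬ Commute d c) (ha : a ∈ tri D d c)
    {q : (Fin m ⊕ Fin m → ZMod 2) → ZMod 2} (hq : IsQ m q) {φ : G → Fin m ⊕ Fin m → ZMod 2}
    (f : TwoCo (nb D d) (sform m) {v | q v = 1} φ) :
    ∃ e, sform m e (φ a) = 1 ∧
      ∀ x ∈ nb D d, x ≠ a → Commute a x → (x ∈ tri D d c ↔ sform m e (φ x) = 0) := by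
  classical
  obtain ⟨q', hq', ψ, g⟩ := hloc a ha.1.1
  have hSd := h.nb_closed d
  have hSa := h.nb_closed a
  have hda : d ∈ nb D a := ⟨hd, ha.1.2.1.symm, ha.1.2.2.symm⟩
  have hca : c ∈ nb D a := ⟨hc, fun r => hdc (r ▸ ha.1.2.2), ha.2⟩
  have hqa : q (φ a) = 1 := f.bij.mapsTo ha.1
  have ha0 : φ a ≠ 0 := f.ne_zero ha.1
  let n : (Fin m ⊕ Fin m → ZMod 2) → ZMod 2 := fun p => if ∃ x ∈ tri D d c, φ x = p then 0 else 1
  let L : Set G := {x | x ∈ nb D d ∧ x ≠ a ∧ Commute a x}
  have hLa : ∀ x ∈ L, x ∈ nb D a := fun x hx => ⟨hx.1.1, hx.2.1, hx.2.2⟩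
  have hn : ∀ x ∈ L, n (φ x) = sform m (ψ x) (ψ c) := by
    intro x hx
    simp only [n]
    split_ifs with r
    · obtain ⟨y, hy, ey⟩ := r
      have hxy := f.bij.injOn hy.1 hx.1 ey
      exact ((g.commute_iff hSa (hLa x hx) hca).1 (hxy ▸ hy).2).symm
    · exact ((g.form_eq_one hSa (hLa x hx) hca).1 fun w => r ⟨x, ⟨hx.1, w⟩, rfl⟩).symm
  -- the sum over three reps lying over a line
  have key : ∀ x ∈ L, ∀ y ∈ L, ∀ z ∈ L, φ x + φ y + φ z = 0 ∨ φ x + φ y + φ z = φ a →
      n (φ x) + n (φ y) + n (φ z) = q (φ x + φ y + φ z) := by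
    intro x hx y hy z hz hsum
    have hcross : ∀ u ∈ L, ∀ w ∈ L, sform m (ψ u) (ψ w) = sform m (φ u) (φ w) := by
      intro u hu w hw
      have := (g.commute_iff hSa (hLa u hu) (hLa w hw)).symm.trans (f.commute_iff hSd hu.1 hw.1)
      revert this
      generalize sform m (ψ u) (ψ w) = i; generalize sform m (φ u) (φ w) = j
      revert i j; decide
    have hzero : ∀ w ∈ L, sform m (φ x + φ y + φ z) (φ w) = 0 := by
      intro w hw
      rcases hsum with r | r <;> rw [r]
      · simp
      · exact (f.commute_iff hSd ha.1 hw.1).1 hw.2.2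
    have hd0 : ∀ u ∈ L, sform m (ψ u) (ψ d) = 0 := fun u hu => (g.commute_iff hSa (hLa u hu) hda).1 hu.1.2.2.symm
    have hqd : q' (ψ d) = 1 := g.bij.mapsTo hda
    have hS : ψ x + ψ y + ψ z = 0 ∨ ψ x + ψ y + ψ z = ψ d := by
      refine sform_perp_perp (g.ne_zero hda) fun v hv => ?_
      have hrep : ∀ v, q' v = 1 → sform m (ψ d) v = 0 → sform m (ψ x + ψ y + ψ z) v = 0 := by
        intro v hv1 hv0
        obtain ⟨w, hw, rfl⟩ := g.bij.surjOn (show v ∈ {v | q' v = 1} from hv1)
        by_cases hwd : w = d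
        · simp only [hwd, map_add, LinearMap.add_apply, hd0 x hx, hd0 y hy, hd0 z hz, add_zero]
        have hwL : w ∈ L := ⟨⟨hw.1, hwd, (g.commute_iff hSa hda hw).2 hv0⟩, hw.2.1, hw.2.2⟩
        simp only [map_add, LinearMap.add_apply, hcross _ hx _ hwL, hcross _ hy _ hwL, hcross _ hz _ hwL]
        have := hzero w hwL
        simpa only [map_add, LinearMap.add_apply] using this
      rcases two_cases (q' v) with r | r
      · have h2 := hrep (v + ψ d) (by rw [hq', r, hqd, sform_symm, hv]; decide)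
          (by rw [map_add, hv, sform_self, add_zero])
        rw [map_add] at h2
        simp only [map_add, LinearMap.add_apply, hd0 x hx, hd0 y hy, hd0 z hz, add_zero] at h2 ⊢
        exact h2
      · exact hrep v r hv
    have hQ : q' (ψ x + ψ y + ψ z) = q (φ x + φ y + φ z) := by
      rw [hq', hq', hq, hq, g.bij.mapsTo (hLa x hx), g.bij.mapsTo (hLa y hy), g.bij.mapsTo (hLa z hz),
        f.bij.mapsTo hx.1, f.bij.mapsTo hy.1, f.bij.mapsTo hz.1]
      simp only [map_add, LinearMap.add_apply, hcross _ hx _ hy, hcross _ hx _ hz, hcross _ hy _ hz]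
    rw [hn x hx, hn y hy, hn z hz, ← hQ, ← LinearMap.add_apply, ← map_add, ← LinearMap.add_apply, ← map_add]
    rcases hS with r | r <;> rw [r]
    · simp [hq'.zero]
    · rw [hqd, (g.form_eq_one hSa hda hca).1 hdc]
  -- the functional on the hyperplane
  let lam : (Fin m ⊕ Fin m → ZMod 2) → ZMod 2 := fun w =>
    if w = 0 then 0 else if w = φ a then 1 else if q w = 1 then n w else 1 + n (w + φ a)
  have hla : ∀ w, sform m (φ a) w = 0 → lam (w + φ a) = lam w + 1 := by
    intro w hw
    by_cases w0 : w = 0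
    · subst w0; simp [lam, ha0]
    by_cases wa : w = φ a
    · subst wa; simp only [lam, vadd_self, ha0]; simp; decide
    have wa0 : w + φ a ≠ 0 := fun r => wa (by rw [← add_zero w, ← vadd_self (φ a), ← add_assoc, r, zero_add])
    have waa : w + φ a ≠ φ a := fun r => w0 (add_eq_right.1 r)
    have hq1 : q (w + φ a) = q w + 1 := by rw [hq, hqa, sform_symm, hw, add_zero]
    simp only [lam, if_neg w0, if_neg wa, if_neg wa0, if_neg waa, hq1, add_assoc, vadd_self, add_zero]
    rcases two_cases (q w) with r | r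
    · rw [if_pos (by rw [r]; rfl), if_neg (by rw [r]; decide)]
      generalize n (w + φ a) = i; revert i; decide
    · rw [if_neg (by rw [r]; decide), if_pos r]
      exact add_comm _ _
  have lam0 : lam 0 = 0 := if_pos rfl
  have lama : lam (φ a) = 1 := (if_neg ha0).trans (if_pos rfl)
  have hrep : ∀ w, w ≠ 0 → w ≠ φ a → sform m (φ a) w = 0 →
      ∃ x ∈ L, ∃ s : ZMod 2, φ x = w + s • φ a ∧ lam w = n (φ x) + s := by
    intro w w0 wa hw
    obtain ⟨s, hs1, hs2⟩ : ∃ s : ZMod 2, q (w + s • φ a) = 1 ∧ lam w = n (w + s • φ a) + s := by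
      rcases two_cases (q w) with r | r
      · refine ⟨1, by rw [one_smul, hq, r, hqa, sform_symm, hw]; decide, ?_⟩
        simp only [lam, if_neg w0, if_neg wa, if_neg (show ¬ q w = 1 by rw [r]; decide), one_smul]
        exact add_comm _ _
      · exact ⟨0, by rw [zero_smul, add_zero]; exact r, by simp [lam, w0, wa, r]⟩
    obtain ⟨x, hx, ex⟩ := f.bij.surjOn (show _ ∈ {v | q v = 1} from hs1)
    refine ⟨x, ⟨hx, fun r => ?_, ?_⟩, s, ex, by rw [ex]; exact hs2⟩
    · rcases two_cases s with rfl | rfl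
      · rw [zero_smul, add_zero, r] at ex; exact wa ex.symm
      · rw [one_smul, r] at ex; exact w0 (add_eq_right.1 ex.symm)
    · rw [f.commute_iff hSd ha.1 hx, ex, map_add, map_smul, hw, sform_self, smul_zero, add_zero]
  have hadd : ∀ u w, sform m (φ a) u = 0 → sform m (φ a) w = 0 → lam (u + w) = lam u + lam w := by
    intro u w hu hw
    by_cases u0 : u = 0
    · rw [u0, zero_add, lam0, zero_add]
    by_cases ua : u = φ a
    · rw [ua, add_comm, hla w hw, lama, add_comm]
    by_cases w0 : w = 0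
    · rw [w0, add_zero, lam0, add_zero]
    by_cases wa : w = φ a
    · rw [wa, hla u hu, lama]
    by_cases s0 : u + w = 0
    · have : u = w := by rw [← add_zero u, ← vadd_self w, ← add_assoc, s0, zero_add]
      rw [this, vadd_self, vadd_self, lam0]
    by_cases sa : u + w = φ a
    · have : w = u + φ a := by rw [← sa, ← add_assoc, vadd_self, zero_add]
      rw [sa, this, hla u hu, ← add_assoc, vadd_self, zero_add, lama]
    have hs : sform m (φ a) (u + w) = 0 := by rw [map_add, hu, hw, add_zero]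
    obtain ⟨x, hx, s, ex, es⟩ := hrep u u0 ua hu
    obtain ⟨y, hy, t, ey, et⟩ := hrep w w0 wa hw
    obtain ⟨z, hz, r, ez, er⟩ := hrep _ s0 sa hs
    have hsum : φ x + φ y + φ z = (s + t + r) • φ a := by
      rw [ex, ey, ez, add_smul, add_smul,
        show u + s • φ a + (w + t • φ a) + (u + w + r • φ a) =
          (u + u) + (w + w) + (s • φ a + t • φ a + r • φ a) by abel, vadd_self, vadd_self, zero_add, zero_add]
    have hk := key x hx y hy z hz (by
      rcases two_cases (s + t + r) with w | w <;> rw [hsum, w] <;> simp)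
    rw [hsum, hq.smul, hqa, mul_one] at hk
    rw [es, et, er]
    exact sum_solve _ _ _ _ _ _ hk
  obtain ⟨f₀, hf₀⟩ := sform_exists ha0
  have hproj : ∀ v, sform m (φ a) (v + sform m (φ a) v • f₀) = 0 := fun v => by
    rw [map_add, map_smul, hf₀, smul_eq_mul, mul_one, vadd_self]
  let Lm : (Fin m ⊕ Fin m → ZMod 2) →ₗ[ZMod 2] ZMod 2 :=
    { toFun := fun v => lam (v + sform m (φ a) v • f₀)
      map_add' := fun u v => by
        rw [← hadd _ _ (hproj u) (hproj v), map_add, add_smul]
        congr 1; abel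
      map_smul' := fun k v => by
        rcases two_cases k with rfl | rfl
        · simp only [zero_smul, map_zero, add_zero, lam0, RingHom.id_apply]
        · simp }
  obtain ⟨e, he⟩ := sform_repr Lm
  have heL : ∀ v, sform m (φ a) v = 0 → sform m e v = lam v := fun v hv => by
    rw [he]; show lam _ = _; rw [hv, zero_smul, add_zero]
  refine ⟨e, by rw [heL _ (sform_self _), lama], fun x hx hxa hax => ?_⟩
  rw [heL _ ((f.commute_iff hSd ha.1 hx).1 hax)]
  have h1 : q (φ x) = 1 := f.bij.mapsTo hx
  simp only [lam, if_neg (f.ne_zero hx), if_neg fun r => hxa (f.bij.injOn hx ha.1 r), if_pos h1, n]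
  split_ifs with r
  · obtain ⟨y, hy, ey⟩ := r
    exact iff_of_true (f.bij.injOn hy.1 hx ey ▸ hy) rfl
  · exact iff_of_false (fun w => r ⟨x, w, rfl⟩) (by decide)

/-- Orthogonal groups in dimension at least eight are no neighbourhoods. -/
theorem step_quad (hm : 4 ≤ m) : False := by
  obtain ⟨d, hd, -⟩ := h.width
  obtain ⟨c, hc, hdc⟩ := h.exists_far hd
  obtain ⟨q, hq, φ, f⟩ := hloc d hd
  obtain ⟨a, ha⟩ := h.tri_nonempty hd hc hdc
  obtain ⟨e, hea, hM⟩ := quad_local h hloc hd hc hdc ha hq f
  have hSd := h.nb_closed d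
  have hqa : q (φ a) = 1 := f.bij.mapsTo ha.1
  -- a common neighbour next to `a`
  obtain ⟨b, hb, hba, hab⟩ : ∃ b ∈ tri D d c, b ≠ a ∧ Commute a b := by
    obtain ⟨u, hu0, hu⟩ := exists_perp_all (k := 2) (by omega) ![φ a, e]
    have hua := hu 0; have hue := hu 1
    simp only [Matrix.cons_val_zero, Matrix.cons_val_one] at hua hue
    obtain ⟨v₀, hv₀⟩ := sform_exists hu0
    set v := v₀ + sform m e v₀ • φ a + sform m (φ a) v₀ • e with hv
    have hva : sform m (φ a) v = 0 := by
      simp only [hv, map_add, map_smul, smul_eq_mul, sform_self, sform_symm (φ a) e, hea, mul_zero, mul_one, add_zero]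
      exact vadd_self _
    have hve : sform m e v = 0 := by
      simp only [hv, map_add, map_smul, smul_eq_mul, sform_self, hea, mul_zero, mul_one, add_zero]
      exact vadd_self _
    have huv : sform m u v = 1 := by
      simp only [hv, map_add, map_smul, smul_eq_mul, sform_symm u (φ a), sform_symm u e, hua, hue, mul_zero, add_zero, hv₀]
    obtain ⟨w, hwq, hwa, hwe⟩ : ∃ w, q w = 1 ∧ sform m (φ a) w = 0 ∧ sform m e w = 0 := by
      rcases two_cases (q u) with r | r
      · rcases two_cases (q v) with s | s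
        · exact ⟨u + v, by rw [hq, r, s, huv]; decide, by rw [map_add, hua, hva, add_zero],
            by rw [map_add, hue, hve, add_zero]⟩
        · exact ⟨v, s, hva, hve⟩
      · exact ⟨u, r, hua, hue⟩
    obtain ⟨b, hb, rfl⟩ := f.bij.surjOn (show w ∈ {v | q v = 1} from hwq)
    have hba : b ≠ a := fun r => by rw [r, hea] at hwe; exact absurd hwe (by decide)
    have hab : Commute a b := (f.commute_iff hSd ha.1 hb).2 hwa
    exact ⟨b, (hM b hb hba hab).2 hwe, hba, hab⟩
  obtain ⟨e', heb, hM'⟩ := quad_local h hloc hd hc hdc hb hq f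
  have hebc : sform m e (φ b) = 0 := (hM b hb.1 hba hab).1 hb
  have hab0 : sform m (φ a) (φ b) = 0 := (f.commute_iff hSd ha.1 hb.1).1 hab
  obtain ⟨f₀, hf₀⟩ := sform_exists (f.ne_zero hb.1)
  set g := f₀ + sform m e f₀ • φ a + sform m (φ a) f₀ • e with hg
  have hbg : sform m (φ b) g = 1 := by
    simp only [hg, map_add, map_smul, smul_eq_mul, sform_symm (φ b) (φ a), hab0, sform_symm (φ b) e, hebc,
      mul_zero, add_zero, hf₀]
  obtain ⟨u, hu0, hu⟩ := exists_perp_all (k := 4) (by omega) ![φ a, e, φ b, g]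
  obtain ⟨k, hk⟩ := sform_exists hu0
  obtain ⟨w, hw0, hw⟩ := exists_perp_all (k := 6) (by omega) ![φ a, e, φ b, g, u, k]
  have hwu : w ≠ u := fun r => by
    have := hw 5
    simp only [show (![φ a, e, φ b, g, u, k] : Fin 6 → _) 5 = k from rfl] at this
    rw [r, sform_symm, hk] at this
    exact absurd this (by decide)
  -- the functional is one minus the form there
  have hL : ∀ x, x ≠ 0 → sform m (φ a) x = 0 → sform m e x = 0 → sform m (φ b) x = 0 → sform m g x = 0 →
      sform m e' x = 1 + q x := by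
    intro x hx0 hxa hxe hxb hxg
    rcases two_cases (q x) with r | r
    · obtain ⟨y, hy, ey⟩ := f.bij.surjOn (show x + φ b ∈ {v | q v = 1} by
        show q (x + φ b) = 1
        rw [hq, r, f.bij.mapsTo hb.1, sform_symm, hxb]; decide)
      have hya : y ≠ a := fun w => by
        rw [w] at ey
        have := hea; rw [ey, map_add, hxe, hebc] at this
        exact absurd this (by decide)
      have hay : Commute a y := by rw [f.commute_iff hSd ha.1 hy, ey, map_add, hxa, hab0, add_zero]
      have hyT : y ∈ tri D d c := (hM y hy hya hay).2 (by rw [ey, map_add, hxe, hebc, add_zero])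
      have hyb : y ≠ b := fun w => hx0 (add_eq_right.1 (w ▸ ey).symm)
      have := (hM' y hy hyb (by rw [f.commute_iff hSd hb.1 hy, ey, map_add, hxb, sform_self, add_zero])).1 hyT
      rw [ey, map_add, heb] at this
      rw [r]
      revert this; generalize sform m e' x = z; revert z; decide
    · obtain ⟨y, hy, ey⟩ := f.bij.surjOn (show x ∈ {v | q v = 1} from r)
      have hya : y ≠ a := fun w => by
        rw [← ey, w, hea] at hxe
        exact absurd hxe (by decide)
      have hyT : y ∈ tri D d c := (hM y hy hya ((f.commute_iff hSd ha.1 hy).2 (ey ▸ hxa))).2 (ey ▸ hxe)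
      have hyb : y ≠ b := fun w => by
        rw [← ey, w, sform_symm, hbg] at hxg
        exact absurd hxg (by decide)
      have := (hM' y hy hyb ((f.commute_iff hSd hb.1 hy).2 (ey ▸ hxb))).1 hyT
      rw [← ey, this, ey, r]; decide
  have e1 := hL u hu0 (hu 0) (hu 1) (hu 2) (hu 3)
  have e2 := hL w hw0 (hw 0) (hw 1) (hw 2) (hw 3)
  have e3 := hL (u + w) (fun r => hwu (by rw [← add_zero w, ← vadd_self u, ← add_assoc, add_comm w u, r, zero_add]))
    (by rw [map_add]; exact (congrArg₂ (· + ·) (hu 0) (hw 0)).trans (add_zero 0))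
    (by rw [map_add]; exact (congrArg₂ (· + ·) (hu 1) (hw 1)).trans (add_zero 0))
    (by rw [map_add]; exact (congrArg₂ (· + ·) (hu 2) (hw 2)).trans (add_zero 0))
    (by rw [map_add]; exact (congrArg₂ (· + ·) (hu 3) (hw 3)).trans (add_zero 0))
  have h4 : sform m u w = 0 := hw 4
  rw [map_add, e1, e2, hq, h4] at e3
  revert e3
  generalize q u = i; generalize q w = j
  revert i j; decide

end CfsgLib.Fischer
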