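import Cfsg.Agent.Fischer.StepSym

/-!
Fischer's theorem: symmetric neighbourhoods give symmetric coordinates.
-/

set_option autoImplicit false
set_option linter.unusedSectionVars false

namespace CfsgLib.Fischer

open CfsgLib.ThreeT CfsgLib.ThreeT.Prod

universe u

variable {G : Type u} [Group G] [Finite G] {D : Set G}

/-- A bijection of commuting graphs over two elements gives coordinates. -/
theorem twoCo_of_graph {V : Type*} [AddCommGroup V] [Module (ZMod 2) V] (h : Fi D) (hdet : TDet D)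
    {B : LinearMap.BilinForm (ZMod 2) V} {R : Set V} (hsymm : ∀ u v, B u v = B v u)
    (hself : ∀ p ∈ R, B p p = 0) (hnz : (0 : V) ∉ R) (hR : ∀ p ∈ R, ∀ q ∈ R, tvec B p q ∈ R)
    (Ψ : G → V) (hΨ : Set.BijOn Ψ D R) (hcom : ∀ x ∈ D, ∀ y ∈ D, (Commute x y ↔ B (Ψ x) (Ψ y) = 0)) :
    TwoCo D B R Ψ := by
  refine ⟨hΨ, hsymm, hself, hnz, conj_of_graph h hdet (com := fun p q => B p q = 0) ?_ Ψ hΨ hcom⟩
  refine ⟨fun p _ q _ e => by rw [hsymm]; exact e, fun p _ q _ e => by rw [tvec, e, zero_smul, add_zero],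
    hR, fun p hp q _ e r => hnz ?_, fun p hp q _ e r => e ?_, fun p _ q _ r _ e1 e2 => ?_⟩
  · rw [tvec, (two_ne_iff _).1 e, one_smul, add_eq_left] at r
    exact r ▸ hp
  · rw [tvec, map_add, map_smul, hself p hp, smul_zero, add_zero] at r
    exact r
  · rw [tvec, map_add, map_smul, e1, e2, smul_zero, add_zero]

/-- The transvection of an edge keeps edges. -/
theorem edges_closed {m : ℕ} : ∀ p ∈ edges m, ∀ q ∈ edges m, tvec (dot m) p q ∈ edges m := by
  rintro _ ⟨i, j, hij, rfl⟩ _ ⟨k, l, hkl, rfl⟩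
  change tvec (dot m) (edge i j) (edge k l) ∈ edges m
  rcases two_cases (dot m (edge i j) (edge k l)) with e | e
  · rw [tvec, e, zero_smul, add_zero]; exact edge_mem hkl
  · rw [tvec, e, one_smul]
    obtain ⟨r, s, t, -, -, hst, e1, e2⟩ := edge_meet hij hkl e
    rw [e1, e2, edge_add]
    exact edge_mem hst

variable {m : ℕ}

/-- Two further coordinates in front. -/
def up2 (a b : ZMod 2) (v : Fin m → ZMod 2) : Fin (m + 2) → ZMod 2 := Fin.cons a (Fin.cons b v)

theorem dot_up2 (a b a' b' : ZMod 2) (v v' : Fin m → ZMod 2) :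
    dot (m + 2) (up2 a b v) (up2 a' b' v') = a * a' + b * b' + dot m v v' := by
  simp [dot, up2, Fin.sum_univ_succ, add_assoc]

theorem up2_add (a b a' b' : ZMod 2) (v v' : Fin m → ZMod 2) :
    up2 a b v + up2 a' b' v' = up2 (a + a') (b + b') (v + v') := by
  funext i
  refine Fin.cases ?_ (fun j => Fin.cases ?_ (fun k => ?_) j) i <;> simp [up2]

theorem up2_inj {a b a' b' : ZMod 2} {v v' : Fin m → ZMod 2} (e : up2 a b v = up2 a' b' v') :
    a = a' ∧ b = b' ∧ v = v' := by
  unfold up2 at e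
  obtain ⟨h1, h2⟩ := Fin.cons_injective2 e
  obtain ⟨h3, h4⟩ := Fin.cons_injective2 h2
  exact ⟨h1, h3, h4⟩

theorem single_succ (j : Fin m) :
    (Pi.single j.succ.succ 1 : Fin (m + 2) → ZMod 2) = up2 0 0 (Pi.single j 1) := by
  funext i
  refine Fin.cases ?_ (fun q => Fin.cases ?_ (fun r => ?_) q) i
  · simp [up2, Pi.single_apply, eq_comm, Fin.succ_ne_zero]
  · simp only [up2, Fin.cons_succ, Fin.cons_zero, Pi.single_apply]
    rw [if_neg]
    intro e
    exact Fin.succ_ne_zero j (Fin.succ_injective _ e).symm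
  · simp only [up2, Fin.cons_succ, Pi.single_apply, Fin.succ_inj]

theorem single_zero : (Pi.single 0 1 : Fin (m + 2) → ZMod 2) = up2 1 0 0 := by
  funext i
  refine Fin.cases ?_ (fun q => Fin.cases ?_ (fun r => ?_) q) i <;>
    simp [up2, Pi.single_apply, Fin.succ_ne_zero]

theorem single_one : (Pi.single (Fin.succ 0) 1 : Fin (m + 2) → ZMod 2) = up2 0 1 0 := by
  funext i
  refine Fin.cases ?_ (fun q => Fin.cases ?_ (fun r => ?_) q) i
  · simp only [up2, Fin.cons_zero, Pi.single_apply]
    rw [if_neg (Fin.succ_ne_zero 0).symm]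
  · simp [up2, Pi.single_apply]
  · simp only [up2, Fin.cons_succ, Pi.single_apply, Pi.zero_apply, Fin.succ_inj]
    rw [if_neg (Fin.succ_ne_zero r)]

theorem edges_up2 : edges (m + 2) = {v | v = up2 1 1 0 ∨ (∃ w ∈ edges m, v = up2 0 0 w) ∨
    ∃ q : Fin m, v = up2 1 0 (Pi.single q 1) ∨ v = up2 0 1 (Pi.single q 1)} := by
  ext v
  constructor
  · rintro ⟨i, j, hij, rfl⟩
    rcases Fin.eq_zero_or_eq_succ i with rfl | ⟨i, rfl⟩ <;>
      rcases Fin.eq_zero_or_eq_succ j with rfl | ⟨j, rfl⟩
    · exact absurd rfl hij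
    · rcases Fin.eq_zero_or_eq_succ j with rfl | ⟨j, rfl⟩
      · exact Or.inl (by rw [single_zero, single_one, up2_add, add_zero, zero_add, add_zero])
      · exact Or.inr (Or.inr ⟨j, Or.inl (by rw [single_zero, single_succ, up2_add, add_zero, add_zero, zero_add])⟩)
    · rcases Fin.eq_zero_or_eq_succ i with rfl | ⟨i, rfl⟩
      · exact Or.inl (by rw [single_zero, single_one, up2_add, add_zero, zero_add, add_zero])
      · exact Or.inr (Or.inr ⟨i, Or.inl (by rw [single_zero, single_succ, up2_add, zero_add, zero_add, add_zero])⟩)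
    · rcases Fin.eq_zero_or_eq_succ i with rfl | ⟨i, rfl⟩ <;>
        rcases Fin.eq_zero_or_eq_succ j with rfl | ⟨j, rfl⟩
      · exact absurd rfl hij
      · exact Or.inr (Or.inr ⟨j, Or.inr (by rw [single_one, single_succ, up2_add, add_zero, add_zero, zero_add])⟩)
      · exact Or.inr (Or.inr ⟨i, Or.inr (by rw [single_one, single_succ, up2_add, zero_add, zero_add, add_zero])⟩)
      · exact Or.inr (Or.inl ⟨edge i j, edge_mem fun e => hij (by rw [e]), by
          rw [single_succ, single_succ, up2_add, add_zero]; rfl⟩)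
  · rintro (rfl | ⟨w, ⟨i, j, hij, rfl⟩, rfl⟩ | ⟨q, rfl | rfl⟩)
    · exact ⟨0, Fin.succ 0, (Fin.succ_ne_zero 0).symm, by
        rw [single_zero, single_one, up2_add, add_zero, zero_add, add_zero]⟩
    · exact ⟨i.succ.succ, j.succ.succ, fun e => hij (Fin.succ_injective _ (Fin.succ_injective _ e)), by
        rw [single_succ, single_succ, up2_add, add_zero]⟩
    · exact ⟨0, q.succ.succ, (Fin.succ_ne_zero _).symm, by
        rw [single_zero, single_succ, up2_add, add_zero, add_zero, zero_add]⟩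
    · exact ⟨Fin.succ 0, q.succ.succ, fun e => Fin.succ_ne_zero q (Fin.succ_injective _ e).symm, by
        rw [single_one, single_succ, up2_add, add_zero, add_zero, zero_add]⟩

/-- Symmetric neighbourhoods give a symmetric group. -/
theorem step_sym (h : Fi D) (hloc : ∀ a ∈ D, SymCo (nb D a) m) (hm : 5 ≤ m) (hm6 : m ≠ 6) :
    SymCo D (m + 2) := by
  classical
  obtain ⟨a, ha, -⟩ := h.width
  obtain ⟨c, hc, hdc⟩ := h.exists_far ha
  obtain ⟨φ, f⟩ := hloc a ha
  obtain ⟨p, hp⟩ := sym_global h hloc ha hc hdc f hm hm6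
  have hS := h.nb_closed a
  have hdet := sym_tdet h hloc hm
  let δ : Fin (m + 2) → ZMod 2 := up2 1 1 0
  let γ : Fin (m + 2) → ZMod 2 := up2 1 0 (Pi.single p 1)
  have hγv : ∀ v : Fin m → ZMod 2, dot (m + 2) (up2 0 0 v) γ = v p := fun v => by
    rw [dot_up2]; simp [dot, Pi.single_apply]
  have hδv : ∀ v : Fin m → ZMod 2, dot (m + 2) δ (up2 0 0 v) = 0 := fun v => by
    rw [dot_up2]; simp
  have hout : ∀ x ∈ nb D a, x ∉ tri D a c → ∃ q, p ≠ q ∧ φ x = edge p q := by
    intro x hx hxT
    obtain ⟨i, j, hij, e⟩ := f.bij.mapsTo hx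
    change φ x = edge i j at e
    have h1 := (two_ne_iff _).1 (mt (hp x hx).2 hxT)
    rw [e, edge_apply_eq_one hij] at h1
    rcases h1 with rfl | rfl
    exacts [⟨j, hij, e⟩, ⟨i, Ne.symm hij, e.trans (edge_comm _ _)⟩]
  have E : Ext D (dot (m + 2)) a c (fun x => up2 0 0 (φ x)) δ γ := by
    refine ⟨dot_symm, ?_, ?_, ?_, fun x hx y hy e => f.bij.injOn hx hy (up2_inj e).2.2, fun x hx => ?_,
      fun x _ => hδv _, fun x hx => ?_, fun x hx hxT => ?_, fun x hx y hy => ?_, fun x hx y hy q => ?_,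
      fun x hx e => f.ne_zero hx ?_, fun x hx e => ?_, fun x _ y _ _ _ e => ?_, fun x hx y hy hxT hyT q => ?_,
      fun z hz hdz => ?_⟩
    · simp only [δ, dot_up2, map_zero]; decide
    · simp only [γ, dot_up2]; simp [dot, Pi.single_apply]; decide
    · simp only [γ, δ, dot_up2, map_zero, LinearMap.zero_apply]; decide
    · rw [dot_up2, mul_zero, add_zero, zero_add]; exact f.self _ (f.bij.mapsTo hx)
    · rw [hγv]; exact (hp x hx.1).1 hx
    · rw [hγv]; exact (two_ne_iff _).1 (mt (hp x hx).2 hxT)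
    · rw [f.commute_iff hS hx hy, dot_up2, mul_zero, add_zero, zero_add]
    · show up2 0 0 (φ (x * y * x)) = _
      rw [f.conj_add hS hx hy q, up2_add, add_zero]
    · have := congrFun e
      have h2 : up2 0 0 (φ x) = up2 0 0 0 := by
        rw [e]; funext i; refine Fin.cases ?_ (fun j => Fin.cases ?_ (fun k => ?_) j) i <;> simp [up2]
      exact (up2_inj h2).2.2
    · exact absurd (up2_inj e).1 (by decide)
    · simp only [up2_add, δ] at e
      exact absurd (up2_inj e).1 (by decide)
    · obtain ⟨q1, hq1, e1⟩ := hout x hx hxT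
      obtain ⟨q2, hq2, e2⟩ := hout y hy hyT
      have hne : q1 ≠ q2 := fun w => q (by
        rw [f.bij.injOn hx hy (by rw [e1, e2, w])])
      rw [hp _ (hS.conj x hx y hy), f.conj_add hS hx hy q, e1, e2, edge_add, edge_apply_eq_zero hne]
      exact ⟨hq1, hq2⟩
    · obtain ⟨p', hp'⟩ := sym_global h hloc ha hz hdz f hm hm6
      by_cases hpp : p' = p
      · have heq : tri D a z = tri D a c := Set.ext fun x => by
          constructor
          · exact fun q => (hp x q.1).2 (hpp ▸ (hp' x q.1).1 q)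
          · exact fun q => (hp' x q.1).2 (hpp.symm ▸ (hp x q.1).1 q)
        rcases hdet a ha c hc z hz hdc hdz heq with rfl | rfl
        exacts [Or.inl (Commute.refl _), Or.inr (Commute.refl _)]
      · obtain ⟨u, hu, eu⟩ := f.bij.surjOn (edge_mem (Ne.symm hpp))
        have huT : u ∉ tri D a c := fun q => by
          have := (hp u hu).1 q
          rw [eu, (edge_apply_eq_one (Ne.symm hpp)).2 (Or.inl rfl)] at this
          exact absurd this (by decide)
        have heq : tri D a z = tri D a (xx c u) := by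
          ext x
          by_cases hx : x ∈ nb D a
          swap
          · exact iff_of_false (fun q => hx q.1) fun q => hx q.1
          have h1 : x ∈ tri D a (xx c u) ↔ u * x * u ∈ tri D a c :=
            ⟨fun q => (commute_xx_nb h ha hc hdc hu hx).1 q.2.symm,
              fun q => ⟨hx, ((commute_xx_nb h ha hc hdc hu hx).2 q).symm⟩⟩
          rw [h1, hp' x hx, hp _ (hS.conj u hu x hx), f.conj u hu x hx, tvec, eu, dot_edge, Pi.add_apply,
            Pi.smul_apply, smul_eq_mul, (edge_apply_eq_one (Ne.symm hpp)).2 (Or.inl rfl), mul_one, ← add_assoc]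
          rw [show φ x p + φ x p = 0 from vadd_self _, zero_add]
        rcases hdet a ha (xx c u) (xx_mem h ha hc hdc hu) z hz (xx_far_d h ha hc hdc hu) hdz heq with rfl | rfl
        · exact Or.inr (xx_comm_c' h ha hc hdc hu huT)
        · rw [← yy_eq_dxd h ha hc hdc hu]
          exact Or.inl (yy_comm_c h ha hc hdc hu huT)
  obtain ⟨Ψ, hΨ, hcom, -, -, -⟩ := Ext.exists_map h ha hc hdc E
  have hrange : Ext.range D a c (fun x => up2 0 0 (φ x)) δ γ = edges (m + 2) := by
    rw [edges_up2]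
    have hps : ∀ q, Pi.single p (1 : ZMod 2) + edge p q = Pi.single q 1 := fun q => by
      rw [edge, ← add_assoc, vadd_self, zero_add]
    ext v
    simp only [Ext.range, Set.mem_setOf_eq]
    constructor
    · rintro (rfl | ⟨x, hx, rfl⟩ | rfl | rfl | ⟨x, hx, hxT, rfl⟩ | ⟨x, hx, hxT, rfl⟩)
      · exact Or.inl rfl
      · exact Or.inr (Or.inl ⟨_, f.bij.mapsTo hx, rfl⟩)
      · exact Or.inr (Or.inr ⟨p, Or.inl rfl⟩)
      · exact Or.inr (Or.inr ⟨p, Or.inr (by simp only [γ, δ, up2_add, add_zero, zero_add]; rfl)⟩)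
      · obtain ⟨q, -, e⟩ := hout x hx hxT
        exact Or.inr (Or.inr ⟨q, Or.inl (by simp only [γ, up2_add, add_zero, e, hps])⟩)
      · obtain ⟨q, -, e⟩ := hout x hx hxT
        exact Or.inr (Or.inr ⟨q, Or.inr (by simp only [γ, δ, up2_add, add_zero, zero_add, e, hps]; rfl)⟩)
    · rintro (rfl | ⟨w, hw, rfl⟩ | ⟨q, hq⟩)
      · exact Or.inl rfl
      · obtain ⟨x, hx, rfl⟩ := f.bij.surjOn hw
        exact Or.inr (Or.inl ⟨x, hx, rfl⟩)
      · by_cases hpq : q = p
        · subst hpq
          rcases hq with rfl | rfl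
          · exact Or.inr (Or.inr (Or.inl rfl))
          · exact Or.inr (Or.inr (Or.inr (Or.inl (by simp only [γ, δ, up2_add, add_zero, zero_add]; rfl))))
        · obtain ⟨x, hx, ex⟩ := f.bij.surjOn (edge_mem (Ne.symm hpq))
          have hxT : x ∉ tri D a c := fun r => by
            have := (hp x hx).1 r
            rw [ex, (edge_apply_eq_one (Ne.symm hpq)).2 (Or.inl rfl)] at this
            exact absurd this (by decide)
          rcases hq with rfl | rfl
          · exact Or.inr (Or.inr (Or.inr (Or.inr (Or.inl ⟨x, hx, hxT, by simp only [γ, up2_add, add_zero, ex, hps]⟩))))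
          · exact Or.inr (Or.inr (Or.inr (Or.inr (Or.inr ⟨x, hx, hxT, by
              simp only [γ, δ, up2_add, add_zero, zero_add, ex, hps]; rfl⟩))))
  rw [hrange] at hΨ
  exact ⟨Ψ, twoCo_of_graph (R := edges (m + 2)) h hdet dot_symm
    (fun v ⟨i, j, hij, e⟩ => by
      rw [e]; change dot _ (edge i j) (edge i j) = 0
      rw [dot_edge, (edge_apply_eq_one hij).2 (Or.inl rfl), (edge_apply_eq_one hij).2 (Or.inr rfl)]; decide)
    (fun ⟨i, j, hij, e⟩ => by
      have := congrFun e i
      change (0 : ZMod 2) = edge i j i at this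
      rw [(edge_apply_eq_one hij).2 (Or.inl rfl)] at this
      exact absurd this (by decide))
    edges_closed Ψ hΨ hcom⟩

end CfsgLib.Fischer
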