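import Cfsg.Agent.Fischer.ReflGood

/-!
Fischer's theorem: no group has neighbourhoods of type M(24).
-/

set_option autoImplicit false
set_option linter.unusedSectionVars false
set_option linter.style.haveILetI false

namespace CfsgLib.Fischer

open CfsgLib.ThreeT CfsgLib.ThreeT.Prod

universe u

theorem exists_far_perp {n : ℕ} {Q : QuadraticForm (ZMod 3) (Fin n → ZMod 3)}
    (hQ : (QuadraticMap.polarBilin Q).Nondegenerate) (hn : 6 ≤ n) {u v : Fin n → ZMod 3} (qu : Q u = 1) (qv : Q v = 1)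
    (huv : pb Q u v = 0) :
    ∃ x w, Q x = 1 ∧ pb Q u x ≠ 0 ∧ pb Q v x = 0 ∧ pb Q w u = 0 ∧ pb Q w x ≠ 0 := by
  have h1 := ((nd_top hQ).perp_aniso (s := u) trivial (by rw [qu]; decide)).perp_aniso (s := v) ⟨trivial, huv⟩
    (by rw [qv]; decide)
  have d0 := finrank_perp Q (⊤ : Submodule (ZMod 3) (Fin n → ZMod 3)) u
  have d1 := finrank_perp Q (perp Q ⊤ u) v
  have dt := finrank_top' (n := n)
  obtain ⟨w1, hw1, q1⟩ := h1.exists_one (by omega)
  have h2 := h1.perp_aniso hw1 (by rw [q1]; decide)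
  have d2 := finrank_perp Q (perp Q (perp Q ⊤ u) v) w1
  obtain ⟨w2, hw2, q2⟩ := h2.exists_one (by omega)
  have h3 := h2.perp_aniso hw2 (by rw [q2]; decide)
  have d3 := finrank_perp Q (perp Q (perp Q (perp Q ⊤ u) v) w1) w2
  obtain ⟨w3, hw3, q3⟩ := h3.exists_one (by omega)
  have u1 : pb Q u w1 = 0 := hw1.1.2
  have v1 : pb Q v w1 = 0 := hw1.2
  have u2 : pb Q u w2 = 0 := hw2.1.1.2
  have v2 : pb Q v w2 = 0 := hw2.1.2
  have a2 : pb Q w1 w2 = 0 := hw2.2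
  have u3 : pb Q u w3 = 0 := hw3.1.1.1.2
  have v3 : pb Q v w3 = 0 := hw3.1.1.2
  have a3 : pb Q w1 w3 = 0 := hw3.1.2
  have b3 : pb Q w2 w3 = 0 := hw3.2
  refine ⟨u + w1 + w2 + w3, w1, ?_, ?_, ?_, ?_, ?_⟩
  · simp only [q_add, qu, q1, q2, q3, map_add, LinearMap.add_apply, u1, u2, u3, a2, a3, b3]; decide
  · simp only [map_add, pb_self, qu, u1, u2, u3]; decide
  · simp only [map_add, pb_symm Q v u, huv, v1, v2, v3, add_zero]
  · rw [pb_symm, u1]
  · simp only [map_add, pb_self, q1, pb_symm Q w1 u, u1, a2, a3]; decide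

variable {G : Type u} [Group G]

/-- The parts, closed and separated. -/
theorem three_parts {L : Set G} (hL : Closed L) (h : ThreeR8 L) :
    ∃ C : Fin 3 → Set G, (∀ x ∈ L, ∃ i, x ∈ C i) ∧ (∀ i, C i ⊆ L) ∧ (∀ i, Closed (C i)) ∧ (∀ i, RCo (C i) 8 1) ∧
      (∀ i j, i ≠ j → ∀ x ∈ C i, ∀ y ∈ C j, ¬ Commute x y) ∧
      ∀ i, ∀ x ∈ C i, ∀ y ∈ L, Commute x y → y ∈ C i := by
  obtain ⟨C, hu, hC, hcl, hfar⟩ := h
  have hsub : ∀ i, C i ⊆ L := fun i x hx => by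
    rw [hu]; fin_cases i
    exacts [Or.inl (Or.inl hx), Or.inl (Or.inr hx), Or.inr hx]
  have hcov : ∀ x ∈ L, ∃ i, x ∈ C i := fun x hx => by
    rw [hu] at hx
    rcases hx with (e | e) | e
    exacts [⟨0, e⟩, ⟨1, e⟩, ⟨2, e⟩]
  refine ⟨C, hcov, hsub, fun i => hL.mono (hsub i) fun x hx y hy =>
    hcl i x hx y hy (hL.conj x (hsub i hx) y (hsub i hy)), hC, hfar, fun i x hx y hy hxy => ?_⟩
  obtain ⟨j, hj⟩ := hcov y hy
  by_cases e : i = j
  · exact e ▸ hj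
  · exact absurd hxy (hfar i j e x hx y hj)

theorem other_part (i : Fin 3) : ∃ j, i ≠ j := by revert i; decide

theorem part_nb {S : Set G} (hS : Closed S) (h : RCo S 8 1) {a : G} (ha : a ∈ S) :
    ∃ w ∈ S, w ≠ a ∧ Commute a w := by
  obtain ⟨Q, hQ, -, φ, f⟩ := h
  obtain ⟨v, qv, hv⟩ := exists_orth_one hQ (by norm_num) (f.norm a ha)
  obtain ⟨w, hw, k, hk, ew⟩ := f.exists_rep qv
  have e0 := (RC.rep_form f hk ew (φ a)).2 hv
  refine ⟨w, hw, fun e => ?_, f.commute_of_form hS ha hw e0⟩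
  rw [e, f.self_form ha] at e0
  exact absurd e0 (by decide)

/-- Three separated orthogonal spaces: twin-free and disconnected. -/
theorem three_good {L : Set G} (hL : Closed L) (h : ThreeR8 L) : NoTwins L ∧ Edge L ∧ ¬ Conn L := by
  obtain ⟨C, hcov, hsub, hcl, hC, hfar, hstep⟩ := three_parts hL h
  obtain ⟨x0, hx0⟩ := rco_nonempty (by norm_num) (hC 0)
  obtain ⟨y0, hy0⟩ := rco_nonempty (by norm_num) (hC 1)
  refine ⟨⟨fun a ha b hb hab => ?_, fun a ha b hb hab => ?_⟩, ?_, fun hc => ?_⟩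
  · by_contra hne
    have hc : Commute a b := (hab b hb).2 (Commute.refl b)
    obtain ⟨i, hai⟩ := hcov a ha
    have hbi := hstep i a hai b hb hc
    obtain ⟨Q, hQ, -, φ, f⟩ := hC i
    obtain ⟨x, w, qx, hax, hbx, hwa, hwx⟩ := exists_far_perp hQ (by norm_num) (f.norm a hai) (f.norm b hbi)
      ((f.com_iff (hcl i) hai hbi hne).1 hc)
    obtain ⟨z, hz, k, hk, ez⟩ := f.exists_rep qx
    have hza : a ≠ z := fun e => hwx ((RC.rep_form f hk ez w).1 (e ▸ hwa))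
    have hbz : Commute b z := f.commute_of_form (hcl i) hbi hz ((RC.rep_form f hk ez (φ b)).2 hbx)
    exact hax ((RC.rep_form f hk ez (φ a)).1 ((f.com_iff (hcl i) hai hz hza).1 ((hab z (hsub i hz)).2 hbz)))
  · by_contra hne
    have hc : ¬ Commute a b := fun q => by
      have : b ∈ nb L b := hab ▸ (⟨hb, Ne.symm hne, q⟩ : b ∈ nb L a)
      exact this.2.1 rfl
    obtain ⟨i, hai⟩ := hcov a ha
    obtain ⟨w, hw, hwa, hcw⟩ := part_nb (hcl i) (hC i) hai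
    have hwb : w ∈ nb L b := hab ▸ (⟨hsub i hw, hwa, hcw⟩ : w ∈ nb L a)
    have hbi := hstep i w hw b hb hwb.2.2.symm
    obtain ⟨Q, hQ, -, φ, f⟩ := hC i
    obtain ⟨h1, h2⟩ := f.ne_vec hai hbi hne
    obtain ⟨x, qx, hax, hbx⟩ := exists_perp_not_perp hQ (by norm_num) (f.norm a hai) (f.norm b hbi)
      (fun e => hc ((f.com_iff (hcl i) hai hbi hne).2 e)) h1 h2
    obtain ⟨z, hz, k, hk, ez⟩ := f.exists_rep qx
    have hza : z ≠ a := by
      intro e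
      have := (RC.rep_form f hk ez (φ a)).2 hax
      rw [e, f.self_form hai] at this
      exact absurd this (by decide)
    have hzb : z ∈ nb L b := hab ▸ (⟨hsub i hz, hza,
      f.commute_of_form (hcl i) hai hz ((RC.rep_form f hk ez (φ a)).2 hax)⟩ : z ∈ nb L a)
    exact hbx ((RC.rep_form f hk ez (φ b)).1 ((f.com_iff (hcl i) hbi hz hzb.2.1.symm).1 hzb.2.2))
  · obtain ⟨w, hw, hwx, hcw⟩ := part_nb (hcl 0) (hC 0) hx0
    exact ⟨x0, hsub 0 hx0, w, hsub 0 hw, hwx.symm, hcw⟩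
  · have key : ∀ y, Link L x0 y → y ∈ C 0 := by
      intro y hy
      induction hy with
      | refl => exact hx0
      | @tail p q _ hpq ih => exact hstep 0 p ih q hpq.2.1 hpq.2.2
    exact hfar 0 1 (by decide) y0 (key y0 (hc x0 (hsub 0 hx0) y0 (hsub 1 hy0))) y0 hy0 (Commute.refl y0)

variable [Finite G] {D : Set G}

/-- No group has neighbourhoods of type M(24). -/
theorem twentyFour_false (h : Fi D) (hloc : ∀ a ∈ D, T24 (nb D a)) : False := by
  obtain ⟨d, hd, -⟩ := h.width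
  obtain ⟨c, hc, hdc⟩ := h.exists_far hd
  obtain ⟨a₀, ha₀⟩ := h.tri_nonempty hd hc hdc
  set T := tri D d c
  have hlocT : ∀ a ∈ T, ThreeR8 (nb T a) := by
    intro a ha
    have e : nb T a = tri (nb D a) d c := by
      ext x
      constructor
      · rintro ⟨⟨⟨hx, hxd, hdx⟩, hxc⟩, hxa, hax⟩
        exact ⟨⟨⟨hx, hxa, hax⟩, hxd, hdx⟩, hxc⟩
      · rintro ⟨⟨⟨hx, hxa, hax⟩, hxd, hdx⟩, hxc⟩
        exact ⟨⟨⟨hx, hxd, hdx⟩, hxc⟩, hxa, hax⟩
    rw [e]
    exact (hloc a ha.1.1).2 d ⟨hd, ha.1.2.1.symm, ha.1.2.2.symm⟩ c ⟨hc, fun q => hdc (q ▸ ha.1.2.2), ha.2⟩ hdc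
  set S := comp T a₀
  have hS : Closed S := comp_closed (h.closed.tri d c) a₀
  have hl : ∀ x ∈ S, ThreeR8 (nb S x) := fun x hx => by
    rw [comp_nb hx]
    exact hlocT x hx.1
  have htw : NoTwins S := by
    refine ⟨fun a ha b hb hab => ?_, fun a ha b hb hab => ?_⟩
    · by_contra hne
      have hcm : Commute a b := (hab b hb).2 (Commute.refl b)
      obtain ⟨C, hcov, hsub, -, hC, hfar, -⟩ := three_parts (hS.nb a) (hl a ha)
      obtain ⟨i, hi⟩ := hcov b ⟨hb, Ne.symm hne, hcm⟩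
      obtain ⟨j, hij⟩ := other_part i
      obtain ⟨z, hz⟩ := rco_nonempty (by norm_num) (hC j)
      exact hfar i j hij b hi z hz ((hab z (hsub j hz).1).1 (hsub j hz).2.2)
    · by_contra hne
      obtain ⟨z, hz⟩ : (nb S a).Nonempty := by
        obtain ⟨C, -, hsub, -, hC, -, -⟩ := three_parts (hS.nb a) (hl a ha)
        obtain ⟨z, hz⟩ := rco_nonempty (by norm_num) (hC 0)
        exact ⟨z, hsub 0 hz⟩
      have hz' : z ∈ nb S b := hab ▸ hz
      refine hne ((three_good (hS.nb z) (hl z hz.1)).1.far a ⟨ha, hz.2.1.symm, hz.2.2.symm⟩ b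
        ⟨hb, hz'.2.1.symm, hz'.2.2.symm⟩ (Set.ext fun w => ?_))
      constructor <;> intro hw
      · have : w ∈ nb S b := hab ▸ (⟨hw.1.1, hw.2⟩ : w ∈ nb S a)
        exact ⟨hw.1, this.2⟩
      · have : w ∈ nb S a := hab.symm ▸ (⟨hw.1.1, hw.2⟩ : w ∈ nb S b)
        exact ⟨hw.1, this.2⟩
  have hone : OneClass S := by
    refine oneClass_of hS (comp_conn a₀) fun x hx y hy hne hxy => ?_
    obtain ⟨C, hcov, hsub, hcl, hC, -, -⟩ := three_parts (hS.nb x) (hl x hx)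
    obtain ⟨i, hi⟩ := hcov y ⟨hy, hne.symm, hxy⟩
    obtain ⟨w, hw, hwy, hcw⟩ := part_nb (hcl i) (hC i) hi
    have hw' := hsub i hw
    obtain ⟨C', hcov', hsub', -, hC', hfar', hstep'⟩ := three_parts (hS.nb w) (hl w hw'.1)
    obtain ⟨k, hk⟩ := hcov' x ⟨hx, hw'.2.1.symm, hw'.2.2.symm⟩
    have hyk := hstep' k x hk y ⟨hy, hwy.symm, hcw.symm⟩ hxy
    obtain ⟨j, hkj⟩ := other_part k
    obtain ⟨s, hs⟩ := rco_nonempty (by norm_num) (hC' j)
    exact ⟨s, (hsub' j hs).1, hfar' k j hkj x hk s hs, hfar' k j hkj y hyk s hs⟩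
  have ha₀S : a₀ ∈ S := mem_comp_self ha₀
  have he : Edge S := by
    obtain ⟨C, -, hsub, -, hC, -, -⟩ := three_parts (hS.nb a₀) (hl a₀ ha₀S)
    obtain ⟨z, hz⟩ := rco_nonempty (by norm_num) (hC 0)
    exact ⟨a₀, ha₀S, z, (hsub 0 hz).1, (hsub 0 hz).2.1.symm, (hsub 0 hz).2.2⟩
  have hfi := fi_quot hS htw (comp_conn a₀) hone he
  have f := SIso.qmap hS htw
  have hq := f.bij.mapsTo ha₀S
  obtain ⟨ψ, g, hg⟩ := f.symm hS
  have hl' : ThreeR8 (nb (qimg S) (Fischer.qmap S a₀)) :=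
    ThreeR8.comp (g.nb hq) (by rw [hg a₀ ha₀S]; exact hl a₀ ha₀S)
  obtain ⟨htw', he', hnc⟩ := three_good (hfi.nb_closed _) hl'
  exact hnc (hfi.nb_conn hq htw' he')

end CfsgLib.Fischer
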