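import Cfsg.Agent.Fischer.Start
import Cfsg.Agent.Fischer.StepSymEnd
import Cfsg.Agent.Fischer.StepQuad
import Cfsg.Agent.Fischer.QuadNormal
import Cfsg.Agent.Fischer.TwentyThree
import Cfsg.Agent.Fischer.TwentyFour

/-!
Fischer's theorem: the types of groups satisfying the hypothesis.
-/

set_option autoImplicit false
set_option linter.unusedSectionVars false
set_option linter.style.haveILetI false

namespace CfsgLib.Fischer

open CfsgLib.ThreeT CfsgLib.ThreeT.Prod CfsgLib.ThreeT.Tv

universe u

variable {G : Type u} [Group G] [Finite G] {D : Set G}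

/-- A unitary set in dimension at least four, small coincidences removed. -/
theorem Known.of_uco (hD : Closed D) {n : ℕ} (hn : 4 ≤ n) (h : UCo D n) : Known D := by
  by_cases h4 : n = 4
  · subst h4
    obtain ⟨K, i1, i2, hK, φ, f⟩ := h
    obtain ⟨W⟩ := Tv.exists_wt hK
    obtain ⟨χ, g⟩ := uni_four_refl W f hD
    exact .refl 5 le_rfl 2 ⟨five, five_nondeg, five_det, χ, g⟩
  · exact .uni n (by omega) h

/-- The types of the neighbourhoods give the type. -/
theorem known_step (h : Fi D) (hgood : ∀ a ∈ D, NoTwins (nb D a) ∧ Fi (qimg (nb D a))) {d : G} (hd : d ∈ D)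
    (hk : Known (nb D d)) : Known D := by
  have hs : ∀ a ∈ D, ∃ φ : G → G, SIso (nb D a) (nb D d) φ := fun a ha => h.nb_siso ha hd
  cases hk with
  | sym m hm h' =>
    exact .sym (m + 2) (by omega) (step_sym h
      (fun a ha => let ⟨_, f⟩ := hs a ha; h'.comp f) (by omega) (by omega))
  | symp m hm h' =>
    have hq := step_symp (m := m) h (fun a ha => let ⟨_, f⟩ := hs a ha; h'.comp f)
    by_cases h2 : m = 2
    · subst h2
      rcases quad_three h.closed hq with hq | hq
      · exact .sym 8 (by omega) hq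
      · exact .refl 5 le_rfl 1 hq
    · exact .quad (m + 1) (by omega) hq
  | quad m hm h' =>
    exact (step_quad (m := m) h (fun a ha => let ⟨_, f⟩ := hs a ha; h'.comp f) hm).elim
  | uni n hn h' =>
    exact .t22 (step_uni h (fun a ha => let ⟨_, f⟩ := hs a ha; h'.comp f) hn)
  | refl n hn μ h' =>
    exact .refl (n + 1) (by omega) (2 * μ) (step_refl h (fun a ha => let ⟨_, f⟩ := hs a ha; h'.comp f) hn)
  | t22 h' =>
    exact .t23 (step_t22 h (fun a ha => let ⟨_, f⟩ := hs a ha; h'.comp f) hgood)
  | t23 h' =>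
    exact .t24 (step_t23 h (fun a ha => let ⟨_, f⟩ := hs a ha; h'.comp f) hgood)
  | t24 h' =>
    exact (twentyFour_false h fun a ha => let ⟨_, f⟩ := hs a ha; h'.comp f).elim

theorem known_aux : ∀ N : ℕ, ∀ {G : Type u} [Group G] [Finite G] {D : Set G}, Nat.card G = N → Fi D → Known D := by
  intro N
  induction N using Nat.strong_induction_on with
  | _ N ih =>
    intro G _ _ D hN h
    by_cases ho : ∀ x ∈ D,
        Cfsg.oddCore ↥(Subgroup.closure (nb D x)) ≤ Subgroup.center ↥(Subgroup.closure (nb D x))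
    swap
    · push Not at ho
      obtain ⟨x, hx, ho⟩ := ho
      exact .sym 5 (Or.inl rfl) (start_five h hx ho)
    by_cases h2 : ∀ x ∈ D,
        Cfsg.pCore 2 ↥(Subgroup.closure (nb D x)) ≤ Subgroup.center ↥(Subgroup.closure (nb D x))
    swap
    · push Not at h2
      obtain ⟨x, hx, h2⟩ := h2
      rcases start_tv h hx h2 with ⟨m, hm, h'⟩ | ⟨n, hn, h'⟩
      · exact .symp m hm h'
      · exact Known.of_uco h.closed hn h'
    have hgood : ∀ a ∈ D, NoTwins (nb D a) ∧ Fi (qimg (nb D a)) := fun a ha => h.local_fi ha (h2 a ha) (ho a ha)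
    obtain ⟨d, hd, -⟩ := h.width
    have hlt : Nat.card (QG (nb D d)) < N := hN ▸ h.card_lt hd fun y hy => hy.2.2.symm
    exact known_step h hgood hd ((ih _ hlt rfl (hgood d hd).2).comp (SIso.qmap (h.nb_closed d) (hgood d hd).1))

/-- The types of the groups satisfying the hypothesis. -/
theorem known_of_fi (h : Fi D) : Known D := known_aux _ rfl h

end CfsgLib.Fischer
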