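import Cfsg.Agent.Fischer.Start
import Cfsg.Agent.Fischer.Coords
import Cfsg.Prelude.Def_FischerSpaces

/-!
Fischer's theorem: coordinates give isomorphisms with models.
-/

set_option autoImplicit false
set_option linter.unusedSectionVars false

namespace CfsgLib.Fischer

open CfsgLib.ThreeT CfsgLib.ThreeT.Prod

universe u v

variable {G : Type u} [Group G] {D : Set G}

section generic

variable {R : Type v} [Group R] (hD : Cfsg.IsThreeTranspositionClass D) (hZ : Subgroup.center G = ⊥)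
  (Φ : G → R) (hinj : Set.InjOn Φ D) (hinv : ∀ x ∈ D, Φ x * Φ x = 1) (hgen : Subgroup.closure (Φ '' D) = ⊤)
  (hconj : ∀ x ∈ D, ∀ y ∈ D, Φ (x * y * x) = Φ x * Φ y * Φ x)
include hD hZ hinj hinv hgen hconj

/-- A model generated by a copy of the class maps onto the group. -/
theorem exists_hom : ∃ f : R →* G, Function.Surjective f ∧ (∀ x ∈ D, f (Φ x) = x) ∧ f.ker = Subgroup.center R := by
  have hgenD : Subgroup.closure D = ⊤ := hD.2.2
  let S : Subgroup (G × R) :=
    { carrier := {p | ∀ y ∈ D, Φ (p.1 * y * p.1⁻¹) = p.2 * Φ y * p.2⁻¹}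
      one_mem' := fun y _ => by simp
      mul_mem' := fun {p q} hp hq y hy => by
        show Φ (p.1 * q.1 * y * (p.1 * q.1)⁻¹) = p.2 * q.2 * Φ y * (p.2 * q.2)⁻¹
        rw [show p.1 * q.1 * y * (p.1 * q.1)⁻¹ = p.1 * (q.1 * y * q.1⁻¹) * p.1⁻¹ by group,
          hp _ (ThreeT.conj_mem hD hy q.1), hq y hy]
        group
      inv_mem' := fun {p} hp y hy => by
        have := hp _ (ThreeT.conj_mem hD hy p.1⁻¹)
        rw [show p.1 * (p.1⁻¹ * y * p.1⁻¹⁻¹) * p.1⁻¹ = y by group] at this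
        show Φ (p.1⁻¹ * y * p.1⁻¹⁻¹) = p.2⁻¹ * Φ y * p.2⁻¹⁻¹
        rw [this]; group }
  have hmem : ∀ x ∈ D, (x, Φ x) ∈ S := fun x hx y hy => by
    show Φ (x * y * x⁻¹) = Φ x * Φ y * (Φ x)⁻¹
    rw [ThreeT.inv hD.1 hx, inv_eq_of_mul_eq_one_right (hinv x hx)]
    exact hconj x hx y hy
  let π₁ : ↥S →* G := (MonoidHom.fst G R).comp S.subtype
  let π₂ : ↥S →* R := (MonoidHom.snd G R).comp S.subtype
  have hs2 : Function.Surjective π₂ := by
    rw [← MonoidHom.range_eq_top, eq_top_iff, ← hgen, Subgroup.closure_le]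
    rintro _ ⟨x, hx, rfl⟩
    exact ⟨⟨_, hmem x hx⟩, rfl⟩
  have hi2 : Function.Injective π₂ := by
    rw [injective_iff_map_eq_one]
    intro p hp
    have h1 : (p : G × R).2 = 1 := hp
    refine Subtype.ext (_root_.Prod.ext ?_ h1)
    show (p : G × R).1 = 1
    rw [← Subgroup.mem_bot, ← hZ, Subgroup.mem_center_iff]
    intro g
    refine (Prod.commute_of_closure (S := D) (fun a ha => ?_) g (hgenD ▸ Subgroup.mem_top g)).eq
    have h2 := p.2 a ha
    rw [h1] at h2
    simp only [one_mul, inv_one, mul_one] at h2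
    exact (mul_inv_eq_iff_eq_mul.1 (hinj (ThreeT.conj_mem hD ha _) ha h2)).symm
  let E := MulEquiv.ofBijective π₂ ⟨hi2, hs2⟩
  let f : R →* G := π₁.comp E.symm.toMonoidHom
  have hfS : ∀ r : R, (f r, r) ∈ S := fun r => by
    have h1 : π₂ (E.symm r) = r := E.apply_symm_apply r
    have h2 : (f r, r) = ((E.symm r : ↥S) : G × R) := _root_.Prod.ext rfl h1.symm
    rw [h2]
    exact (E.symm r).2
  have hval : ∀ p : ↥S, f (π₂ p) = π₁ p := fun p => congrArg π₁ (E.symm_apply_apply p)
  refine ⟨f, ?_, fun x hx => hval ⟨_, hmem x hx⟩, ?_⟩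
  · rw [← MonoidHom.range_eq_top, eq_top_iff, ← hgenD, Subgroup.closure_le]
    exact fun x hx => ⟨Φ x, hval ⟨_, hmem x hx⟩⟩
  · ext r
    rw [MonoidHom.mem_ker]
    constructor
    · intro hr
      refine Subgroup.mem_center_iff.2 fun g => ?_
      refine (Prod.commute_of_closure (S := Φ '' D) ?_ g (hgen ▸ Subgroup.mem_top g)).eq
      rintro _ ⟨a, ha, rfl⟩
      have h2 := hfS r a ha
      rw [show ((f r, r) : G × R).1 = 1 from hr] at h2
      simp only [one_mul, inv_one, mul_one] at h2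
      exact (mul_inv_eq_iff_eq_mul.1 h2.symm).symm
    · intro hr
      have hmem1 : ((1 : G), r) ∈ S := fun y _ => by
        show Φ (1 * y * (1 : G)⁻¹) = r * Φ y * r⁻¹
        rw [one_mul, inv_one, mul_one, ← Subgroup.mem_center_iff.1 hr (Φ y), mul_inv_cancel_right]
      exact hval ⟨_, hmem1⟩

/-- The group is the model modulo its centre. -/
theorem quot_model : ∃ e : G ≃* R ⧸ Subgroup.center R, e '' D = (QuotientGroup.mk : R → R ⧸ Subgroup.center R) '' (Φ '' D) := by
  obtain ⟨f, hf, hval, hker⟩ := exists_hom hD hZ Φ hinj hinv hgen hconj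
  let e := ((QuotientGroup.quotientMulEquivOfEq hker.symm).trans (QuotientGroup.quotientKerEquivOfSurjective f hf)).symm
  refine ⟨e, ?_⟩
  have he : ∀ x ∈ D, e x = QuotientGroup.mk (Φ x) := fun x hx => by
    refine e.symm.injective ?_
    rw [e.symm_apply_apply]
    exact (hval x hx).symm
  rw [Set.image_image]
  exact Set.image_congr he

/-- A faithful model is isomorphic. -/
theorem faithful_model (hfaith : ∀ r : R, (∀ x ∈ D, Commute r (Φ x)) → r = 1) : ∃ e : G ≃* R, e '' D = Φ '' D := by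
  obtain ⟨f, hf, hval, hker⟩ := exists_hom hD hZ Φ hinj hinv hgen hconj
  have hi : Function.Injective f := by
    rw [← MonoidHom.ker_eq_bot_iff, hker, Subgroup.eq_bot_iff_forall]
    exact fun r hr => hfaith r fun x _ => (Subgroup.mem_center_iff.1 hr (Φ x)).symm
  refine ⟨(MulEquiv.ofBijective f ⟨hi, hf⟩).symm, Set.image_congr fun x hx => ?_⟩
  rw [MulEquiv.symm_apply_eq]
  exact (hval x hx).symm

end generic

theorem swap_inj_edge {m : ℕ} {i j k l : Fin m} (hij : i ≠ j) (hkl : k ≠ l) (e : Equiv.swap i j = Equiv.swap k l) :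
    edge i j = edge k l := by
  funext p
  have hP : ∀ {a b : Fin m}, a ≠ b → (edge a b p = 1 ↔ Equiv.swap a b p ≠ p) := fun {a b} hab => by
    rw [edge_apply_eq_one hab]
    exact ⟨fun q => q.elim (fun q => by subst q; rw [Equiv.swap_apply_left]; exact hab.symm)
      fun q => by subst q; rw [Equiv.swap_apply_right]; exact hab,
      fun q => by by_contra w; push Not at w; exact q (Equiv.swap_apply_of_ne_of_ne w.1 w.2)⟩
  have := (hP hij).trans ((by rw [e] : (Equiv.swap i j p ≠ p) ↔ Equiv.swap k l p ≠ p).trans (hP hkl).symm)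
  revert this
  generalize edge i j p = a; generalize edge k l p = b
  revert a b; decide

/-- Symmetric coordinates give a symmetric group. -/
theorem sym_model {m : ℕ} (hD : Cfsg.IsThreeTranspositionClass D) (hZ : Subgroup.center G = ⊥) (hm : 3 ≤ m)
    (h : SymCo D m) : ∃ e : G ≃* Equiv.Perm (Fin m), e '' D = {σ : Equiv.Perm (Fin m) | σ.IsSwap} := by
  classical
  obtain ⟨φ, f⟩ := h
  let Φ : G → Equiv.Perm (Fin m) := fun x =>
    if h : ∃ i j : Fin m, i ≠ j ∧ φ x = edge i j then Equiv.swap h.choose h.choose_spec.choose else 1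
  have hΦ : ∀ x (i j : Fin m), i ≠ j → φ x = edge i j → Φ x = Equiv.swap i j := by
    intro x i j hij e
    have hex : ∃ i j : Fin m, i ≠ j ∧ φ x = edge i j := ⟨i, j, hij, e⟩
    simp only [Φ, dif_pos hex]
    exact edge_inj_pair hex.choose_spec.choose_spec.1 hij (hex.choose_spec.choose_spec.2.symm.trans e)
  have himg : Φ '' D = {σ : Equiv.Perm (Fin m) | σ.IsSwap} := by
    ext σ
    constructor
    · rintro ⟨x, hx, rfl⟩
      obtain ⟨i, j, hij, e⟩ := f.bij.mapsTo hx
      exact ⟨i, j, hij, hΦ x i j hij e⟩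
    · rintro ⟨i, j, hij, rfl⟩
      obtain ⟨x, hx, e⟩ := f.bij.surjOn (show edge i j ∈ edges m from edge_mem hij)
      exact ⟨x, hx, hΦ x i j hij e⟩
  have hrep : ∀ x ∈ D, ∃ i j, i ≠ j ∧ φ x = edge i j := fun x hx => f.bij.mapsTo hx
  refine Exists.elim (faithful_model hD hZ Φ (fun x hx y hy q => ?_) (fun x hx => ?_) ?_ (fun x hx y hy => ?_) ?_)
    fun e he => ⟨e, he.trans himg⟩
  · obtain ⟨i, j, hij, e⟩ := hrep x hx
    obtain ⟨k, l, hkl, e'⟩ := hrep y hy
    rw [hΦ x i j hij e, hΦ y k l hkl e'] at q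
    refine f.bij.injOn hx hy ?_
    rw [e, e']
    exact swap_inj_edge hij hkl q
  · obtain ⟨i, j, hij, e⟩ := hrep x hx
    rw [hΦ x i j hij e, Equiv.swap_mul_self]
  · rw [himg]; exact Equiv.Perm.closure_isSwap
  · obtain ⟨i, j, hij, e⟩ := hrep x hx
    obtain ⟨k, l, hkl, e'⟩ := hrep y hy
    rw [hΦ x i j hij e, hΦ y k l hkl e']
    have hne : Equiv.swap i j k ≠ Equiv.swap i j l := fun q => hkl ((Equiv.swap i j).injective q)
    rw [hΦ _ _ _ hne (by rw [f.conj x hx y hy, e, e', ← edge_swap i j k l hkl]),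
      Equiv.swap_apply_apply, Equiv.swap_inv]
  · intro r hr
    refine Equiv.ext fun i => ?_
    by_contra hne
    obtain ⟨j, hj⟩ := exists_avoid {i, r i} (lt_of_le_of_lt Finset.card_le_two (by omega))
    simp only [Finset.mem_insert, Finset.mem_singleton, not_or] at hj
    obtain ⟨x, hx, e⟩ := f.bij.surjOn (show edge i j ∈ edges m from edge_mem (Ne.symm hj.1))
    have hc := hr x hx
    rw [hΦ x i j (Ne.symm hj.1) e] at hc
    have h1 : Equiv.swap (r i) (r j) = Equiv.swap i j := by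
      rw [Equiv.swap_apply_apply, hc.eq, mul_inv_cancel_right]
    have h2 := congrArg (fun σ : Equiv.Perm (Fin m) => σ (r i)) h1
    rw [Equiv.swap_apply_left, Equiv.swap_apply_of_ne_of_ne (show r i ≠ i from hne) (Ne.symm hj.2)] at h2
    exact hj.1 (r.injective h2)

end CfsgLib.Fischer
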