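import Cfsg.Agent.Fischer.Models
import Cfsg.Agent.Fischer.ReflTri
import Cfsg.Agent.Fischer.UniLocal
import Cfsg.Agent.Fischer.QuadNormal
import Cfsg.Agent.Geo.ThreeTrans
import Cfsg.Agent.Quad.Concrete
import Cfsg.Agent.QuadStd.Two
import Cfsg.Agent.Spor3T.ReflModThreeMatrix
import Cfsg.Agent.S0440
import Cfsg.Agent.S1631

/-!
Fischer's theorem: symplectic, unitary, orthogonal and reflection models.
-/

set_option autoImplicit false
set_option linter.unusedSectionVars false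
set_option linter.style.haveILetI false

open scoped Matrix

namespace CfsgLib.Fischer

open CfsgLib.ThreeT CfsgLib.ThreeT.Prod

universe u

variable {G : Type u} [Group G] {D : Set G}

/-- A rank one map. -/
theorem rank_one_of {F : Type*} [Field F] {ι : Type*} [Fintype ι] [DecidableEq ι] {M : Matrix ι ι F} {v : ι → F}
    (hv : v ≠ 0) (k : (ι → F) → F) (happ : ∀ x, M *ᵥ x = x + k x • v) {y : ι → F} (hy : k y ≠ 0) :
    (M - 1).rank = 1 := by
  have h : ∀ x, (M - 1) *ᵥ x = k x • v := fun x => by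
    rw [Matrix.sub_mulVec, Matrix.one_mulVec, happ, add_sub_cancel_left]
  show Module.finrank F (LinearMap.range (Matrix.mulVecLin (M - 1))) = 1
  rw [show LinearMap.range (Matrix.mulVecLin (M - 1)) = Submodule.span F {v} from
    le_antisymm (by
      rintro _ ⟨x, rfl⟩
      rw [Matrix.mulVecLin_apply, h]
      exact Submodule.smul_mem _ _ (Submodule.mem_span_singleton_self v))
      ((Submodule.span_singleton_le_iff_mem _ _).2 ⟨(k y)⁻¹ • y, by
        rw [map_smul, Matrix.mulVecLin_apply, h, smul_smul, inv_mul_cancel₀ hy, one_smul]⟩),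
    finrank_span_singleton hv]

/-- A generating copy inside a conjugacy class is the class. -/
theorem image_class {R : Type*} [Group R] {C : Set R} (hD : Cfsg.IsThreeTranspositionClass D)
    (hC : Cfsg.IsThreeTranspositionClass C) {Φ : G → R} (hgen : Subgroup.closure (Φ '' D) = ⊤)
    (hconj : ∀ x ∈ D, ∀ y ∈ D, Φ (x * y * x) = Φ x * Φ y * Φ x) (hsub : Φ '' D ⊆ C) (hne : D.Nonempty) :
    Φ '' D = C := by
  refine Set.Subset.antisymm hsub fun c hc => ?_
  obtain ⟨d, hd⟩ := hne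
  obtain ⟨r, rfl⟩ := ThreeT.exists_conj hC (hsub ⟨d, hd, rfl⟩) hc
  have hstep : ∀ x ∈ D, ∀ z ∈ Φ '' D, Φ x * z * (Φ x)⁻¹ ∈ Φ '' D ∧ (Φ x)⁻¹ * z * Φ x ∈ Φ '' D := by
    rintro x hx _ ⟨y, hy, rfl⟩
    have hi : (Φ x)⁻¹ = Φ x := ThreeT.inv hC.1 (hsub ⟨x, hx, rfl⟩)
    rw [hi]
    refine ⟨⟨x * y * x, ?_, hconj x hx y hy⟩, ⟨x * y * x, ?_, hconj x hx y hy⟩⟩ <;>
      simpa only [ThreeT.inv hD.1 hx] using ThreeT.conj_mem hD hy x
  have key : ∀ z ∈ Φ '' D, r * z * r⁻¹ ∈ Φ '' D := by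
    clear hc
    have hr : r ∈ Subgroup.closure (Φ '' D) := hgen ▸ Subgroup.mem_top r
    induction hr using Subgroup.closure_induction'' with
    | mem w hw =>
      obtain ⟨x, hx, rfl⟩ := hw
      exact fun z hz => (hstep x hx z hz).1
    | inv_mem w hw =>
      obtain ⟨x, hx, rfl⟩ := hw
      exact fun z hz => by rw [inv_inv]; exact (hstep x hx z hz).2
    | one => exact fun z hz => by simpa using hz
    | mul a b _ _ ha hb =>
      intro z hz
      rw [show a * b * z * (a * b)⁻¹ = a * (b * z * b⁻¹) * a⁻¹ by group]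
      exact ha _ (hb z hz)
  exact key _ ⟨d, hd, rfl⟩

/-- Symplectic coordinates give a symplectic group. -/
theorem symp_model {m : ℕ} (hD : Cfsg.IsThreeTranspositionClass D) (hZ : Subgroup.center G = ⊥) (hne : D.Nonempty)
    (hm : 1 ≤ m) (h : SympCo D m) : ∃ e : G ≃* Matrix.symplecticGroup (Fin m) (ZMod 2),
      e '' D = {g : Matrix.symplecticGroup (Fin m) (ZMod 2) |
        ((g : Matrix (Fin m ⊕ Fin m) (Fin m ⊕ Fin m) (ZMod 2)) - 1).rank = 1} := by
  classical
  obtain ⟨φ, f⟩ := h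
  let Φ : G → Matrix.symplecticGroup (Fin m) (ZMod 2) := fun x => CfsgLib.Symp.tv (φ x) 1
  have happ : ∀ w x : Fin m ⊕ Fin m → ZMod 2,
      CfsgLib.Symp.tv w (1 : ZMod 2) • x = x + CfsgLib.Symp.form x w • w := fun w x => by
    rw [CfsgLib.Symp.tv_smul, one_mul]
  have hdet : ∀ v w : Fin m ⊕ Fin m → ZMod 2, v ≠ 0 → CfsgLib.Symp.tv v (1 : ZMod 2) = CfsgLib.Symp.tv w 1 → v = w := by
    intro v w hv e
    obtain ⟨y, hy⟩ := sform_exists hv
    have h1 := congrArg (fun g : Matrix.symplecticGroup (Fin m) (ZMod 2) => g • y) e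
    simp only [happ, ← sform_apply] at h1
    rw [sform_symm y v, hy, one_smul] at h1
    rcases two_cases (sform m y w) with q | q
    · rw [q, zero_smul, add_zero, add_eq_left] at h1
      exact absurd h1 hv
    · rw [q, one_smul] at h1
      exact add_left_cancel h1
  have hsq : ∀ x ∈ D, Φ x * Φ x = 1 := fun x _ => by
    show CfsgLib.Symp.tv (φ x) (1 : ZMod 2) * CfsgLib.Symp.tv (φ x) 1 = 1
    rw [CfsgLib.Symp.tv_add, show (1 : ZMod 2) + 1 = 0 from rfl, CfsgLib.Symp.tv_zero]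
  have hconj : ∀ x ∈ D, ∀ y ∈ D, Φ (x * y * x) = Φ x * Φ y * Φ x := by
    intro x hx y hy
    show CfsgLib.Symp.tv (φ (x * y * x)) (1 : ZMod 2) = Φ x * Φ y * Φ x
    conv_rhs => rw [← inv_eq_of_mul_eq_one_right (hsq x hx)]; rw [inv_eq_of_mul_eq_one_right (hsq x hx)]
    have h1 : Φ x * Φ y * Φ x = Φ x * CfsgLib.Symp.tv (φ y) 1 * (Φ x)⁻¹ := by
      rw [inv_eq_of_mul_eq_one_right (hsq x hx)]
    rw [h1, CfsgLib.Symp.tv_conj, f.conj x hx y hy]
    congr 1
    show tvec (sform m) (φ x) (φ y) = CfsgLib.Symp.tv (φ x) (1 : ZMod 2) • φ y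
    rw [happ, tvec, sform_symm, sform_apply]
  have hgen : Subgroup.closure (Φ '' D) = ⊤ := by
    rw [eq_top_iff, ← CfsgLib.Symp.tvGroup_eq_top (l := Fin m) (F := ZMod 2), CfsgLib.Symp.tvGroup, Subgroup.closure_le]
    rintro _ ⟨w, -, c, rfl⟩
    rcases two_cases c with rfl | rfl
    · rw [CfsgLib.Symp.tv_zero]; exact one_mem _
    by_cases hw : w = 0
    · rw [show CfsgLib.Symp.tv w (1 : ZMod 2) = 1 from CfsgLib.Symp.symp_ext fun x => by
        rw [happ, hw, smul_zero, add_zero, one_smul]]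
      exact one_mem _
    obtain ⟨x, hx, e⟩ := f.bij.surjOn (show w ∈ {v | v ≠ 0} from hw)
    exact Subgroup.subset_closure ⟨x, hx, by show CfsgLib.Symp.tv (φ x) (1 : ZMod 2) = _; rw [e]⟩
  refine Exists.elim (faithful_model hD hZ Φ (fun x hx y hy q => f.bij.injOn hx hy (hdet _ _ (f.ne_zero hx) q))
    hsq hgen hconj fun r hr => CfsgLib.Symp.symp_ext fun v => ?_) fun e he => ⟨e, he.trans ?_⟩
  · rw [one_smul]
    by_cases hv : v = 0
    · rw [hv, smul_zero]
    obtain ⟨x, hx, rfl⟩ := f.bij.surjOn (show v ∈ {v | v ≠ 0} from hv)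
    have h1 : CfsgLib.Symp.tv (r • φ x) (1 : ZMod 2) = CfsgLib.Symp.tv (φ x) 1 := by
      rw [← CfsgLib.Symp.tv_conj]
      exact mul_inv_eq_iff_eq_mul.2 (hr x hx).eq
    exact hdet _ _ (fun e => f.ne_zero hx (by simpa using congrArg (fun z => r⁻¹ • z) e)) h1
  · refine image_class hD (Cfsg.Agent.S0440.result m hm) hgen hconj ?_ hne
    rintro _ ⟨x, hx, rfl⟩
    obtain ⟨y, hy⟩ := sform_exists (f.ne_zero hx)
    refine rank_one_of (f.ne_zero hx) (fun z => CfsgLib.Symp.form z (φ x)) (happ (φ x)) (y := y) ?_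
    rw [← sform_apply, sform_symm, hy]
    exact one_ne_zero

section refl

open CfsgLib.Quad CfsgLib.ReflThree

theorem rvec_refl {n : ℕ} {Q : QuadraticForm (ZMod 3) (Fin n → ZMod 3)} {v : Fin n → ZMod 3} (hv : Q v = 1)
    (x : Fin n → ZMod 3) : (refl Q v).1 x = rvec Q v x := by
  rw [CfsgLib.ReflThree.refl_apply', hv, rvec, show (QuadraticMap.polarBilin Q) v x = QuadraticMap.polar Q x v from
    QuadraticMap.polar_comm _ _ _]
  simp only [neg_mul, one_mul, neg_smul]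
  abel

/-- Reflection coordinates give a reflection group. -/
theorem refl_model {n : ℕ} {μ : ZMod 3} (hD : Cfsg.IsThreeTranspositionClass D) (hZ : Subgroup.center G = ⊥)
    (h : RCo D n μ) : ∃ Q : QuadraticForm (ZMod 3) (Fin n → ZMod 3), (QuadraticMap.polarBilin Q).Nondegenerate ∧
      Cfsg.polarGramDet (⇑Q) = μ ∧
      ∃ e : G ≃* ↥(Cfsg.reflectionSubgroup (⇑Q) 1) ⧸ Subgroup.center ↥(Cfsg.reflectionSubgroup (⇑Q) 1),
        e '' D = (QuotientGroup.mk : ↥(Cfsg.reflectionSubgroup (⇑Q) 1) → _) '' rclass Q 1 := by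
  classical
  obtain ⟨Q, hQ, hμ, φ, f⟩ := h
  refine ⟨Q, hQ, hμ, ?_⟩
  set E := isoGroupEquiv Q
  have hEm : ∀ v, Q v = 1 → E.symm (refl Q v) ∈ Cfsg.reflectionsOfNorm (⇑Q) 1 := fun v hv =>
    (mem_norm_iff 1 _).mpr ⟨v, hv, E.apply_symm_apply _⟩
  let Φ : G → ↥(Cfsg.reflectionSubgroup (⇑Q) 1) := fun x =>
    if h : Q (φ x) = 1 then ⟨E.symm (refl Q (φ x)), Subgroup.subset_closure (hEm _ h)⟩ else 1
  have hΦ : ∀ x ∈ D, E (Φ x).1 = refl Q (φ x) := fun x hx => by
    simp only [Φ, dif_pos (f.norm x hx)]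
    exact E.apply_symm_apply _
  have hext : ∀ {a b : ↥(Cfsg.reflectionSubgroup (⇑Q) 1)}, E a.1 = E b.1 → a = b := fun q =>
    Subtype.ext (E.injective q)
  have himg : Φ '' D = rclass Q 1 := by
    ext g
    constructor
    · rintro ⟨x, hx, rfl⟩
      exact (mem_norm_iff 1 _).mpr ⟨φ x, f.norm x hx, hΦ x hx⟩
    · intro hg
      obtain ⟨v, hv, e⟩ := (mem_norm_iff 1 _).mp hg
      obtain ⟨x, hx, q | q⟩ := f.surj v hv
      · exact ⟨x, hx, hext (by rw [hΦ x hx, q, e])⟩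
      · exact ⟨x, hx, hext (by
          rw [hΦ x hx, q, show -v = (-1 : ZMod 3) • v by rw [neg_one_smul], refl_smul (by decide), e])⟩
  refine Exists.elim (quot_model hD hZ Φ (fun x hx y hy q => f.inj x hx y hy ?_) (fun x hx => hext ?_) ?_
    fun x hx y hy => hext ?_) fun e he => ⟨e, he.trans (by rw [himg])⟩
  · have h1 : refl Q (φ y) = refl Q (φ x) := by rw [← hΦ x hx, ← hΦ y hy, q]
    exact eq_or_neg_of_refl_eq (by rw [f.norm y hy]; decide) h1
  · rw [Subgroup.coe_mul, map_mul, hΦ x hx, refl_mul_self, Subgroup.coe_one, map_one]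
  · rw [himg]; exact Subgroup.closure_closure_coe_preimage
  · have hxy : x * y * x ∈ D := by
      simpa only [ThreeT.inv hD.1 hx] using ThreeT.conj_mem hD hy x
    rw [Subgroup.coe_mul, Subgroup.coe_mul, map_mul, map_mul, hΦ x hx, hΦ y hy, hΦ _ hxy]
    conv_rhs => arg 2; rw [← refl_inv]
    rw [refl_conj, rvec_refl (f.norm x hx)]
    rcases f.conj x hx y hy with q | q
    · rw [q]
    · rw [q, show -rvec Q (φ x) (φ y) = (-1 : ZMod 3) • rvec Q (φ x) (φ y) by rw [neg_one_smul],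
        refl_smul (by decide)]

end refl

section quad

open CfsgLib.Quad

variable {ι : Type} [Fintype ι] [DecidableEq ι] {m : ℕ}

/-- Orthogonal coordinates over two elements give an orthogonal group. -/
theorem quad_model (hD : Cfsg.IsThreeTranspositionClass D) (hZ : Subgroup.center G = ⊥)
    (Q : QuadraticForm (ZMod 2) (ι → ZMod 2)) {Q₀ : (ι → ZMod 2) → ZMod 2} (hQ₀ : ⇑Q = Q₀)
    (hQ : (QuadraticMap.polarBilin Q).Nondegenerate)
    (hd : 5 ≤ Fintype.card ι) (T : (Fin m ⊕ Fin m → ZMod 2) ≃ₗ[ZMod 2] (ι → ZMod 2))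
    {q : (Fin m ⊕ Fin m → ZMod 2) → ZMod 2} (hq : IsQ m q) (hT : ∀ v, Q (T v) = q v)
    (hspan : ∀ v : ι → ZMod 2, (∀ g : (ι → ZMod 2) →ₗ[ZMod 2] (ι → ZMod 2),
      (∀ d, Q d = 1 → g d = d) → g v = v))
    {φ : G → Fin m ⊕ Fin m → ZMod 2} (f : TwoCo D (sform m) {v | q v = 1} φ) :
    ∃ e : G ≃* ↥(Cfsg.isometryGroup (ZMod 2) Q₀),
      e '' D = {g : ↥(Cfsg.isometryGroup (ZMod 2) Q₀) |
        (((g : GL ι (ZMod 2)) : Matrix ι ι (ZMod 2)) - 1).rank = 1} := by
  classical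
  subst hQ₀
  set E := isoGroupEquiv Q
  let Φ : G → ↥(Cfsg.isometryGroup (ZMod 2) ⇑Q) := fun x => E.symm (refl Q (T (φ x)))
  have h1 : ∀ x ∈ D, Q (T (φ x)) = 1 := fun x hx => (hT _).trans (f.bij.mapsTo hx)
  have hap : ∀ d y, Q d = 1 → (refl Q d).1 y = y + QuadraticMap.polar Q y d • d := fun d y hd => by
    rw [refl_apply, hd, inv_one, ZMod.neg_eq_self_mod_two, one_mul]
  have hpol : ∀ u v, QuadraticMap.polar Q (T u) (T v) = sform m u v := fun u v => by
    rw [QuadraticMap.polar, ← map_add, hT, hT, hT, hq]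
    ring
  have hdet : ∀ a b, Q a = 1 → Q b = 1 → refl Q a = refl Q b → a = b := by
    intro a b ha hb e
    have ha0 : a ≠ 0 := fun e => by rw [e, QuadraticMap.map_zero] at ha; exact zero_ne_one ha
    obtain ⟨y, hy⟩ := exists_polar_ne (Q := Q) hQ ha0
    have h2 : (refl Q a).1 y = (refl Q b).1 y := by rw [e]
    rw [hap a y ha, hap b y hb, QuadraticMap.polar_comm, (two_cases _).resolve_left hy, one_smul] at h2
    have h3 := add_left_cancel h2
    rcases two_cases (QuadraticMap.polar Q y b) with q | q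
    · rw [q, zero_smul] at h3; exact absurd h3 ha0
    · rwa [q, one_smul] at h3
  have hmem : ∀ d, Q d = 1 → ((((E.symm (refl Q d)) : GL ι (ZMod 2)) : Matrix ι ι (ZMod 2)) - 1).rank = 1 := by
    intro d hd
    have hd0 : d ≠ 0 := fun e => by rw [e, QuadraticMap.map_zero] at hd; exact zero_ne_one hd
    obtain ⟨y, hy⟩ := exists_polar_ne (Q := Q) hQ hd0
    refine rank_one_of hd0 (fun z => QuadraticMap.polar Q z d) (fun z => ?_) (y := y) ?_
    · rw [← isoGroupEquiv_apply, MulEquiv.apply_symm_apply, hap d z hd]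
    · rw [QuadraticMap.polar_comm]; exact hy
  have himg : Φ '' D = {g : ↥(Cfsg.isometryGroup (ZMod 2) ⇑Q) |
      (((g : GL ι (ZMod 2)) : Matrix ι ι (ZMod 2)) - 1).rank = 1} := by
    ext g
    constructor
    · rintro ⟨x, hx, rfl⟩
      exact hmem _ (h1 x hx)
    · intro hg
      obtain ⟨d, hd, e⟩ := CfsgLib.Geo.ThreeTrans.exists_refl Q hQ (E g) (fun x => isoGroupEquiv_apply Q g x) hg
      obtain ⟨x, hx, ex⟩ := f.bij.surjOn (show q (T.symm d) = 1 by rw [← hT, T.apply_symm_apply]; exact hd)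
      exact ⟨x, hx, E.injective (by simp only [Φ]; rw [E.apply_symm_apply, ex, T.apply_symm_apply, e])⟩
  refine Exists.elim (faithful_model hD hZ Φ (fun x hx y hy e => f.bij.injOn hx hy ?_) (fun x _ => ?_) ?_
    (fun x hx y hy => ?_) fun r hr => ?_) fun e he => ⟨e, he.trans himg⟩
  · exact T.injective (hdet _ _ (h1 x hx) (h1 y hy) (E.symm.injective e))
  · simp only [Φ, ← map_mul, refl_mul_self, map_one]
  · rw [himg]
    exact (CfsgLib.Geo.ThreeTrans.threeTransposition Q rfl hQ hd).2.2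
  · simp only [Φ, ← map_mul]
    congr 1
    conv_rhs => arg 2; rw [← refl_inv]
    rw [refl_conj, f.conj x hx y hy, hap _ _ (h1 x hx), hpol, sform_symm]
    simp only [tvec, map_add, map_smul]
  · refine E.injective ?_
    rw [map_one]
    refine Subtype.ext (LinearEquiv.ext fun v => hspan v (E r).1.toLinearMap fun d hd => ?_)
    obtain ⟨x, hx, ex⟩ := f.bij.surjOn (show q (T.symm d) = 1 by rw [← hT, T.apply_symm_apply]; exact hd)
    have hc := (hr x hx).map E.toMonoidHom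
    simp only [Φ, MulEquiv.toMonoidHom_eq_coe, MonoidHom.coe_coe, E.apply_symm_apply, ex, T.apply_symm_apply] at hc
    refine hdet _ _ (((E r).2 d).trans hd) hd ?_
    show refl Q ((E r).1 d) = _
    rw [← refl_conj]
    exact mul_inv_eq_iff_eq_mul.2 hc.eq

end quad

end CfsgLib.Fischer
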