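import Cfsg.Agent.Fischer.StepRefl
import Cfsg.Agent.QuadStd.Disc

/-!
Fischer's theorem: the points of a reflection group are determined by dimension and discriminant.
-/

set_option autoImplicit false
set_option linter.unusedSectionVars false
set_option linter.style.haveILetI false

namespace CfsgLib.Fischer

open CfsgLib.ThreeT CfsgLib.ThreeT.Prod

universe u

/-- The sum of squares. -/
def sq : (n : ℕ) → QuadraticForm (ZMod 3) (Fin n → ZMod 3)
  | 0 => 0
  | n + 1 => extQ (sq n)

theorem sq_succ (n : ℕ) : sq (n + 1) = extQ (sq n) := rfl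

theorem sq_nondeg : ∀ n, (QuadraticMap.polarBilin (sq n)).Nondegenerate
  | 0 => ⟨fun _ _ => Subsingleton.elim _ _, fun _ _ => Subsingleton.elim _ _⟩
  | n + 1 => extQ_nondeg (sq_nondeg n)

theorem sq_det : ∀ n, Cfsg.polarGramDet (⇑(sq n)) = 2 ^ n
  | 0 => by rw [Cfsg.polarGramDet, Matrix.det_fin_zero, pow_zero]
  | n + 1 => by rw [sq_succ, extQ_det, sq_det n, pow_succ']

/-- The number of vectors with a given value, by recursion. -/
def sqCount : ℕ → ZMod 3 → ℕ
  | 0, a => if a = 0 then 1 else 0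
  | n + 1, a => sqCount n a + 2 * sqCount n (a - 1)

theorem sq_card : ∀ n a, Nat.card {v : Fin n → ZMod 3 // sq n v = a} = sqCount n a
  | 0, a => by
    rw [sqCount]
    split_ifs with h
    · exact Nat.card_eq_one_iff_exists.2 ⟨⟨0, by rw [h]; rfl⟩, fun v => Subtype.ext (Subsingleton.elim _ _)⟩
    · haveI : IsEmpty {v : Fin 0 → ZMod 3 // sq 0 v = a} := ⟨fun v => h (v.2.symm.trans rfl)⟩
      exact Nat.card_of_isEmpty
  | n + 1, a => by
    classical
    have e : {v : Fin (n + 1) → ZMod 3 // sq (n + 1) v = a} ≃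
        Σ t : ZMod 3, {w : Fin n → ZMod 3 // sq n w = a - t * t} :=
      { toFun := fun v => ⟨v.1 0, Fin.tail v.1, by
          have h2 : extQ (sq n) (Fin.cons (v.1 0) (Fin.tail v.1)) = a := by
            rw [Fin.cons_self_tail]; exact v.2
          rw [extQ_cons] at h2
          linear_combination h2⟩
        invFun := fun p => ⟨Fin.cons p.1 p.2.1, by rw [sq_succ, extQ_cons, p.2.2]; ring⟩
        left_inv := fun v => Subtype.ext (Fin.cons_self_tail v.1)
        right_inv := fun p => by rcases p with ⟨t, w, hw⟩; rfl }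
    rw [Nat.card_congr e, Nat.card_sigma]
    simp only [sq_card n]
    rw [show (Finset.univ : Finset (ZMod 3)) = {0, 1, -1} by decide, Finset.sum_insert (by decide),
      Finset.sum_insert (by decide), Finset.sum_singleton, mul_zero, sub_zero, mul_one, neg_mul_neg, mul_one,
      sqCount]
    ring

theorem sqCount_vals : sqCount 6 1 = 252 ∧ sqCount 7 1 = 702 ∧ sqCount 8 1 = 2160 := by decide

/-- A form with the discriminant of the sum of squares is one. -/
theorem isometric_sq {n : ℕ} {Q : QuadraticForm (ZMod 3) (Fin n → ZMod 3)}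
    (hQ : (QuadraticMap.polarBilin Q).Nondegenerate) (hd : Cfsg.polarGramDet (⇑Q) = 2 ^ n) :
    ∃ g : (Fin n → ZMod 3) ≃ₗ[ZMod 3] (Fin n → ZMod 3), ∀ v, sq n (g v) = Q v := by
  refine CfsgLib.QuadStd.isometric_of_disc (by decide) hQ (sq_nondeg n) (Pi.basisFun (ZMod 3) (Fin n))
    (Pi.basisFun (ZMod 3) (Fin n)) ?_
  have e : ∀ R : QuadraticForm (ZMod 3) (Fin n → ZMod 3),
      (CfsgLib.QuadStd.gram R (Pi.basisFun (ZMod 3) (Fin n))).det = Cfsg.polarGramDet (⇑R) := by
    intro R
    rw [Cfsg.polarGramDet]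
    congr 1
    ext i j
    simp [CfsgLib.QuadStd.gram]
  rw [e, e, hd, sq_det]
  exact ⟨2 ^ n, rfl⟩

variable {G : Type u} [Group G] [Finite G] {S : Set G}

theorem RC.ncard_two' {n : ℕ} {Q : QuadraticForm (ZMod 3) (Fin n → ZMod 3)} {φ : G → Fin n → ZMod 3}
    (f : RC S Q φ) : 2 * S.ncard = Nat.card {v : Fin n → ZMod 3 // Q v = 1} := by
  have h := Nat.card_eq_of_bijective (fun p : S × Bool => (⟨if p.2 then φ p.1.1 else -φ p.1.1, by
    split_ifs
    · exact f.norm _ p.1.2
    · rw [q_neg]; exact f.norm _ p.1.2⟩ : {v : Fin n → ZMod 3 // Q v = 1})) ⟨?_, ?_⟩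
  · rw [← h, Nat.card_prod, Nat.card_coe_set_eq, Nat.card_eq_fintype_card (α := Bool), Fintype.card_bool, mul_comm]
  · rintro ⟨⟨x, hx⟩, i⟩ ⟨⟨y, hy⟩, j⟩ e
    simp only [Subtype.mk.injEq] at e
    have hne : φ x ≠ -φ x := fun q => f.ne_zero hx (funext fun k => by
      have := congrFun q k; revert this; simp only [Pi.neg_apply, Pi.zero_apply]
      generalize φ x k = s; revert s; decide)
    cases i <;> cases j <;> simp at e
    · obtain rfl := f.inj x hx y hy (Or.inl e); rfl
    · obtain rfl := f.inj x hx y hy (Or.inr (by rw [← e, neg_neg])); exact absurd e.symm hne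
    · obtain rfl := f.inj x hx y hy (Or.inr e); exact absurd e hne
    · obtain rfl := f.inj x hx y hy (Or.inl e); rfl
  · rintro ⟨v, hv⟩
    obtain ⟨x, hx, e | e⟩ := f.surj v hv
    · exact ⟨⟨⟨x, hx⟩, true⟩, Subtype.ext (by simpa using e)⟩
    · exact ⟨⟨⟨x, hx⟩, false⟩, Subtype.ext (by simp [e])⟩

/-- The number of members, from dimension and discriminant. -/
theorem RCo.ncard {n : ℕ} {μ : ZMod 3} (h : RCo S n μ) (hμ : μ = 2 ^ n) : 2 * S.ncard = sqCount n 1 := by
  obtain ⟨Q, hQ, hd, φ, f⟩ := h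
  obtain ⟨g, hg⟩ := isometric_sq hQ (hd.trans hμ)
  rw [f.ncard_two', ← sq_card]
  exact Nat.card_congr (g.toEquiv.subtypeEquiv fun v => by
    show Q v = 1 ↔ sq n (g v) = 1
    rw [hg])

end CfsgLib.Fischer
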