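import Cfsg.Agent.Fischer.ReflTri

/-!
Fischer's theorem: the far members around one transposition as oriented singular vectors.
-/

set_option autoImplicit false
set_option linter.unusedSectionVars false

namespace CfsgLib.Fischer

open CfsgLib.ThreeT CfsgLib.ThreeT.Prod

universe u

/-- A far member and a vector of its singular point. -/
def Pt {G : Type u} [Group G] (D : Set G) (d : G) {n : ℕ} (Q : QuadraticForm (ZMod 3) (Fin n → ZMod 3))
    (φ : G → Fin n → ZMod 3) (z : G) (x : Fin n → ZMod 3) : Prop :=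
  z ∈ D ∧ ¬ Commute d z ∧ x ≠ 0 ∧ Q x = 0 ∧ ∀ y ∈ nb D d, (y ∈ tri D d z ↔ pb Q x (φ y) = 0)

/-- Two oriented members agree. -/
def Agree {G : Type u} [Group G] {n : ℕ} (Q : QuadraticForm (ZMod 3) (Fin n → ZMod 3))
    (z : G) (x : Fin n → ZMod 3) (y : G) (w : Fin n → ZMod 3) : Prop :=
  pb Q x w ≠ 0 → (Commute z y ↔ pb Q x w = 1)

theorem not_iff_one : ∀ s : ZMod 3, s ≠ 0 → (-s = 1 ↔ ¬ s = 1) := by decide

section geometry

variable {n : ℕ} {Q : QuadraticForm (ZMod 3) (Fin n → ZMod 3)} (hQ : (QuadraticMap.polarBilin Q).Nondegenerate)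
  (hn : 5 ≤ n)
include hQ hn

local notation "V" => (Fin n → ZMod 3)

/-- A singular vector meeting two singular ones. -/
theorem exists_meet {u w : V} (hu0 : u ≠ 0) (qu : Q u = 0) (hw0 : w ≠ 0) (qw : Q w = 0) :
    ∃ x, Q x = 0 ∧ pb Q u x ≠ 0 ∧ pb Q w x ≠ 0 := by
  by_cases hb : pb Q u w = 0
  · exact exists_meet_two hQ hu0 qu hw0 qw hb
  set b := pb Q u w with hb'
  have hND := (nd_top hQ).perp_pair (u := u) (w := b • w) trivial trivial qu
    (by rw [q_smul, qw, mul_zero]) (by rw [map_smul, smul_eq_mul, ← hb', sq_one b hb])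
  obtain ⟨r, hr, qr⟩ := hND.exists_aniso (by
    have := finrank_pair (Q := Q) (⊤ : Submodule (ZMod 3) V) u (b • w)
    have := finrank_top' (n := n)
    omega)
  have hru : pb Q u r = 0 := hr.1.2
  have hrw : pb Q w r = 0 := by
    have h1 : pb Q (b • w) r = 0 := hr.2
    rw [map_smul, LinearMap.smul_apply, smul_eq_mul] at h1
    exact (mul_eq_zero.1 h1).resolve_left hb
  refine ⟨u + (-Q r * b) • w + r, ?_, ?_, ?_⟩
  · rw [q_add, sub_comb, qu, qw, map_add, map_smul, LinearMap.add_apply, LinearMap.smul_apply, hru, hrw, ← hb']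
    revert qr hb; generalize Q r = s; generalize b = z; revert s z; decide
  · rw [map_add, map_add, map_smul, pb_self, qu, hru, ← hb', smul_eq_mul]
    revert qr hb; generalize Q r = s; generalize b = z; revert s z; decide
  · rw [map_add, map_add, map_smul, pb_self, qw, hrw, pb_symm Q w u, ← hb', smul_eq_mul]
    revert qr hb; generalize b = z; generalize Q r = s; revert s z; decide

/-- The same, with a prescribed value at the first. -/
theorem exists_meet_one {u w : V} (hu0 : u ≠ 0) (qu : Q u = 0) (hw0 : w ≠ 0) (qw : Q w = 0) :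
    ∃ x, Q x = 0 ∧ pb Q u x = 1 ∧ pb Q w x ≠ 0 := by
  obtain ⟨x, qx, h1, h2⟩ := exists_meet hQ hn hu0 qu hw0 qw
  refine ⟨pb Q u x • x, by rw [q_smul, qx, mul_zero], by rw [map_smul, smul_eq_mul, sq_one _ h1], ?_⟩
  rw [map_smul, smul_eq_mul]
  exact mul_ne_zero h1 h2

/-- A vector between two intermediates of a vector orthogonal to `u`. -/
theorem exists_between {u w x x' : V} (qu : Q u = 0) (qw : Q w = 0) (huw : pb Q u w = 0)
    (hnm : ∀ k : ZMod 3, w ≠ k • u) (qx : Q x = 0) (hux : pb Q u x = 1) (hux' : pb Q u x' = 1)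
    (hwx : pb Q w x ≠ 0) (hxx' : pb Q x x' = 0) :
    ∃ y, Q y = 0 ∧ pb Q u y = 1 ∧ pb Q w y ≠ 0 ∧ pb Q x y ≠ 0 ∧ pb Q x' y ≠ 0 := by
  set β := pb Q w x with hβ
  set w1 := w + (-β) • u with hw1
  have hND := (nd_top hQ).perp_pair (u := u) (w := x) trivial trivial qu qx hux
  have hw1Z : w1 ∈ perp Q (perp Q ⊤ u) x := by
    refine ⟨⟨trivial, ?_⟩, ?_⟩
    · show pb Q u w1 = 0
      rw [hw1, map_add, map_smul, huw, pb_self, qu, mul_zero, smul_zero, add_zero]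
    · show pb Q x w1 = 0
      rw [hw1, map_add, map_smul, pb_symm Q x w, ← hβ, pb_symm Q x u, hux, smul_eq_mul, mul_one, add_neg_cancel]
  have hw10 : w1 ≠ 0 := fun e => hnm β (by rwa [hw1, neg_smul, ← sub_eq_add_neg, sub_eq_zero] at e)
  have qw1 : Q w1 = 0 := by rw [hw1, sub_comb, qw, qu, pb_symm Q w u, huw]; simp
  obtain ⟨p, hp, qp, hp1⟩ := hND.exists_partner hw1Z hw10 qw1
  obtain ⟨r, hr, qr⟩ := (hND.perp_pair hw1Z hp qw1 qp hp1).exists_aniso (by
    have := finrank_pair (Q := Q) (⊤ : Submodule (ZMod 3) V) u x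
    have := finrank_pair (Q := Q) (perp Q (perp Q ⊤ u) x) w1 p
    have := finrank_top' (n := n)
    omega)
  have hru : pb Q u r = 0 := hr.1.1.1.2
  have hrx : pb Q x r = 0 := hr.1.1.2
  have hrw : pb Q w r = 0 := by
    have h1 : pb Q w1 r = 0 := hr.1.2
    rwa [hw1, map_add, map_smul, LinearMap.add_apply, LinearMap.smul_apply, hru, smul_zero, add_zero] at h1
  have hgood : ∀ r', Q r' = Q r → pb Q u r' = 0 → pb Q x r' = 0 → pb Q w r' = 0 → pb Q x' r' ≠ Q r →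
      ∃ y, Q y = 0 ∧ pb Q u y = 1 ∧ pb Q w y ≠ 0 ∧ pb Q x y ≠ 0 ∧ pb Q x' y ≠ 0 := by
    intro r' q' h1 h2 h3 h4
    refine ⟨x + r' + (-Q r) • u, ?_, ?_, ?_, ?_, ?_⟩
    · rw [sub_comb, q_add, qx, qu, q', h2, map_add, LinearMap.add_apply, pb_symm Q x u, hux, pb_symm Q r' u, h1]
      ring
    · rw [map_add, map_add, map_smul, hux, h1, pb_self, qu, mul_zero, smul_zero, add_zero, add_zero]
    · rw [map_add, map_add, map_smul, h3, pb_symm Q w u, huw, smul_zero, add_zero, add_zero]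
      exact hwx
    · rw [map_add, map_add, map_smul, pb_self, qx, h2, pb_symm Q x u, hux, mul_zero, zero_add, zero_add, smul_eq_mul,
        mul_one]
      exact neg_ne_zero.2 qr
    · rw [map_add, map_add, map_smul, pb_symm Q x' x, hxx', pb_symm Q x' u, hux', zero_add, smul_eq_mul, mul_one,
        ← sub_eq_add_neg]
      exact sub_ne_zero.2 h4
  by_cases e : pb Q x' r = Q r
  · refine hgood (-r) (q_neg Q r) (by rw [map_neg, hru, neg_zero]) (by rw [map_neg, hrx, neg_zero])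
      (by rw [map_neg, hrw, neg_zero]) ?_
    rw [map_neg, e]
    revert qr; generalize Q r = s; revert s; decide
  · exact hgood r rfl hru hrx hrw e

/-- A common intermediate of two vectors orthogonal to `u`. -/
theorem exists_common {u w1 w2 : V} (qu : Q u = 0) (hu0 : u ≠ 0) (qw1 : Q w1 = 0) (qw2 : Q w2 = 0)
    (h1 : pb Q u w1 = 0) (h2 : pb Q u w2 = 0) (hb : pb Q w1 w2 ≠ 0) :
    ∃ m, Q m = 0 ∧ pb Q u m = 1 ∧ pb Q w1 m ≠ 0 ∧ pb Q w2 m ≠ 0 := by
  set b := pb Q w1 w2 with hb'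
  have hND := (nd_top hQ).perp_pair (u := w1) (w := b • w2) trivial trivial qw1
    (by rw [q_smul, qw2, mul_zero]) (by rw [map_smul, smul_eq_mul, ← hb', sq_one b hb])
  have huZ : u ∈ perp Q (perp Q ⊤ w1) (b • w2) := by
    refine ⟨⟨trivial, ?_⟩, ?_⟩
    · show pb Q w1 u = 0
      rw [pb_symm, h1]
    · show pb Q (b • w2) u = 0
      rw [pb_symm, map_smul, h2, smul_zero]
  obtain ⟨p, hp, qp, hup⟩ := hND.exists_partner huZ hu0 qu
  have hp1 : pb Q w1 p = 0 := hp.1.2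
  have hp2 : pb Q w2 p = 0 := by
    have h3 : pb Q (b • w2) p = 0 := hp.2
    rw [map_smul, LinearMap.smul_apply, smul_eq_mul] at h3
    exact (mul_eq_zero.1 h3).resolve_left hb
  refine ⟨p + w1 + w2 + (-b) • u, ?_, ?_, ?_, ?_⟩
  · rw [sub_comb]
    simp only [q_add, qp, qw1, qw2, qu, map_add, LinearMap.add_apply,
      pb_symm Q p w1, hp1, pb_symm Q p w2, hp2, ← hb', pb_symm Q p u, hup, pb_symm Q w1 u, h1, pb_symm Q w2 u, h2]
    ring
  · rw [map_add, map_add, map_add, map_smul, hup, h1, h2, pb_self, qu, mul_zero, smul_zero]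
    simp
  · rw [map_add, map_add, map_add, map_smul, hp1, pb_self, qw1, ← hb', pb_symm Q w1 u, h1, mul_zero, smul_zero]
    simpa using hb
  · rw [map_add, map_add, map_add, map_smul, hp2, pb_self, qw2, pb_symm Q w2 w1, ← hb', pb_symm Q w2 u, h2, mul_zero,
      smul_zero]
    simpa using hb

end geometry

section pts

variable {G : Type u} [Group G] [Finite G] {D : Set G} {n : ℕ} {μ : ZMod 3}
variable (h : Fi D) (hloc : ∀ a ∈ D, RCo (nb D a) n μ) (hn : 5 ≤ n)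
  {d : G} (hd : d ∈ D) {Q : QuadraticForm (ZMod 3) (Fin n → ZMod 3)}
  (hQ : (QuadraticMap.polarBilin Q).Nondegenerate) {φ : G → Fin n → ZMod 3} (f : RC (nb D d) Q φ)
include h hloc hn hd hQ f

local notation "V" => (Fin n → ZMod 3)

theorem pt_exists {z : G} (hz : z ∈ D) (hdz : ¬ Commute d z) : ∃ x, Pt D d Q φ z x := by
  obtain ⟨x, hx0, qx, hT⟩ := refl_tri h hloc hn hd hz hdz hQ f
  exact ⟨x, hz, hdz, hx0, qx, hT⟩

theorem Pt.third {z : G} {x : V} (hp : Pt D d Q φ z x) : Pt D d Q φ (d * z * d) x := by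
  obtain ⟨hz, hdz, hx0, qx, hT⟩ := hp
  refine ⟨h.closed.conj d hd z hz, h.closed.third_far hd hdz, hx0, qx, fun y hy => ?_⟩
  rw [← hT y hy]
  exact and_congr_right fun _ => commute_c'_iff h hd hz hdz hy.2.2.symm

theorem Pt.smul {z : G} {x : V} (hp : Pt D d Q φ z x) {k : ZMod 3} (hk : k ≠ 0) : Pt D d Q φ z (k • x) := by
  obtain ⟨hz, hdz, hx0, qx, hT⟩ := hp
  refine ⟨hz, hdz, smul_ne_zero hk hx0, by rw [q_smul, qx, mul_zero], fun y hy => ?_⟩
  rw [hT y hy, map_smul, LinearMap.smul_apply, smul_eq_mul, mul_eq_zero]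
  simp [hk]

theorem Pt.neg {z : G} {x : V} (hp : Pt D d Q φ z x) : Pt D d Q φ z (-x) := by
  rw [← neg_one_smul (ZMod 3) x]
  exact hp.smul h hloc hn hd hQ f (by decide)

theorem Pt.unique {z : G} {x x' : V} (hp : Pt D d Q φ z x) (hp' : Pt D d Q φ z x') :
    ∃ k : ZMod 3, k ≠ 0 ∧ x' = k • x := by
  obtain ⟨-, -, hx0, qx, hT⟩ := hp
  obtain ⟨-, -, hx0', qx', hT'⟩ := hp'
  obtain ⟨k, hk⟩ := det_point hQ hn qx hx0 qx' fun y qy hy => by
    obtain ⟨w, hw, s, hs, ew⟩ := f.exists_rep qy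
    exact (RC.rep_form f hs ew x').1 ((hT' w hw).1 ((hT w hw).2 ((RC.rep_form f hs ew x).2 hy)))
  exact ⟨k, fun e => hx0' (by rw [hk, e, zero_smul]), hk⟩

theorem Pt.pair {z y : G} {x : V} (hp : Pt D d Q φ z x) (hp' : Pt D d Q φ y x) : y = z ∨ y = d * z * d := by
  refine refl_tdet h hloc hn d hd z hp.1 y hp'.1 hp.2.1 hp'.2.1 (Set.ext fun w => ?_)
  by_cases hw : w ∈ nb D d
  · rw [hp.2.2.2.2 w hw, hp'.2.2.2.2 w hw]
  · exact iff_of_false (fun r => hw r.1) fun r => hw r.1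

theorem pt_xx {c : G} {u : V} (hp : Pt D d Q φ c u) {e : G} (he : e ∈ nb D d) :
    Pt D d Q φ (xx c e) (rvec Q (φ e) u) := by
  obtain ⟨hc, hdc, hu0, qu, hT⟩ := hp
  have qe := f.norm e he
  refine ⟨xx_mem h hd hc hdc he, xx_far_d h hd hc hdc he, fun q => hu0 ?_, by rw [rvec_q Q qe, qu], fun y hy => ?_⟩
  · rw [← rvec_rvec Q qe u, q, rvec]; simp
  · have h1 : y ∈ tri D d (xx c e) ↔ e * y * e ∈ tri D d c :=
      ⟨fun r => (commute_xx_nb h hd hc hdc he hy).1 r.2.symm,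
        fun r => ⟨hy, ((commute_xx_nb h hd hc hdc he hy).2 r).symm⟩⟩
    rw [h1, hT _ ((h.nb_closed d).conj e he y hy), f.conj_form he hy, ← rvec_form Q qe u, rvec_rvec Q qe]

theorem pt_yy {c : G} {u : V} (hp : Pt D d Q φ c u) {e : G} (he : e ∈ nb D d) :
    Pt D d Q φ (yy d c e) (rvec Q (φ e) u) := by
  rw [yy_eq_dxd h hd hp.1 hp.2.1 he]
  exact (pt_xx h hloc hn hd hQ f hp he).third h hloc hn hd hQ f

/-- The members commuting with one, oriented against it. -/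
theorem pt_comm {c z : G} {u : V} (hp : Pt D d Q φ c u) (hzD : z ∈ D) (hzd : ¬ Commute d z) (hne : z ≠ c)
    (hcz : Commute c z) :
    ∃ e ∈ nb D d, pb Q (φ e) u ≠ 0 ∧ yy d c e = z ∧ Pt D d Q φ z (pb Q (φ e) u • φ e - u) := by
  obtain ⟨e, he, heT, ez⟩ := exists_yy h hd hp.1 hp.2.1 (z := z) ⟨hzD, hne, hcz⟩ hzd
  refine ⟨e, he, fun q => heT ((hp.2.2.2.2 e he).2 (by rw [pb_symm]; exact q)), ez, ?_⟩
  have := (pt_yy h hloc hn hd hQ f hp he).neg h hloc hn hd hQ f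
  rwa [ez, rvec, neg_sub] at this

theorem pt_nonorth {c z : G} {u x : V} (hp : Pt D d Q φ c u) (hq : Pt D d Q φ z x) (hne : z ≠ c)
    (hcz : Commute c z) : pb Q u x ≠ 0 := by
  obtain ⟨e, -, hb, -, hz⟩ := pt_comm h hloc hn hd hQ f hp hq.1 hq.2.1 hne hcz
  obtain ⟨k, hk, ek⟩ := hz.unique h hloc hn hd hQ f hq
  rw [ek, map_smul, map_sub, map_smul, pb_self, hp.2.2.2.1, pb_symm Q u, smul_eq_mul, smul_eq_mul, mul_zero, sub_zero,
    sq_one _ hb, mul_one]
  exact hk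

/-- Both halves of the pair of a vector meeting `u`. -/
theorem pt_meet {c : G} {u w : V} (hp : Pt D d Q φ c u) (qw : Q w = 0) (hb : pb Q u w ≠ 0) :
    ∃ e ∈ nb D d, e ∉ tri D d c ∧ Pt D d Q φ (xx c e) w := by
  set b := pb Q u w with hb'
  have qv : Q (u + b • w) = 1 := by
    rw [sub_comb, hp.2.2.2.1, qw, ← hb', mul_zero, add_zero, zero_add, sq_one b hb]
  obtain ⟨e, he, k, hk, ee⟩ := f.exists_rep qv
  have hvu : pb Q (u + b • w) u = 1 := by
    rw [map_add, map_smul, LinearMap.add_apply, LinearMap.smul_apply, pb_self, hp.2.2.2.1, pb_symm Q w u, ← hb',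
      smul_eq_mul, mul_zero, zero_add, sq_one b hb]
  refine ⟨e, he, fun q => ?_, ?_⟩
  · have h1 := (RC.rep_form f hk ee u).1 ((hp.2.2.2.2 e he).1 q)
    rw [pb_symm, hvu] at h1
    exact absurd h1 (by decide)
  · have := (pt_xx h hloc hn hd hQ f hp he).smul h hloc hn hd hQ f (k := -b) (neg_ne_zero.2 hb)
    have e1 : (-b) • rvec Q (φ e) u = w := by
      rw [ee, rvec_scale hk, rvec, hvu, one_smul, sub_add_cancel_left, smul_neg, neg_smul, neg_neg, smul_smul,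
        sq_one b hb, one_smul]
    rwa [e1] at this

theorem pt_one {c z : G} {u x : V} (hp : Pt D d Q φ c u) (hq : Pt D d Q φ z x) (hb : pb Q u x ≠ 0) :
    Commute c (d * z * d) ↔ ¬ Commute c z := by
  refine ⟨fun q q' => hp.2.1 (not_commute_both h hd hq.1 hq.2.1 q' q).symm, fun q => ?_⟩
  obtain ⟨e, he, heT, hw⟩ := pt_meet h hloc hn hd hQ f hp hq.2.2.2.1 hb
  have hy := (yy_comm_c h hd hp.1 hp.2.1 he heT).symm
  rw [yy_eq_dxd h hd hp.1 hp.2.1 he] at hy
  rcases hw.pair h hloc hn hd hQ f hq with r | r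
  · rw [r]; exact hy
  · exact absurd (r ▸ hy) q

theorem pt_surj {c : G} {u w : V} (hp : Pt D d Q φ c u) (hw0 : w ≠ 0) (qw : Q w = 0) : ∃ z, Pt D d Q φ z w := by
  obtain ⟨x, qx, h1, h2⟩ := exists_meet hQ hn hp.2.2.1 hp.2.2.2.1 hw0 qw
  obtain ⟨e, -, -, hx⟩ := pt_meet h hloc hn hd hQ f hp qx h1
  obtain ⟨e', -, -, hz⟩ := pt_meet h hloc hn hd hQ f hx qw (by rwa [pb_symm])
  exact ⟨_, hz⟩

theorem Agree.flip {z y : G} {x w : V} (hy : Pt D d Q φ y w) (hz : Pt D d Q φ z x) (ha : Agree Q z x y w) :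
    Agree Q z x (d * y * d) (-w) := by
  intro hne
  rw [map_neg, neg_ne_zero] at hne
  rw [pt_one h hloc hn hd hQ f hz hy hne, ha hne, map_neg, not_iff_one _ hne]

omit h hloc hn hd hQ f in
theorem Agree.symm {z y : G} {x w : V} (ha : Agree Q z x y w) : Agree Q y w z x := fun hne => by
  rw [pb_symm] at hne ⊢
  rw [← ha hne]
  exact ⟨fun q => q.symm, fun q => q.symm⟩

/-- Three members. -/
theorem agree_tri_one {c z y : G} {u x w : V} (hp : Pt D d Q φ c u) (hz : Pt D d Q φ z x) (hy : Pt D d Q φ y w)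
    (hux : pb Q u x = 1) (huw : pb Q u w = 1) (hcz : Commute c z) (hcy : Commute c y) : Agree Q z x y w := by
  intro hxw
  have norm : ∀ {z : G} {x : V}, Pt D d Q φ z x → pb Q u x = 1 → Commute c z →
      ∃ e ∈ nb D d, e ∉ tri D d c ∧ yy d c e = z ∧ pb Q (φ e) u ≠ 0 ∧ x = pb Q (φ e) u • φ e - u := by
    intro z x hz hux hcz
    have hne : z ≠ c := fun q => by
      obtain ⟨k, -, ek⟩ := hp.unique h hloc hn hd hQ f (q ▸ hz)
      rw [ek, map_smul, pb_self, hp.2.2.2.1, mul_zero, smul_zero] at hux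
      exact absurd hux (by decide)
    obtain ⟨e, he, hb, ez, hz'⟩ := pt_comm h hloc hn hd hQ f hp hz.1 hz.2.1 hne hcz
    obtain ⟨k, -, ek⟩ := hz'.unique h hloc hn hd hQ f hz
    refine ⟨e, he, fun q => hb (by rw [pb_symm]; exact (hp.2.2.2.2 e he).1 q), ez, hb, ?_⟩
    have hk1 : k = 1 := by
      rw [ek, map_smul, map_sub, map_smul, pb_self, hp.2.2.2.1, pb_symm Q u, smul_eq_mul, smul_eq_mul, mul_zero,
        sub_zero, sq_one _ hb, mul_one] at hux
      exact hux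
    rw [ek, hk1, one_smul]
  obtain ⟨e, he, heT, rfl, hb, ex⟩ := norm hz hux hcz
  obtain ⟨e', he', heT', rfl, hb', ew⟩ := norm hy huw hcy
  have hee : e ≠ e' := fun q => hxw (by subst q; rw [ex, ew, pb_self, ← ex, hz.2.2.2.1, mul_zero])
  rw [commute_yy_yy h hd hp.1 hp.2.1 he heT he' heT', f.com_iff (h.nb_closed d) he he' hee]
  have key : pb Q x w = pb Q (φ e) u * pb Q (φ e') u * pb Q (φ e) (φ e') + 1 := by
    rw [ex, ew]
    simp only [map_sub, map_smul, LinearMap.sub_apply, LinearMap.smul_apply, smul_eq_mul, pb_self, hp.2.2.2.1,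
      pb_symm Q u (φ e'), mul_zero, sub_zero]
    revert hb hb'
    generalize pb Q (φ e) (φ e') = i; generalize pb Q (φ e) u = j; generalize pb Q (φ e') u = k
    revert i j k; decide
  rw [key]
  revert hb hb'
  generalize pb Q (φ e) (φ e') = i; generalize pb Q (φ e) u = j; generalize pb Q (φ e') u = k
  revert i j k; decide

/-- Agreement spreads over three members. -/
theorem agree_tri {c z y : G} {u x w : V} (hp : Pt D d Q φ c u) (hz : Pt D d Q φ z x) (hy : Pt D d Q φ y w)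
    (hux : pb Q u x ≠ 0) (huw : pb Q u w ≠ 0) (h1 : Agree Q c u z x) (h2 : Agree Q c u y w) : Agree Q z x y w := by
  have step : ∀ {y : G} {w : V}, Pt D d Q φ y w → pb Q u w ≠ 0 → Agree Q c u y w →
      (Commute c y ∧ pb Q u w = 1) ∨ (Commute c (d * y * d) ∧ pb Q u (-w) = 1) := by
    intro y w hy huw h2
    rcases three_cases (pb Q u w) with e | e | e
    · exact absurd e huw
    · exact Or.inl ⟨(h2 huw).2 e, e⟩
    · have e' : pb Q u (-w) = 1 := by rw [map_neg, e, neg_neg]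
      exact Or.inr ⟨((h2.flip h hloc hn hd hQ f hy hp) (by rw [e']; decide)).2 e', e'⟩
  have hz' := (hz.third h hloc hn hd hQ f).neg h hloc hn hd hQ f
  have hy' := (hy.third h hloc hn hd hQ f).neg h hloc hn hd hQ f
  have back : ∀ {z y : G} {x w : V}, Pt D d Q φ z x → Pt D d Q φ (d * y * d) (-w) →
      Agree Q z x (d * y * d) (-w) → Agree Q z x y w := by
    intro z y x w hz hy ha
    have := ha.flip h hloc hn hd hQ f hy hz
    rwa [h.closed.conj_conj hd, neg_neg] at this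
  rcases step hz hux h1 with ⟨a1, a2⟩ | ⟨a1, a2⟩ <;> rcases step hy huw h2 with ⟨b1, b2⟩ | ⟨b1, b2⟩
  · exact agree_tri_one h hloc hn hd hQ f hp hz hy a2 b2 a1 b1
  · exact back hz hy' (agree_tri_one h hloc hn hd hQ f hp hz hy' a2 b2 a1 b1)
  · exact (back hy hz' (agree_tri_one h hloc hn hd hQ f hp hy hz' b2 a2 b1 a1)).symm
  · refine back hz hy' ?_
    exact (back hy' hz' (agree_tri_one h hloc hn hd hQ f hp hy' hz' b2 a2 b1 a1)).symm

/-- An oriented member commuting with the base. -/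
def Base (D : Set G) (d c0 : G) (Q : QuadraticForm (ZMod 3) (Fin n → ZMod 3)) (φ : G → Fin n → ZMod 3)
    (u0 : Fin n → ZMod 3) (z : G) (x : Fin n → ZMod 3) : Prop :=
  Pt D d Q φ z x ∧ pb Q u0 x = 1 ∧ Commute c0 z

/-- Agreeing with all bases. -/
def Ori (D : Set G) (d c0 : G) (Q : QuadraticForm (ZMod 3) (Fin n → ZMod 3)) (φ : G → Fin n → ZMod 3)
    (u0 : Fin n → ZMod 3) (z : G) (x : Fin n → ZMod 3) : Prop :=
  Pt D d Q φ z x ∧ ∀ y m, Base D d c0 Q φ u0 y m → Agree Q y m z x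

variable {c0 : G} {u0 : Fin n → ZMod 3} (hp : Pt D d Q φ c0 u0)
include hp

theorem base_exists {x : V} (qx : Q x = 0) (hux : pb Q u0 x = 1) : ∃ z, Base D d c0 Q φ u0 z x := by
  have hne : pb Q u0 x ≠ 0 := by rw [hux]; decide
  obtain ⟨z, hz⟩ := pt_surj h hloc hn hd hQ f hp (fun e => hne (by rw [e, map_zero])) qx
  by_cases q : Commute c0 z
  · exact ⟨z, hz, hux, q⟩
  · exact ⟨_, hz.third h hloc hn hd hQ f, hux, (pt_one h hloc hn hd hQ f hp hz hne).2 q⟩

theorem base_agree {y z : G} {m x : V} (hb : Base D d c0 Q φ u0 y m) (hb' : Base D d c0 Q φ u0 z x) :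
    Agree Q y m z x :=
  agree_tri_one h hloc hn hd hQ f hp hb.1 hb'.1 hb.2.1 hb'.2.1 hb.2.2 hb'.2.2

theorem Ori.flip {z : G} {x : V} (ho : Ori D d c0 Q φ u0 z x) : Ori D d c0 Q φ u0 (d * z * d) (-x) :=
  ⟨(ho.1.third h hloc hn hd hQ f).neg h hloc hn hd hQ f, fun y m hb =>
    (ho.2 y m hb).flip h hloc hn hd hQ f ho.1 hb.1⟩

theorem base_meet {x : V} (hx0 : x ≠ 0) (qx : Q x = 0) :
    ∃ y m, Base D d c0 Q φ u0 y m ∧ pb Q m x ≠ 0 := by
  obtain ⟨m, qm, h1, h2⟩ := exists_meet_one hQ hn hp.2.2.1 hp.2.2.2.1 hx0 qx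
  obtain ⟨y, hy⟩ := base_exists h hloc hn hd hQ f hp qm h1
  exact ⟨y, m, hy, by rwa [pb_symm]⟩

theorem Ori.unique {z y : G} {x : V} (ho : Ori D d c0 Q φ u0 z x) (ho' : Ori D d c0 Q φ u0 y x) : y = z := by
  rcases ho.1.pair h hloc hn hd hQ f ho'.1 with r | r
  · exact r
  exfalso
  obtain ⟨b, m, hb, hmx⟩ := base_meet h hloc hn hd hQ f hp ho.1.2.2.1 ho.1.2.2.2.1
  have h1 := ho'.2 b m hb hmx
  rw [r, pt_one h hloc hn hd hQ f hb.1 ho.1 hmx, ho.2 b m hb hmx] at h1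
  exact iff_not_self h1.symm

theorem Base.ori {z : G} {x : V} (hb : Base D d c0 Q φ u0 z x) : Ori D d c0 Q φ u0 z x :=
  ⟨hb.1, fun _ _ hb' => base_agree h hloc hn hd hQ f hp hb' hb⟩

theorem Ori.base {z : G} {x : V} (ho : Ori D d c0 Q φ u0 z x) (hux : pb Q u0 x = 1) :
    Base D d c0 Q φ u0 z x := by
  obtain ⟨y, hy⟩ := base_exists h hloc hn hd hQ f hp ho.1.2.2.2.1 hux
  rwa [← (hy.ori h hloc hn hd hQ f hp).unique h hloc hn hd hQ f hp ho] at hy

theorem ori_base : Ori D d c0 Q φ u0 c0 u0 :=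
  ⟨hp, fun y m hb _ => iff_of_true hb.2.2.symm (by rw [pb_symm]; exact hb.2.1)⟩

/-- Every pair is oriented. -/
theorem ori_exists {x : V} (hx0 : x ≠ 0) (qx : Q x = 0) : ∃ z, Ori D d c0 Q φ u0 z x := by
  rcases three_cases (pb Q u0 x) with e | e | e
  swap
  · obtain ⟨z, hz⟩ := base_exists h hloc hn hd hQ f hp qx e
    exact ⟨z, hz.ori h hloc hn hd hQ f hp⟩
  swap
  · obtain ⟨z, hz⟩ := base_exists h hloc hn hd hQ f hp (x := -x) (by rw [q_neg, qx]) (by rw [map_neg, e, neg_neg])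
    exact ⟨_, by simpa using (hz.ori h hloc hn hd hQ f hp).flip h hloc hn hd hQ f hp⟩
  by_cases hm : ∃ k : ZMod 3, x = k • u0
  · obtain ⟨k, rfl⟩ := hm
    rcases three_cases k with r | r | r <;> rw [r] at hx0 ⊢
    · exact absurd (zero_smul _ _) hx0
    · exact ⟨c0, by rw [one_smul]; exact ori_base h hloc hn hd hQ f hp⟩
    · exact ⟨_, by rw [neg_one_smul]; exact (ori_base h hloc hn hd hQ f hp).flip h hloc hn hd hQ f hp⟩
  push Not at hm
  obtain ⟨y0, m0, hb0, hmx⟩ := base_meet h hloc hn hd hQ f hp hx0 qx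
  obtain ⟨z0, hz0⟩ := pt_surj h hloc hn hd hQ f hp hx0 qx
  obtain ⟨z, hz, ha⟩ : ∃ z, Pt D d Q φ z x ∧ Agree Q y0 m0 z x := by
    by_cases q : Commute y0 z0 ↔ pb Q m0 x = 1
    · exact ⟨z0, hz0, fun _ => q⟩
    · refine ⟨_, hz0.third h hloc hn hd hQ f, fun _ => ?_⟩
      rw [pt_one h hloc hn hd hQ f hb0.1 hz0 hmx]
      exact (not_iff.1 q)
  refine ⟨z, hz, fun y m hb hne => ?_⟩
  by_cases hmm : pb Q m0 m = 0
  swap
  · exact agree_tri h hloc hn hd hQ f hb0.1 hb.1 hz hmm hmx (base_agree h hloc hn hd hQ f hp hb0 hb) ha hne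
  obtain ⟨m1, qm1, hu1, hw1, h01, h11⟩ := exists_between hQ hn hp.2.2.2.1 qx e hm hb0.1.2.2.2.1 hb0.2.1 hb.2.1
    (by rwa [pb_symm]) hmm
  obtain ⟨y1, hb1⟩ := base_exists h hloc hn hd hQ f hp qm1 hu1
  have ha1 := agree_tri h hloc hn hd hQ f hb0.1 hb1.1 hz h01 hmx (base_agree h hloc hn hd hQ f hp hb0 hb1) ha
  exact agree_tri h hloc hn hd hQ f hb1.1 hb.1 hz (by rwa [pb_symm]) (by rwa [pb_symm])
    (base_agree h hloc hn hd hQ f hp hb1 hb) ha1 hne

/-- All oriented members agree. -/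
theorem Ori.agree {z y : G} {x w : V} (ho : Ori D d c0 Q φ u0 z x) (ho' : Ori D d c0 Q φ u0 y w) :
    Agree Q z x y w := by
  have hnon : ∀ {z y : G} {x w : V}, Ori D d c0 Q φ u0 z x → Ori D d c0 Q φ u0 y w → pb Q u0 x ≠ 0 →
      Agree Q z x y w := by
    intro z y x w ho ho' hx
    rcases three_cases (pb Q u0 x) with e | e | e
    · exact absurd e hx
    · exact ho'.2 z x (ho.base h hloc hn hd hQ f hp e)
    · have hb := (ho.flip h hloc hn hd hQ f hp).base h hloc hn hd hQ f hp (by rw [map_neg, e, neg_neg])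
      have := ((ho'.2 _ _ hb).symm.flip h hloc hn hd hQ f hb.1 ho'.1).symm
      rwa [h.closed.conj_conj hd, neg_neg] at this
  by_cases hx : pb Q u0 x = 0
  swap
  · exact hnon ho ho' hx
  by_cases hw : pb Q u0 w = 0
  swap
  · exact (hnon ho' ho hw).symm
  intro hne
  obtain ⟨m, qm, hum, h1, h2⟩ := exists_common hQ hn hp.2.2.2.1 hp.2.2.1 ho.1.2.2.2.1 ho'.1.2.2.2.1 hx hw hne
  obtain ⟨b, hb⟩ := base_exists h hloc hn hd hQ f hp qm hum
  exact agree_tri h hloc hn hd hQ f hb.1 ho.1 ho'.1 (by rwa [pb_symm]) (by rwa [pb_symm]) (ho.2 b m hb)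
    (ho'.2 b m hb) hne

theorem ori_far {z : G} (hz : z ∈ D) (hdz : ¬ Commute d z) : ∃ x, Ori D d c0 Q φ u0 z x := by
  obtain ⟨x, hx⟩ := pt_exists h hloc hn hd hQ f hz hdz
  obtain ⟨y, hy⟩ := ori_exists h hloc hn hd hQ f hp hx.2.2.1 hx.2.2.2.1
  rcases hy.1.pair h hloc hn hd hQ f hx with r | r
  · exact ⟨x, r ▸ hy⟩
  · exact ⟨-x, r ▸ hy.flip h hloc hn hd hQ f hp⟩

/-- Commutation of two oriented members. -/
theorem Ori.com_iff {z y : G} {x w : V} (ho : Ori D d c0 Q φ u0 z x) (ho' : Ori D d c0 Q φ u0 y w)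
    (hne : z ≠ y) : Commute z y ↔ pb Q x w = 1 := by
  by_cases hb : pb Q x w = 0
  · refine iff_of_false (fun q => pt_nonorth h hloc hn hd hQ f ho.1 ho'.1 hne.symm q hb) ?_
    rw [hb]; decide
  · exact ho.agree h hloc hn hd hQ f hp ho' hb

end pts

end CfsgLib.Fischer
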