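import Cfsg.Agent.Fischer.Coords

/-!
Fischer's theorem: coordinates over two elements of the neighbourhood of a member extend to all members.
-/

set_option autoImplicit false
set_option linter.unusedSectionVars false

namespace CfsgLib.Fischer

open CfsgLib.ThreeT CfsgLib.ThreeT.Prod

universe u

variable {G : Type u} [Group G] {V : Type*} [AddCommGroup V] [Module (ZMod 2) V]

/-- The data of an extension around a far pair. -/
structure Ext (D : Set G) (B : LinearMap.BilinForm (ZMod 2) V) (d c : G) (φ : G → V) (δ γ : V) : Prop where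
  symm : ∀ u v, B u v = B v u
  dd : B δ δ = 0
  gg : B γ γ = 0
  dg : B δ γ = 1
  inj : Set.InjOn φ (nb D d)
  self : ∀ a ∈ nb D d, B (φ a) (φ a) = 0
  perp : ∀ a ∈ nb D d, B δ (φ a) = 0
  inT : ∀ a ∈ tri D d c, B (φ a) γ = 0
  outT : ∀ a ∈ nb D d, a ∉ tri D d c → B (φ a) γ = 1
  com : ∀ a ∈ nb D d, ∀ b ∈ nb D d, (Commute a b ↔ B (φ a) (φ b) = 0)
  conj : ∀ a ∈ nb D d, ∀ b ∈ nb D d, ¬ Commute a b → φ (a * b * a) = φ b + φ a
  nz : ∀ a ∈ nb D d, φ a ≠ 0
  ne : ∀ a ∈ nb D d, φ a ≠ δ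
  ne2 : ∀ a ∈ nb D d, ∀ b ∈ nb D d, a ∉ tri D d c → b ∉ tri D d c → φ a + φ b ≠ δ
  out : ∀ a ∈ nb D d, ∀ b ∈ nb D d, a ∉ tri D d c → b ∉ tri D d c → ¬ Commute a b → a * b * a ∈ tri D d c
  cov : ∀ z ∈ D, ¬ Commute d z → Commute z c ∨ Commute z (d * c * d)

/-- The set of all vectors of the extension. -/
def Ext.range (D : Set G) (d c : G) (φ : G → V) (δ γ : V) : Set V :=
  {v | v = δ ∨ (∃ a ∈ nb D d, v = φ a) ∨ v = γ ∨ v = γ + δ ∨
    (∃ a ∈ nb D d, a ∉ tri D d c ∧ v = γ + φ a) ∨ ∃ a ∈ nb D d, a ∉ tri D d c ∧ v = γ + δ + φ a}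

/-- The kinds of members and their vectors. -/
inductive Kind (D : Set G) (d c : G) (φ : G → V) (δ γ : V) : G → V → Prop
  | self : Kind D d c φ δ γ d δ
  | near {a : G} (ha : a ∈ nb D d) : Kind D d c φ δ γ a (φ a)
  | pc : Kind D d c φ δ γ c γ
  | pc' : Kind D d c φ δ γ (d * c * d) (γ + δ)
  | px {a : G} (ha : a ∈ nb D d) (haT : a ∉ tri D d c) : Kind D d c φ δ γ (xx c a) (γ + φ a)
  | py {a : G} (ha : a ∈ nb D d) (haT : a ∉ tri D d c) : Kind D d c φ δ γ (yy d c a) (γ + δ + φ a)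

variable [Finite G] {D : Set G} {B : LinearMap.BilinForm (ZMod 2) V} {d c : G} {φ : G → V} {δ γ : V}
  (h : Fi D) (hd : d ∈ D) (hc : c ∈ D) (hdc : ¬ Commute d c) (E : Ext D B d c φ δ γ)
include h hd hc hdc E

theorem Ext.exists_kind {z : G} (hz : z ∈ D) : ∃ v, Kind D d c φ δ γ z v := by
  by_cases e1 : z = d
  · exact ⟨δ, e1 ▸ .self⟩
  by_cases e2 : Commute d z
  · exact ⟨_, .near ⟨hz, e1, e2⟩⟩
  by_cases e3 : z = c
  · exact ⟨γ, e3 ▸ .pc⟩
  by_cases e4 : z = d * c * d
  · exact ⟨γ + δ, e4 ▸ .pc'⟩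
  rcases E.cov z hz e2 with q | q
  · obtain ⟨a, ha, haT, e⟩ := exists_yy h hd hc hdc (show z ∈ nb D c from ⟨hz, e3, q.symm⟩) e2
    exact ⟨γ + δ + φ a, e ▸ .py ha haT⟩
  · obtain ⟨a, ha, haT, e⟩ := exists_xx h hd hc hdc (show z ∈ nb D (d * c * d) from ⟨hz, e4, q.symm⟩) e2
    exact ⟨γ + φ a, e ▸ .px ha haT⟩

theorem Ext.kind_mem {z : G} {v : V} (k : Kind D d c φ δ γ z v) :
    z ∈ D ∧ v ∈ Ext.range D d c φ δ γ := by
  cases k with
  | self => exact ⟨hd, Or.inl rfl⟩
  | near ha => exact ⟨ha.1, Or.inr (Or.inl ⟨_, ha, rfl⟩)⟩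
  | pc => exact ⟨hc, Or.inr (Or.inr (Or.inl rfl))⟩
  | pc' => exact ⟨c'_mem h hd hc hdc, Or.inr (Or.inr (Or.inr (Or.inl rfl)))⟩
  | px ha haT => exact ⟨xx_mem h hd hc hdc ha, Or.inr (Or.inr (Or.inr (Or.inr (Or.inl ⟨_, ha, haT, rfl⟩))))⟩
  | py ha haT => exact ⟨yy_mem h hd hc hdc ha, Or.inr (Or.inr (Or.inr (Or.inr (Or.inr ⟨_, ha, haT, rfl⟩))))⟩

theorem Ext.tri_or {a : G} (ha : a ∈ nb D d) :
    (a ∈ tri D d c ∧ B (φ a) γ = 0) ∨ (a ∉ tri D d c ∧ B (φ a) γ = 1) := by
  by_cases q : a ∈ tri D d c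
  · exact Or.inl ⟨q, E.inT a q⟩
  · exact Or.inr ⟨q, E.outT a ha q⟩

theorem Ext.gamma_iff {a : G} (ha : a ∈ nb D d) : B (φ a) γ = 0 ↔ a ∈ tri D d c := by
  rcases Ext.tri_or h hd hc hdc E ha with ⟨q, e⟩ | ⟨q, e⟩
  · exact iff_of_true e q
  · exact iff_of_false (by rw [e]; decide) q

theorem Ext.kind_com {z w : G} {v v' : V} (k : Kind D d c φ δ γ z v) (k' : Kind D d c φ δ γ w v') :
    Commute z w ↔ B v v' = 0 := by
  have hs : ∀ {x y : G} {p q : V}, (Commute x y ↔ B p q = 0) → (Commute y x ↔ B q p = 0) := by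
    intro x y p q e
    rw [Commute.symm_iff, e, E.symm]
  have gd : B γ δ = 1 := by rw [E.symm, E.dg]
  have pd : ∀ a ∈ nb D d, B (φ a) δ = 0 := fun a ha => by rw [E.symm]; exact E.perp a ha
  have pg : ∀ a ∈ nb D d, a ∉ tri D d c → B γ (φ a) = 1 := fun a ha haT => by rw [E.symm]; exact E.outT a ha haT
  have self_self : ∀ x : G, (Commute x x ↔ (0 : ZMod 2) = 0) := fun x => iff_of_true (Commute.refl x) rfl
  have d_a : ∀ {a}, a ∈ nb D d → (Commute d a ↔ B δ (φ a) = 0) := fun {a} ha =>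
    iff_of_true ha.2.2 (E.perp a ha)
  have d_c : Commute d c ↔ B δ γ = 0 := iff_of_false hdc (by rw [E.dg]; decide)
  have d_c' : Commute d (d * c * d) ↔ B δ (γ + δ) = 0 :=
    iff_of_false (c'_far_d h hd hc hdc) (by simp [E.dg, E.dd])
  have d_x : ∀ {a}, a ∈ nb D d → (Commute d (xx c a) ↔ B δ (γ + φ a) = 0) := fun {a} ha =>
    iff_of_false (xx_far_d h hd hc hdc ha) (by simp [E.dg, E.perp a ha])
  have d_y : ∀ {a}, a ∈ nb D d → (Commute d (yy d c a) ↔ B δ (γ + δ + φ a) = 0) := fun {a} ha =>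
    iff_of_false (yy_far_d h hd hc hdc ha) (by simp [E.dg, E.dd, E.perp a ha])
  have a_c : ∀ {a}, a ∈ nb D d → (Commute a c ↔ B (φ a) γ = 0) := fun {a} ha => by
    rw [Ext.gamma_iff h hd hc hdc E ha]; exact ⟨fun q => ⟨ha, q⟩, fun q => q.2⟩
  have a_c' : ∀ {a}, a ∈ nb D d → (Commute a (d * c * d) ↔ B (φ a) (γ + δ) = 0) := fun {a} ha => by
    rw [commute_c'_iff h hd hc hdc ha.2.2.symm, a_c ha, map_add, pd a ha, add_zero]
  have key : ∀ {a b}, a ∈ nb D d → b ∈ nb D d → a ∉ tri D d c →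
      (a * b * a ∈ tri D d c ↔ B (φ b) γ + B (φ a) (φ b) = 0) := by
    intro a b ha hb haT
    by_cases q : Commute a b
    · rw [(h.closed.fix_iff ha.1 b).2 q, ← Ext.gamma_iff h hd hc hdc E hb, (E.com a ha b hb).1 q, add_zero]
    · rw [← Ext.gamma_iff h hd hc hdc E ((h.nb_closed d).conj a ha b hb), E.conj a ha b hb q, map_add,
        LinearMap.add_apply, E.outT a ha haT, (two_ne_iff _).1 (mt (E.com a ha b hb).2 q)]
  have x_a : ∀ {a b}, a ∈ nb D d → a ∉ tri D d c → b ∈ nb D d →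
      (Commute (xx c a) b ↔ B (γ + φ a) (φ b) = 0) := fun {a b} ha haT hb => by
    rw [commute_xx_nb h hd hc hdc ha hb, key ha hb haT, map_add, LinearMap.add_apply, E.symm γ]
  have y_a : ∀ {a b}, a ∈ nb D d → a ∉ tri D d c → b ∈ nb D d →
      (Commute (yy d c a) b ↔ B (γ + δ + φ a) (φ b) = 0) := fun {a b} ha haT hb => by
    rw [commute_yy_nb h hd hc hdc ha hb, key ha hb haT, map_add, map_add, LinearMap.add_apply, LinearMap.add_apply,
      E.symm γ, E.perp b hb, add_zero]
  have c_c' : Commute c (d * c * d) ↔ B γ (γ + δ) = 0 :=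
    iff_of_false (c'_far_c h hd hc hdc) (by simp [E.gg, gd])
  have x_c : ∀ {a}, a ∈ nb D d → a ∉ tri D d c → (Commute (xx c a) c ↔ B (γ + φ a) γ = 0) := fun {a} ha haT =>
    iff_of_false (xx_far_c h hd hc hdc ha haT) (by simp [E.gg, E.outT a ha haT])
  have x_c' : ∀ {a}, a ∈ nb D d → a ∉ tri D d c →
      (Commute (xx c a) (d * c * d) ↔ B (γ + φ a) (γ + δ) = 0) := fun {a} ha haT =>
    iff_of_true (xx_comm_c' h hd hc hdc ha haT) (by
      simp [E.gg, gd, E.outT a ha haT, pd a ha, show (1 : ZMod 2) + 1 = 0 from rfl])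
  have y_c : ∀ {a}, a ∈ nb D d → a ∉ tri D d c → (Commute (yy d c a) c ↔ B (γ + δ + φ a) γ = 0) := fun {a} ha haT =>
    iff_of_true (yy_comm_c h hd hc hdc ha haT) (by
      simp [E.gg, E.dg, E.outT a ha haT, show (1 : ZMod 2) + 1 = 0 from rfl])
  have y_c' : ∀ {a}, a ∈ nb D d → a ∉ tri D d c →
      (Commute (yy d c a) (d * c * d) ↔ B (γ + δ + φ a) (γ + δ) = 0) := fun {a} ha haT =>
    iff_of_false (yy_far_c' h hd hc hdc ha haT) (by
      simp [E.gg, E.dg, E.dd, gd, E.outT a ha haT, pd a ha, show (1 : ZMod 2) + 1 = 0 from rfl])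
  have two : ∀ z : ZMod 2, 1 + (1 + z) = z := by decide
  have x_x : ∀ {a b}, a ∈ nb D d → a ∉ tri D d c → b ∈ nb D d → b ∉ tri D d c →
      (Commute (xx c a) (xx c b) ↔ B (γ + φ a) (γ + φ b) = 0) := fun {a b} ha haT hb hbT => by
    rw [commute_xx_xx h hd hc hdc ha haT hb hbT, E.com a ha b hb]
    simp only [map_add, LinearMap.add_apply, E.gg, pg b hb hbT, E.outT a ha haT]
    generalize B (φ a) (φ b) = z
    revert z; decide
  have y_y : ∀ {a b}, a ∈ nb D d → a ∉ tri D d c → b ∈ nb D d → b ∉ tri D d c →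
      (Commute (yy d c a) (yy d c b) ↔ B (γ + δ + φ a) (γ + δ + φ b) = 0) := fun {a b} ha haT hb hbT => by
    rw [commute_yy_yy h hd hc hdc ha haT hb hbT, E.com a ha b hb]
    simp only [map_add, LinearMap.add_apply, E.gg, pg b hb hbT, E.outT a ha haT, gd, E.dg, E.dd, E.perp b hb,
      pd a ha]
    generalize B (φ a) (φ b) = z
    revert z; decide
  have x_y : ∀ {a b}, a ∈ nb D d → a ∉ tri D d c → b ∈ nb D d → b ∉ tri D d c →
      (Commute (xx c a) (yy d c b) ↔ B (γ + φ a) (γ + δ + φ b) = 0) := fun {a b} ha haT hb hbT => by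
    obtain ⟨h1, h2⟩ := commute_xx_yy h hd hc hdc ha haT hb hbT
    simp only [map_add, LinearMap.add_apply, E.gg, pg b hb hbT, E.outT a ha haT, gd, pd a ha]
    by_cases q : Commute a b
    · rw [(E.com a ha b hb).1 q]; exact iff_of_false (h1 q) (by decide)
    · rw [(two_ne_iff _).1 (mt (E.com a ha b hb).2 q)]
      exact iff_of_true (h2 (E.out a ha b hb haT hbT q)) (by decide)
  cases k with
  | self =>
    cases k' with
    | self => rw [E.dd]; exact self_self _
    | near hb => exact d_a hb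
    | pc => exact d_c
    | pc' => exact d_c'
    | px hb _ => exact d_x hb
    | py hb _ => exact d_y hb
  | near ha =>
    cases k' with
    | self => exact hs (d_a ha)
    | near hb => exact E.com _ ha _ hb
    | pc => exact a_c ha
    | pc' => exact a_c' ha
    | px hb hbT => exact hs (x_a hb hbT ha)
    | py hb hbT => exact hs (y_a hb hbT ha)
  | pc =>
    cases k' with
    | self => exact hs d_c
    | near hb => exact hs (a_c hb)
    | pc => rw [E.gg]; exact self_self _
    | pc' => exact c_c'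
    | px hb hbT => exact hs (x_c hb hbT)
    | py hb hbT => exact hs (y_c hb hbT)
  | pc' =>
    cases k' with
    | self => exact hs d_c'
    | near hb => exact hs (a_c' hb)
    | pc => exact hs c_c'
    | pc' => exact iff_of_true (Commute.refl _) (by simp [E.gg, gd, E.dg, E.dd, show (1 : ZMod 2) + 1 = 0 from rfl])
    | px hb hbT => exact hs (x_c' hb hbT)
    | py hb hbT => exact hs (y_c' hb hbT)
  | px ha haT =>
    cases k' with
    | self => exact hs (d_x ha)
    | near hb => exact x_a ha haT hb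
    | pc => exact x_c ha haT
    | pc' => exact x_c' ha haT
    | px hb hbT => exact x_x ha haT hb hbT
    | py hb hbT => exact x_y ha haT hb hbT
  | py ha haT =>
    cases k' with
    | self => exact hs (d_y ha)
    | near hb => exact y_a ha haT hb
    | pc => exact y_c ha haT
    | pc' => exact y_c' ha haT
    | px hb hbT => exact hs (x_y hb hbT ha haT)
    | py hb hbT => exact y_y ha haT hb hbT

theorem Ext.kind_inj {z w : G} {v v' : V} (k : Kind D d c φ δ γ z v) (k' : Kind D d c φ δ γ w v') (e : v = v') :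
    z = w := by
  have gd : B γ δ = 1 := by rw [E.symm, E.dg]
  -- far members are told from the others by the form with `δ`
  have hB := congrArg (B δ) e
  have hn : ∀ a ∈ nb D d, B δ (φ a) = 0 := E.perp
  have hfar : ∀ {a}, a ∈ nb D d → B δ (γ + φ a) = 1 ∧ B δ (γ + δ + φ a) = 1 := fun {a} ha => by
    simp [E.dg, E.dd, hn a ha]
  have hdnz : δ ≠ 0 := fun q => by simpa [q] using E.dg
  have hgd : B δ (γ + δ) = 1 := by simp [E.dg, E.dd]
  have h01 : (0 : ZMod 2) ≠ 1 := by decide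
  have hx : ∀ {a}, a ∈ nb D d → γ ≠ γ + φ a ∧ γ ≠ γ + δ + φ a ∧ γ + δ ≠ γ + φ a ∧ γ + δ ≠ γ + δ + φ a := by
    intro a ha
    refine ⟨fun q => E.nz a ha (add_eq_left.1 q.symm), fun q => E.ne a ha ?_, fun q => E.ne a ha ?_,
      fun q => E.nz a ha (add_eq_left.1 q.symm)⟩
    · rw [add_assoc, eq_comm, add_eq_left] at q
      rw [← add_zero (φ a), ← vadd_self δ, ← add_assoc, add_comm (φ a) δ, q, zero_add]
    · exact (add_left_cancel q).symm
  have hne : γ ≠ γ + δ := fun q => hdnz (add_eq_left.1 q.symm)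
  cases k with
  | self =>
    cases k' with
    | self => rfl
    | near hb => exact absurd e.symm (E.ne _ hb)
    | pc => rw [E.dd, E.dg] at hB; exact absurd hB h01
    | pc' => rw [E.dd, hgd] at hB; exact absurd hB h01
    | px hb _ => rw [E.dd, (hfar hb).1] at hB; exact absurd hB h01
    | py hb _ => rw [E.dd, (hfar hb).2] at hB; exact absurd hB h01
  | near ha =>
    cases k' with
    | self => exact absurd e (E.ne _ ha)
    | near hb => exact E.inj ha hb e
    | pc => rw [hn _ ha, E.dg] at hB; exact absurd hB h01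
    | pc' => rw [hn _ ha, hgd] at hB; exact absurd hB h01
    | px hb _ => rw [hn _ ha, (hfar hb).1] at hB; exact absurd hB h01
    | py hb _ => rw [hn _ ha, (hfar hb).2] at hB; exact absurd hB h01
  | pc =>
    cases k' with
    | self => rw [E.dd, E.dg] at hB; exact absurd hB.symm h01
    | near hb => rw [hn _ hb, E.dg] at hB; exact absurd hB.symm h01
    | pc => rfl
    | pc' => exact absurd e hne
    | px hb _ => exact absurd e (hx hb).1
    | py hb _ => exact absurd e (hx hb).2.1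
  | pc' =>
    cases k' with
    | self => rw [E.dd, hgd] at hB; exact absurd hB.symm h01
    | near hb => rw [hn _ hb, hgd] at hB; exact absurd hB.symm h01
    | pc => exact absurd e.symm hne
    | pc' => rfl
    | px hb _ => exact absurd e (hx hb).2.2.1
    | py hb _ => exact absurd e (hx hb).2.2.2
  | @px a ha haT =>
    cases k' with
    | self => rw [E.dd, (hfar ha).1] at hB; exact absurd hB.symm h01
    | near hb => rw [hn _ hb, (hfar ha).1] at hB; exact absurd hB.symm h01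
    | pc => exact absurd e.symm (hx ha).1
    | pc' => exact absurd e.symm (hx ha).2.2.1
    | px hb _ => rw [E.inj ha hb (add_left_cancel e)]
    | @py b hb hbT =>
      rw [add_assoc] at e
      exact absurd (by rw [add_left_cancel e, add_assoc, vadd_self, add_zero]) (E.ne2 a ha b hb haT hbT)
  | @py a ha haT =>
    cases k' with
    | self => rw [E.dd, (hfar ha).2] at hB; exact absurd hB.symm h01
    | near hb => rw [hn _ hb, (hfar ha).2] at hB; exact absurd hB.symm h01
    | pc => exact absurd e.symm (hx ha).2.1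
    | pc' => exact absurd e.symm (hx ha).2.2.2
    | @px b hb hbT =>
      rw [add_assoc] at e
      exact absurd (by rw [← add_left_cancel e, add_assoc, vadd_self, add_zero]) (E.ne2 b hb a ha hbT haT)
    | py hb _ => rw [E.inj ha hb (add_left_cancel e)]

/-- The extended coordinates. -/
theorem Ext.exists_map : ∃ Ψ : G → V, Set.BijOn Ψ D (Ext.range D d c φ δ γ) ∧
    (∀ z ∈ D, ∀ w ∈ D, (Commute z w ↔ B (Ψ z) (Ψ w) = 0)) ∧
    Ψ d = δ ∧ Ψ c = γ ∧ ∀ a ∈ nb D d, Ψ a = φ a := by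
  classical
  let Ψ : G → V := fun z => if q : z ∈ D then (Ext.exists_kind h hd hc hdc E q).choose else 0
  have hk : ∀ z ∈ D, Kind D d c φ δ γ z (Ψ z) := fun z hz => by
    simp only [Ψ, dif_pos hz]; exact (Ext.exists_kind h hd hc hdc E hz).choose_spec
  have huniq' : ∀ {z w : G} {v v' : V}, Kind D d c φ δ γ z v → Kind D d c φ δ γ w v' → z = w → v = v' := by
    intro z w v v' k k' hz
    have na_c : ∀ {a}, a ∈ nb D d → a ≠ c := fun ha e => hdc (e ▸ ha.2.2)
    have na_c' : ∀ {a}, a ∈ nb D d → a ≠ d * c * d := fun ha e => c'_far_d h hd hc hdc (e ▸ ha.2.2)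
    have hcc' : c ≠ d * c * d := fun e => c'_far_c h hd hc hdc (e ▸ Commute.refl c)
    have hd_c : d ≠ c := fun e => hdc (e ▸ Commute.refl d)
    have hd_c' : d ≠ d * c * d := fun e => c'_far_d h hd hc hdc (e ▸ Commute.refl d)
    cases k with
    | self =>
      cases k' with
      | self => rfl
      | near hb => exact absurd hz.symm hb.2.1
      | pc => exact absurd hz hd_c
      | pc' => exact absurd hz hd_c'
      | px hb _ => exact absurd (hz ▸ Commute.refl d) (xx_far_d h hd hc hdc hb)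
      | py hb _ => exact absurd (hz ▸ Commute.refl d) (yy_far_d h hd hc hdc hb)
    | @near a ha =>
      cases k' with
      | self => exact absurd hz ha.2.1
      | near hb => rw [hz]
      | pc => exact absurd hz (na_c ha)
      | pc' => exact absurd hz (na_c' ha)
      | px hb _ => exact absurd (hz ▸ ha.2.2) (xx_far_d h hd hc hdc hb)
      | py hb _ => exact absurd (hz ▸ ha.2.2) (yy_far_d h hd hc hdc hb)
    | pc =>
      cases k' with
      | self => exact absurd hz.symm hd_c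
      | near hb => exact absurd hz.symm (na_c hb)
      | pc => rfl
      | pc' => exact absurd hz hcc'
      | px hb hbT => exact absurd (hz ▸ Commute.refl c) (xx_far_c h hd hc hdc hb hbT)
      | py hb hbT => exact absurd hz.symm (yy_ne_c h hd hc hdc hb hbT)
    | pc' =>
      cases k' with
      | self => exact absurd hz.symm hd_c'
      | near hb => exact absurd hz.symm (na_c' hb)
      | pc => exact absurd hz.symm hcc'
      | pc' => rfl
      | px hb hbT => exact absurd hz.symm (xx_ne_c' h hd hc hdc hb hbT)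
      | py hb hbT => exact absurd (hz ▸ Commute.refl (d * c * d)) (yy_far_c' h hd hc hdc hb hbT)
    | @px a ha haT =>
      cases k' with
      | self => exact absurd (hz ▸ Commute.refl d) (xx_far_d h hd hc hdc ha)
      | near hb => exact absurd (hz ▸ hb.2.2) (xx_far_d h hd hc hdc ha)
      | pc => exact absurd (show Commute (xx c a) c by rw [hz]) (xx_far_c h hd hc hdc ha haT)
      | pc' => exact absurd hz (xx_ne_c' h hd hc hdc ha haT)
      | px hb hbT => rw [xx_injOn h hd hc hdc ha haT hb hbT hz]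
      | py hb hbT => exact absurd hz (xx_ne_yy h hd hc hdc ha haT hb hbT)
    | @py a ha haT =>
      cases k' with
      | self => exact absurd (show Commute d (yy d c a) by rw [hz]) (yy_far_d h hd hc hdc ha)
      | near hb => exact absurd (hz ▸ hb.2.2) (yy_far_d h hd hc hdc ha)
      | pc => exact absurd hz (yy_ne_c h hd hc hdc ha haT)
      | pc' => exact absurd (hz ▸ Commute.refl (d * c * d)) (yy_far_c' h hd hc hdc ha haT)
      | px hb hbT => exact absurd hz.symm (xx_ne_yy h hd hc hdc hb hbT ha haT)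
      | py hb hbT => rw [yy_injOn h hd hc hdc ha haT hb hbT hz]
  have huniq : ∀ {z : G} {v v' : V}, Kind D d c φ δ γ z v → Kind D d c φ δ γ z v' → v = v' :=
    fun k k' => huniq' k k' rfl
  refine ⟨Ψ, ⟨fun z hz => (Ext.kind_mem h hd hc hdc E (hk z hz)).2,
    fun z hz w hw e => Ext.kind_inj h hd hc hdc E (hk z hz) (hk w hw) e, fun v hv => ?_⟩,
    fun z hz w hw => Ext.kind_com h hd hc hdc E (hk z hz) (hk w hw),
    huniq (hk d hd) .self, huniq (hk c hc) .pc, fun a ha => huniq (hk a ha.1) (.near ha)⟩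
  obtain ⟨z, k⟩ : ∃ z, Kind D d c φ δ γ z v := by
    rcases hv with e | ⟨a, ha, e⟩ | e | e | ⟨a, ha, haT, e⟩ | ⟨a, ha, haT, e⟩
    exacts [⟨d, e ▸ .self⟩, ⟨a, e ▸ .near ha⟩, ⟨c, e ▸ .pc⟩, ⟨d * c * d, e ▸ .pc'⟩, ⟨xx c a, e ▸ .px ha haT⟩,
      ⟨yy d c a, e ▸ .py ha haT⟩]
  obtain ⟨hz, -⟩ := Ext.kind_mem h hd hc hdc E k
  exact ⟨z, hz, huniq (hk z hz) k⟩

end CfsgLib.Fischer
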