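import Cfsg.Agent.Fischer.Types

/-!
Fischer's theorem: a simple derived subgroup gives the standing hypothesis or the symmetric group on three letters.
-/

set_option autoImplicit false
set_option linter.unusedSectionVars false
set_option linter.style.haveILetI false

open scoped commutatorElement

namespace CfsgLib.Fischer

open CfsgLib.ThreeT CfsgLib.ThreeT.Prod CfsgLib.ThreeT.Tv

universe u

theorem tau3_faith : ∀ r : Equiv.Perm (Fin 3), r * tau3 0 = tau3 0 * r → r * tau3 1 = tau3 1 * r → r = 1 := by decide

variable {G : Type u} [Group G] [Finite G] {D : Set G}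

/-- A derived subgroup of prime order gives the symmetric group on three letters. -/
theorem sym_three (hD : Cfsg.IsThreeTranspositionClass D) (hZ : Subgroup.center G = ⊥)
    (hcomm : ∀ a b : commutator G, a * b = b * a) [hs : IsSimpleGroup (commutator G)] :
    ∃ e : G ≃* Equiv.Perm (Fin 3), e '' D = {σ : Equiv.Perm (Fin 3) | σ.IsSwap} := by
  classical
  obtain ⟨htts, ⟨d, hd, hcl⟩, hgen⟩ := hD
  have hD' : Cfsg.IsThreeTranspositionClass D := ⟨htts, ⟨d, hd, hcl⟩, hgen⟩
  have hsq : ∀ x ∈ D, x * x = 1 := fun x hx => ThreeT.sq htts hx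
  have hinv : ∀ x ∈ D, x⁻¹ = x := fun x hx => ThreeT.inv htts hx
  have hprod : ∀ x ∈ D, ∀ y ∈ D, x * y ∈ commutator G := by
    intro x hx y hy
    obtain ⟨g, rfl⟩ := exists_conj hD' hx hy
    have h1 : ⁅x, g⁆ ∈ commutator G := Subgroup.commutator_mem_commutator (Subgroup.mem_top x) (Subgroup.mem_top g)
    rwa [commutatorElement_def, hinv x hx, show x * g * x * g⁻¹ = x * (g * x * g⁻¹) by group] at h1
  letI : CommGroup (commutator G) := { (inferInstance : Group (commutator G)) with mul_comm := hcomm }
  have hp : (Nat.card (commutator G)).Prime := IsSimpleGroup.prime_card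
  have hp2 : Nat.card (commutator G) ≠ 2 := by
    intro h2
    have hle : commutator G ≤ Subgroup.center G := fun z hz => Subgroup.mem_center_iff.2 fun g => by
      by_cases hz1 : z = 1
      · simp [hz1]
      have h3 : g * z * g⁻¹ ∈ commutator G := Subgroup.Normal.conj_mem inferInstance z hz g
      obtain ⟨a, b, -, hab⟩ := Nat.card_eq_two_iff.1 h2
      have key : ∀ u v : commutator G, u ≠ 1 → v ≠ 1 → u = v := fun u v hu hv => by
        have := fun w : commutator G => hab ▸ Set.mem_univ w
        rcases this u with e | e <;> rcases this v with e' | e' <;> rcases this 1 with e'' | e'' <;> simp_all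
      have := congrArg Subtype.val (key ⟨_, h3⟩ ⟨z, hz⟩ (fun e => hz1 (by
        have e' : g * z * g⁻¹ = 1 := congrArg Subtype.val e
        calc z = g⁻¹ * (g * z * g⁻¹) * g := by group
            _ = 1 := by rw [e']; group)) fun e => hz1 (congrArg Subtype.val e))
      exact mul_inv_eq_iff_eq_mul.1 this
    rw [hZ, le_bot_iff] at hle
    rw [hle, Subgroup.card_bot] at h2
    omega
  have hnc : ∀ x ∈ D, ∀ y ∈ D, Commute x y → x = y := by
    intro x hx y hy hc
    have h1 : (⟨x * y, hprod x hx y hy⟩ : commutator G) ^ 2 = 1 := Subtype.ext (by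
      show (x * y) ^ 2 = 1
      rw [hc.mul_pow, pow_two, pow_two, hsq x hx, hsq y hy, mul_one])
    by_contra hne
    have h2 : orderOf (⟨x * y, hprod x hx y hy⟩ : commutator G) = 2 := orderOf_eq_prime h1 fun e => hne (by
      have e' : x * y = 1 := congrArg Subtype.val e
      rw [← hinv x hx]; exact inv_eq_of_mul_eq_one_right e')
    exact hp2 (((Nat.prime_dvd_prime_iff_eq Nat.prime_two hp).1 (h2 ▸ orderOf_dvd_natCard _)).symm)
  obtain ⟨e, he, hed⟩ : ∃ e ∈ D, e ≠ d := by
    by_contra hq
    push Not at hq
    refine ThreeT.not_commutative hD' hZ d hd fun x y => ?_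
    have hone : ∀ g : G, g ∈ Subgroup.zpowers d := fun g => by
      have : Subgroup.closure D ≤ Subgroup.zpowers d := (Subgroup.closure_le _).2 fun z hz => hq z hz ▸ Subgroup.mem_zpowers d
      exact this (hgen ▸ Subgroup.mem_top g)
    obtain ⟨i, rfl⟩ := hone x
    obtain ⟨j, rfl⟩ := hone y
    exact ((Commute.refl d).zpow_zpow i j).eq
  have hde : ¬ Commute d e := fun c => hed (hnc d hd e he c).symm
  have hS : Closed D := ⟨htts, fun x hx y hy => by
    have := ThreeT.conj_mem hD' hy x
    rwa [hinv x hx] at this⟩
  have hbr := hS.braid hd he hde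
  set f := d * e * d with hf
  have hfD : f ∈ D := hS.conj d hd e he
  have hfd : f ≠ d := fun q => hde (by
    have : e = d := by
      have h1 := congrArg (fun w => d * w * d) q
      simp only [hf, hS.conj_conj hd] at h1
      rw [h1, hsq d hd, one_mul]
    exact absurd this hed)
  have hfe : f ≠ e := hS.third_ne hd hde
  have h3 : Nat.card (commutator G) = 3 := by
    have h1 : (⟨d * e, hprod d hd e he⟩ : commutator G) ^ 3 = 1 := Subtype.ext (by
      rcases htts.2 d hd e he with q | q
      · exfalso
        refine hde ((hS.fix_iff hd e).1 ?_)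
        have h4 : d * e * d * e = 1 := by rw [← q, pow_two]; group
        rw [eq_inv_of_mul_eq_one_left h4, hinv e he]
      · exact q)
    have h2 : orderOf (⟨d * e, hprod d hd e he⟩ : commutator G) = 3 := orderOf_eq_prime h1 fun q => hed (by
      have e' : d * e = 1 := congrArg Subtype.val q
      rw [← inv_eq_of_mul_eq_one_right e', hinv d hd])
    exact ((Nat.prime_dvd_prime_iff_eq Nat.prime_three hp).1 (h2 ▸ orderOf_dvd_natCard _)).symm
  have hall : ∀ x ∈ D, x = d ∨ x = e ∨ x = f := by
    intro x hx
    by_contra hq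
    push Not at hq
    let v : Fin 4 → commutator G := ![⟨d * x, hprod d hd x hx⟩, ⟨d * d, hprod d hd d hd⟩,
      ⟨d * e, hprod d hd e he⟩, ⟨d * f, hprod d hd f hfD⟩]
    have hinj : Function.Injective v := by
      intro i j q
      have q' : ((v i : commutator G) : G) = v j := congrArg Subtype.val q
      fin_cases i <;> fin_cases j <;> simp [v] at q' ⊢ <;>
        first
          | exact hq.1 q' | exact hq.2.1 q' | exact hq.2.2 q'
          | exact hq.1 q'.symm | exact hq.2.1 q'.symm | exact hq.2.2 q'.symm
          | exact hed q' | exact hfd q' | exact hfe q'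
          | exact hed q'.symm | exact hfd q'.symm | exact hfe q'.symm
    have := Nat.card_le_card_of_injective v hinj
    rw [Nat.card_fin, h3] at this
    omega
  let Φ : G → Equiv.Perm (Fin 3) := fun x => if x = d then tau3 0 else if x = e then tau3 1 else tau3 2
  have v0 : Φ d = tau3 0 := by simp [Φ]
  have v1 : Φ e = tau3 1 := by simp [Φ, hed]
  have v2 : Φ f = tau3 2 := by simp [Φ, hfd, hfe]
  have himg : Φ '' D = {σ : Equiv.Perm (Fin 3) | σ.IsSwap} := by
    ext σ
    constructor
    · rintro ⟨x, hx, rfl⟩
      rcases hall x hx with rfl | rfl | rfl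
      · rw [v0]; exact ⟨1, 2, by decide, rfl⟩
      · rw [v1]; exact ⟨2, 0, by decide, rfl⟩
      · rw [v2]; exact ⟨0, 1, by decide, rfl⟩
    · rintro ⟨i, j, hij, rfl⟩
      have : Equiv.swap i j = tau3 0 ∨ Equiv.swap i j = tau3 1 ∨ Equiv.swap i j = tau3 2 := by
        revert hij; revert i j; decide
      rcases this with q | q | q
      exacts [⟨d, hd, v0.trans q.symm⟩, ⟨e, he, v1.trans q.symm⟩, ⟨f, hfD, v2.trans q.symm⟩]
  refine Exists.elim (faithful_model hD' hZ Φ (fun x hx y hy q => ?_) (fun x hx => ?_) ?_ (fun x hx y hy => ?_) ?_)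
    fun g hg => ⟨g, hg.trans himg⟩
  · rcases hall x hx with rfl | rfl | rfl <;> rcases hall y hy with rfl | rfl | rfl <;>
      first | rfl | (simp only [v0, v1, v2] at q; exact absurd q (by decide))
  · rcases hall x hx with rfl | rfl | rfl <;> simp only [v0, v1, v2] <;> decide
  · rw [himg]; exact Equiv.Perm.closure_isSwap
  · have c1 : d * e * d = f := rfl
    have c2 : e * d * e = f := hbr.symm
    have c3 : d * f * d = e := hS.conj_conj hd e
    have c4 : e * f * e = d := by rw [← c2, hS.conj_conj he]
    have c5 : f * d * f = e := by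
      calc f * d * f = d * e * d * d * (d * e * d) := rfl
        _ = d * (e * d * e) * d := by rw [hS.cancel_right hd]; group
        _ = e := by rw [c2, c3]
    have c6 : f * e * f = d := by
      calc f * e * f = e * d * e * e * (e * d * e) := by rw [c2]
        _ = e * (d * e * d) * e := by rw [hS.cancel_right he]; group
        _ = d := by rw [c1, c4]
    have c0 : ∀ z ∈ D, z * z * z = z := fun z hz => by rw [hsq z hz, one_mul]
    rcases hall x hx with rfl | rfl | rfl <;> rcases hall y hy with rfl | rfl | rfl <;>
      simp only [c0 _ hd, c0 _ he, c0 _ hfD, c1, c2, c3, c4, c5, c6, v0, v1, v2] <;> decide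
  · intro r hr
    have h0 : r * tau3 0 = tau3 0 * r := v0 ▸ (hr d hd).eq
    have h1 : r * tau3 1 = tau3 1 * r := v1 ▸ (hr e he).eq
    exact tau3_faith r h0 h1

/-- A non-abelian simple derived subgroup gives the standing hypothesis. -/
theorem fi_of_simple (hD : Cfsg.IsThreeTranspositionClass D) (hZ : Subgroup.center G = ⊥)
    [hs : IsSimpleGroup (commutator G)] (hnc : ¬ ∀ a b : commutator G, a * b = b * a) : Fi D := by
  obtain ⟨htts, ⟨d, hd, hcl⟩, hgen⟩ := hD
  have hD' : Cfsg.IsThreeTranspositionClass D := ⟨htts, ⟨d, hd, hcl⟩, hgen⟩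
  have hns : ¬ Group.IsSolvable (commutator G) := fun h => hnc (IsSimpleGroup.comm_iff_isSolvable.2 h)
  have hsol : ∀ N : Subgroup G, N.Normal → Group.IsSolvable N → N = ⊥ := by
    intro N hN hNs
    rcases (inferInstance : IsSimpleGroup (commutator G)).eq_bot_or_eq_top_of_normal (N.subgroupOf (commutator G))
      inferInstance with e | e
    · have hle : ⁅N, (⊤ : Subgroup G)⁆ = ⊥ := by
        rw [eq_bot_iff]
        intro x hx
        have h1 : x ∈ commutator G := Subgroup.commutator_mono le_top le_rfl hx
        have h2 : x ∈ N := Subgroup.commutator_le_left N ⊤ hx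
        have h3 : (⟨x, h1⟩ : commutator G) ∈ N.subgroupOf (commutator G) := Subgroup.mem_subgroupOf.2 h2
        rw [e, Subgroup.mem_bot] at h3
        exact Subgroup.mem_bot.2 (congrArg Subtype.val h3)
      rw [Subgroup.commutator_eq_bot_iff_le_centralizer, Subgroup.coe_top, Subgroup.centralizer_univ, hZ] at hle
      exact le_bot_iff.1 hle
    · exfalso
      have hle : commutator G ≤ N := Subgroup.subgroupOf_eq_top.1 e
      haveI := hNs
      exact hns (Group.isSolvable_of_isSolvable_injective (f := Subgroup.inclusion hle) (Subgroup.inclusion_injective hle))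
  have hedge : Edge D := by
    by_contra hno
    haveI : Group.IsSolvable G := isSolvable_of_no_commuting hD' fun a b hab c =>
      hno ⟨a, a.2, b, b.2, fun e => hab (Subtype.ext e), c⟩
    exact hns inferInstance
  obtain ⟨a, ha, b, hb, hab, hc⟩ := hedge
  have hperf : ⁅commutator G, commutator G⁆ = commutator G := by
    rcases (inferInstance : IsSimpleGroup (commutator G)).eq_bot_or_eq_top_of_normal (commutator (commutator G))
      inferInstance with e | e
    · exfalso
      refine hnc fun u v => ?_
      have h1 : ⁅u, v⁆ ∈ commutator (commutator G) := Subgroup.commutator_mem_commutator (Subgroup.mem_top u) (Subgroup.mem_top v)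
      rw [e, Subgroup.mem_bot, commutatorElement_eq_one_iff_mul_comm] at h1
      exact h1
    · have := congrArg (Subgroup.map (commutator G).subtype) e
      rwa [Subgroup.map_subtype_commutator, ← MonoidHom.range_eq_map, Subgroup.range_subtype] at this
  exact ⟨hD', hZ, primitive_of_connected hD' hsol (comm_connected hD' hsol hperf) ⟨a, ha, b, hb, hab⟩,
    a, ha, b, hb, hab, hc⟩

end CfsgLib.Fischer
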