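import Cfsg.Agent.Fischer.UniStepEnd
import Cfsg.Agent.Fischer.ReflGood
import Cfsg.Agent.Fischer.ReflCount
import Cfsg.Agent.Fischer.CompShape

/-!
Fischer's theorem: neighbourhoods of type M(22) give the conditions of type M(23).
-/

set_option autoImplicit false
set_option linter.unusedSectionVars false
set_option linter.style.haveILetI false

namespace CfsgLib.Fischer

open CfsgLib.ThreeT CfsgLib.ThreeT.Prod CfsgLib.ThreeT.Tv

universe u

variable {G : Type u} [Group G] [Finite G] {D : Set G}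

/-- The common neighbours next to one of them, seen from it. -/
theorem nb_tri_eq {d c a : G} (hdc : ¬ Commute d c) (ha : a ∈ tri D d c) :
    nb (tri D d c) a = tri (nb D a) d c := by
  ext x
  constructor
  · rintro ⟨⟨⟨hx, hxd, hdx⟩, hxc⟩, hxa, hax⟩
    exact ⟨⟨⟨hx, hxa, hax⟩, hxd, hdx⟩, hxc⟩
  · rintro ⟨⟨⟨hx, hxa, hax⟩, hxd, hdx⟩, hxc⟩
    exact ⟨⟨⟨hx, hxd, hdx⟩, hxc⟩, hxa, hax⟩

/-- A set with twin-free quotient has as many members as the quotient. -/
theorem qimg_ncard {S : Set G} (hS : Closed S) (htw : NoTwins S) : (qimg S).ncard = S.ncard := by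
  rw [← (qmap_bijOn hS htw).image_eq, Set.ncard_image_of_injOn (qmap_injOn hS htw)]

/-- The number of members of a neighbourhood of type M(22). -/
theorem t22_ncard {S : Set G} (hS : Closed S) (htw : NoTwins S) (hfi : Fi (qimg S)) (h : T22 S) :
    S.ncard = 3510 := by
  rw [← qimg_ncard hS htw]
  obtain ⟨ψ, g, -⟩ := (SIso.qmap hS htw).symm hS
  exact six_ncard hfi (h.comp g).1

/-- Neighbourhoods of type M(22) give the conditions of type M(23). -/
theorem step_t22 (h : Fi D) (hloc : ∀ a ∈ D, T22 (nb D a))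
    (hgood : ∀ a ∈ D, NoTwins (nb D a) ∧ Fi (qimg (nb D a))) : T23 D := by
  refine ⟨hloc, fun d hd c hc hdc => ?_⟩
  have hnb : ∀ a ∈ D, (nb D a).ncard = 3510 := fun a ha =>
    t22_ncard (h.nb_closed a) (hgood a ha).1 (hgood a ha).2 (hloc a ha)
  have hX : ∀ a ∈ nb D d, {z | z ∈ D ∧ ¬ Commute d z ∧ Commute a z}.ncard = 2816 := by
    intro a ha
    have hda : d ∈ nb D a := ⟨hd, ha.2.1.symm, ha.2.2.symm⟩
    obtain ⟨K, i1, i2, hK, φ, f⟩ := (hloc a ha.1).1 d hda
    obtain ⟨W⟩ := exists_wt hK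
    have h693 := f.ncard_all W
    rw [(numLen_vals W).2.2] at h693
    have hs := ncard_split (D := nb D a) hda
    rw [hnb a ha.1] at hs
    have e : {z | z ∈ D ∧ ¬ Commute d z ∧ Commute a z} = {z | z ∈ nb D a ∧ ¬ Commute d z} := by
      ext z
      exact ⟨fun q => ⟨⟨q.1, fun e => q.2.1 (e ▸ ha.2.2), q.2.2⟩, q.2.1⟩, fun q => ⟨q.1.1, q.2, q.1.2.2⟩⟩
    rw [e]
    omega
  set T := tri D d c
  have hT : Closed T := h.closed.tri d c
  have hlocT : ∀ a ∈ T, RCo (nb T a) 6 1 := by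
    intro a ha
    rw [nb_tri_eq hdc ha]
    exact (hloc a ha.1.1).2 d ⟨hd, ha.1.2.1.symm, ha.1.2.2.symm⟩ c ⟨hc, fun q => hdc (q ▸ ha.1.2.2), ha.2⟩ hdc
  have hcomp : ∀ a ∈ T, (comp T a).ncard = 351 ∧ RCo (comp T a) 7 (-1) := by
    intro a ha
    obtain ⟨htw, hfi, hl⟩ := refl_component hT (by norm_num) hlocT ha
    have h7 := (step_refl hfi hl (by norm_num)).comp (SIso.qmap (comp_closed hT a) htw)
    rw [show (2 : ZMod 3) * 1 = -1 from rfl] at h7
    have := h7.ncard (by decide)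
    rw [sqCount_vals.2.1] at this
    exact ⟨by omega, h7⟩
  obtain ⟨J, hJ, hTj⟩ := comp_ncard fun a ha => (hcomp a ha).1
  have hsub : T.ncard ≤ (nb D d).ncard := Set.ncard_le_ncard (fun x hx => hx.1) (Set.toFinite _)
  have hdouble := double_count h hd hc hdc hX
  obtain ⟨a, ha⟩ := h.tri_nonempty hd hc hdc
  obtain ⟨⟨k, hk⟩, h5⟩ := comp_shape hT J hJ ⟨a, ha⟩
  rw [hnb d hd] at hdouble hsub
  rw [hTj] at hdouble hsub
  have hone : J.card = 1 := by
    obtain ⟨N, hN⟩ : ∃ N, N = J.card := ⟨_, rfl⟩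
    rw [← hN] at hdouble hsub hk h5 ⊢
    have : k ≤ 4 := by omega
    interval_cases k <;> subst hk <;> omega
  have heq : comp T a = T := Set.eq_of_subset_of_ncard_le (comp_subset a) (by
    rw [(hcomp a ha).1, hTj, hone]) (Set.toFinite _)
  exact heq ▸ (hcomp a ha).2

end CfsgLib.Fischer
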