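import Cfsg.Agent.Fischer.UniLocal

/-!
Fischer's theorem: with unitary neighbourhoods common neighbours determine a far pair.
-/

set_option autoImplicit false
set_option linter.unusedSectionVars false
set_option linter.style.haveILetI false

namespace CfsgLib.Fischer

open CfsgLib.ThreeT CfsgLib.ThreeT.Prod CfsgLib.ThreeT.Tv

universe u

section vectors

variable {K : Type} [Field K] [Finite K] (W : Wt K) {n : ℕ}

local notation "hh" => Cfsg.hermForm n K 2

include W

/-- The isotropic vectors span. -/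
theorem iso_span (hn : 2 ≤ n) {v : Fin n → K} (h : ∀ u, u ≠ 0 → hh u u = 0 → hh v u = 0) : v = 0 := by
  classical
  funext j
  obtain ⟨i, hij⟩ : ∃ i : Fin n, i ≠ j := by
    by_cases e : (j : ℕ) = 0
    · exact ⟨⟨1, by omega⟩, fun q => by have := congrArg Fin.val q; simp [e] at this⟩
    · exact ⟨⟨0, by omega⟩, fun q => e (by have := congrArg Fin.val q; simpa using this.symm)⟩
  have key : ∀ k : K, k ≠ 0 → v i + k ^ 2 * v j = 0 := by
    intro k hk
    have hne : (Pi.single i 1 + k • Pi.single j 1 : Fin n → K) ≠ 0 := fun q => by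
      have := congrFun q i
      simp [Pi.single_eq_of_ne hij] at this
    have := h _ hne (by
      rw [W.iso_iff]
      have hs : supp (Pi.single i 1 + k • Pi.single j 1 : Fin n → K) = {i, j} := by
        ext l
        rw [mem_supp, Finset.mem_insert, Finset.mem_singleton, Pi.add_apply, Pi.smul_apply]
        by_cases e1 : l = i
        · subst e1; simp [Pi.single_eq_of_ne hij]
        by_cases e2 : l = j
        · subst e2; simp [Pi.single_eq_of_ne hij.symm, hk]
        · simp [Pi.single_eq_of_ne e1, Pi.single_eq_of_ne e2, e1, e2]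
      rw [hs, Finset.card_pair hij]
      exact ⟨1, rfl⟩)
    rwa [W.hh_add_right, Wt.hh_smul_right, hh_single W, hh_single W] at this
  have h1 := key 1 one_ne_zero
  have h2 := key _ (W.ne 1)
  have hne : W.wt 1 ^ 2 - 1 ≠ 0 := by
    intro q
    refine absurd (W.inj (?_ : W.wt (-1) = W.wt 0)) (by decide)
    rw [← W.sq, W.zero]
    exact sub_eq_zero.1 q
  have : v j * (W.wt 1 ^ 2 - 1) = 0 := by linear_combination h2 - h1
  exact (mul_eq_zero.1 this).resolve_right hne

/-- The isotropic points of a hyperbolic line. -/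
theorem line_points {p q r : Fin n → K} (hp : hh p p = 0) (hq : hh q q = 0) (hpq : hh p q ≠ 0)
    (hr : hh r r = 0) {m : ℕ} (hm : n = m + 2) (h2 : 2 ≤ m)
    (h : ∀ u, u ≠ 0 → hh u u = 0 → hh u p = 0 → hh u q = 0 → hh r u = 0) :
    ∃ k : K, r = k • p ∨ r = k • q ∨ r = k • tau p q := by
  have hqp : hh q p ≠ 0 := fun e => hpq ((W.hh_comm q p).1 e)
  obtain ⟨E, hE, hEh, hEr⟩ := exists_embed W hp hq hpq hm
  set α := hh r q / hh p q
  set β := hh r p / hh q p
  have hr' : r + (-α) • p + (-β) • q = 0 := by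
    obtain ⟨u, hu⟩ := (hEr (r + (-α) • p + (-β) • q)).1 (by
      constructor <;> simp only [α, β, Wt.hh_add_left, Wt.hh_smul_left, hp, hq, mul_zero, add_zero] <;>
        field_simp <;> ring)
    rw [← hu, iso_span W h2 (v := u) fun v hv hv' => ?_, map_zero]
    have h1 := (hEr (E v)).2 ⟨v, rfl⟩
    rw [← hEh, hu, Wt.hh_add_left, Wt.hh_add_left, Wt.hh_smul_left, Wt.hh_smul_left,
      h _ (fun e => hv (hE (e.trans (map_zero E).symm))) (by rw [hEh]; exact hv') h1.1 h1.2,
      (W.hh_comm _ _).1 h1.1, (W.hh_comm _ _).1 h1.2]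
    ring
  have er : r = α • p + β • q := by
    rw [neg_smul, neg_smul, ← sub_eq_add_neg, ← sub_eq_add_neg, sub_eq_zero] at hr'
    rw [← hr']; abel
  by_cases hα : α = 0
  · exact ⟨β, Or.inr (Or.inl (by rw [er, hα, zero_smul, zero_add]))⟩
  by_cases hβ : β = 0
  · exact ⟨α, Or.inl (by rw [er, hβ, zero_smul, add_zero])⟩
  refine ⟨β, Or.inr (Or.inr ?_)⟩
  rw [er, Wt.hh_add_left, W.hh_add_right, W.hh_add_right, Wt.hh_smul_left, Wt.hh_smul_left, Wt.hh_smul_left,
    Wt.hh_smul_left, Wt.hh_smul_right, Wt.hh_smul_right, Wt.hh_smul_right, Wt.hh_smul_right, hp, hq,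
    W.hh_swap p q] at hr
  set x := α * β ^ 2 * hh p q with hx
  have hx0 : x ≠ 0 := mul_ne_zero (mul_ne_zero hα (pow_ne_zero _ hβ)) hpq
  have hxx : x + x ^ 2 = 0 := by
    have b3 := W.cube hβ
    linear_combination hr + (α ^ 2 * β * hh p q ^ 2) * b3
  have hx1 : x = 1 := by
    have : x * (x + 1) = 0 := by linear_combination hxx
    exact W.add_eq_zero.1 ((mul_eq_zero.1 this).resolve_left hx0)
  rw [er, tau, smul_add, smul_smul, add_comm]
  congr 2
  rw [W.hh_swap p q]
  have b3 := W.cube hβ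
  have p3 := W.cube hpq
  linear_combination (-α) * b3 - (α * β ^ 3) * p3 + (β * hh p q ^ 2) * hx1

end vectors

section det

variable {G : Type u} [Group G] [Finite G] {D : Set G} {n : ℕ} (h : Fi D) (hloc : ∀ a ∈ D, UCo (nb D a) n)
include h hloc

/-- Agreement next to one common neighbour identifies a far member. -/
theorem uni_det (hn : 4 ≤ n) {d c z a : G} (hd : d ∈ D) (hc : c ∈ D) (hz : z ∈ D) (hdc : ¬ Commute d c)
    (hdz : ¬ Commute d z) (ha : a ∈ tri D d c) (haz : Commute a z)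
    (hagree : ∀ x ∈ nb (tri D d c) a, Commute x z) : z = c ∨ z = d * c * d := by
  obtain ⟨K, i1, i2, hK, φ, f⟩ := hloc a ha.1.1
  obtain ⟨W⟩ := exists_wt hK
  have hSa := h.nb_closed a
  have hda : d ∈ nb D a := ⟨hd, ha.1.2.1.symm, ha.1.2.2.symm⟩
  have hca : c ∈ nb D a := ⟨hc, fun r => hdc (r ▸ ha.1.2.2), ha.2⟩
  have hza : z ∈ nb D a := ⟨hz, fun r => hdz (r ▸ ha.1.2.2), haz⟩
  obtain ⟨m, rfl⟩ : ∃ m, n = m + 2 := ⟨n - 2, by omega⟩
  obtain ⟨k, e | e | e⟩ := line_points W (f.iso d hda) (f.iso c hca) (pair_far W h f hd hc hdc ha) (f.iso z hza) rfl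
    (by omega) fun u hu hu' h1 h2 => by
      obtain ⟨x, hx, l, hl, ex⟩ := f.exists_rep W hu hu'
      have hxm : x ∈ nb (tri D d c) a := (mem_nb_tri W h f hd hc hdc ha).2
        ⟨hx, by rw [ex, Wt.hh_smul_left, h1, mul_zero], by rw [ex, Wt.hh_smul_left, h2, mul_zero]⟩
      have h3 := (f.com_iff W hSa hza hx).1 (hagree x hxm).symm
      rw [ex, Wt.hh_smul_right] at h3
      exact (mul_eq_zero.1 h3).resolve_left (pow_ne_zero _ hl)
  · exact absurd ((f.inj z hza d hda k e).symm ▸ Commute.refl d) hdz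
  · exact Or.inl (f.inj z hza c hca k e)
  · right
    obtain ⟨l, hl⟩ := f.conj d hda c hca
    have hl0 : l ≠ 0 := fun r => f.nz _ (hSa.conj d hda c hca) (by rw [hl, r, zero_smul])
    exact f.eq_of_smul W hza (hSa.conj d hda c hca) hl0 e hl

theorem uni_tdet (hn : 4 ≤ n) : TDet D := by
  intro d hd c hc z hz hdc hdz e
  obtain ⟨a, ha⟩ := h.tri_nonempty hd hc hdc
  exact uni_det h hloc hn hd hc hz hdc hdz ha ((e.symm ▸ ha : a ∈ tri D d z).2) fun x hx =>
    ((e.symm ▸ hx.1 : x ∈ tri D d z)).2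

end det

end CfsgLib.Fischer
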