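import Cfsg.Agent.Fischer.UniCount

/-!
Fischer's theorem: neighbourhoods are no unitary spaces of dimension five.
-/

set_option autoImplicit false
set_option linter.unusedSectionVars false
set_option linter.style.haveILetI false

namespace CfsgLib.Fischer

open CfsgLib.ThreeT CfsgLib.ThreeT.Prod CfsgLib.ThreeT.Tv CfsgLib.Unitary

universe u

variable {K : Type} [Field K] [Finite K] (W : Wt K) {n : ℕ}

include W in
/-- A submodule with all isotropic vectors is everything. -/
theorem iso_top (hn : 2 ≤ n) (U : Submodule K (Fin n → K))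
    (hU : ∀ u, u ≠ 0 → Cfsg.hermForm n K 2 u u = 0 → u ∈ U) : U = ⊤ := by
  classical
  refine eq_top_iff.2 fun v _ => ?_
  rw [pi_eq_sum_univ' v]
  refine U.sum_mem fun j _ => U.smul_mem _ ?_
  obtain ⟨i, hij⟩ : ∃ i : Fin n, i ≠ j := by
    by_cases e : (j : ℕ) = 0
    · exact ⟨⟨1, by omega⟩, fun q => by have := congrArg Fin.val q; simp [e] at this⟩
    · exact ⟨⟨0, by omega⟩, fun q => e (by have := congrArg Fin.val q; simpa using this.symm)⟩
  have key : ∀ k : K, k ≠ 0 → (Pi.single i 1 + k • Pi.single j 1 : Fin n → K) ∈ U := by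
    intro k hk
    refine hU _ (fun q => ?_) ?_
    · have := congrFun q i
      simp [Pi.single_eq_of_ne hij] at this
    · rw [W.iso_iff]
      have hs : supp (Pi.single i 1 + k • Pi.single j 1 : Fin n → K) = {i, j} := by
        ext l
        rw [mem_supp, Finset.mem_insert, Finset.mem_singleton, Pi.add_apply, Pi.smul_apply]
        by_cases e1 : l = i
        · subst e1; simp [Pi.single_eq_of_ne hij]
        by_cases e2 : l = j
        · subst e2; simp [Pi.single_eq_of_ne hij.symm, hk]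
        · simp [Pi.single_eq_of_ne e1, Pi.single_eq_of_ne e2, e1, e2]
      rw [hs, Finset.card_pair hij]
      exact ⟨1, rfl⟩
  have h1 := U.sub_mem (key (W.wt 1) (W.ne 1)) (key 1 one_ne_zero)
  have hne : W.wt 1 - 1 ≠ 0 := sub_ne_zero.2 fun e => absurd (W.inj (e.trans W.zero.symm)) (by decide)
  have h2 := U.smul_mem (W.wt 1 - 1)⁻¹ h1
  rw [add_sub_add_left_eq_sub, ← sub_smul, smul_smul, inv_mul_cancel₀ hne, one_smul] at h2
  exact h2

section five

variable {G : Type u} [Group G] [Finite G] {D : Set G}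
  (h : Fi D) (hloc : ∀ a ∈ D, UCo (nb D a) 5) {d c a : G} (hd : d ∈ D) (hc : c ∈ D) (hdc : ¬ Commute d c)
  (ha : a ∈ tri D d c)
include h hloc hd hc hdc ha

/-- The nine members next to a common neighbour. -/
theorem five_nine : (nb (tri D d c) a).ncard = 9 ∧
    (∀ x ∈ nb (tri D d c) a, ∀ y ∈ nb (tri D d c) a, Commute x y → x = y) ∧
    ∃ g : Fin 3 → G, (∀ i, g i ∈ nb (tri D d c) a) ∧ ∀ P : G → Prop,
      (∀ x ∈ nb (tri D d c) a, ∀ y ∈ nb (tri D d c) a, P x → P y → P (x * y * x)) → (∀ i, P (g i)) →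
      ∀ x ∈ nb (tri D d c) a, P x := by
  obtain ⟨K, i1, i2, hK, ψ, f⟩ := hloc a ha.1.1
  obtain ⟨W⟩ := exists_wt hK
  obtain ⟨E, hE, hEh, hEr⟩ := exists_embed W (f.iso d ⟨hd, ha.1.2.1.symm, ha.1.2.2.symm⟩)
    (f.iso c ⟨hc, fun q => hdc (q ▸ ha.1.2.2), ha.2⟩) (pair_far W h f hd hc hdc ha) (m := 3) rfl
  have χ := nb_tri_uni W h f hd hc hdc ha hE hEh hEr
  have hS : Closed (nb (tri D d c) a) := (h.closed.tri d c).nb a
  refine ⟨?_, fun x hx y hy q => ?_, ?_⟩
  · have := χ.ncard_all W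
    rw [(numLen_vals W).1] at this
    omega
  · have hu := χ.nz x hx
    have h1 := χ.ncard_perp W (m := 1) rfl hu (χ.iso x hx)
    have h0 := numLen_zero (wt_card W) 1
    norm_num at h0
    rw [show numLen K 2 1 0 = 1 by omega] at h1
    have h2 : {z | z ∈ nb (tri D d c) a ∧
        Cfsg.hermForm 3 K 2 (Function.invFun E (ψ z)) (Function.invFun E (ψ x)) = 0}.ncard ≤ 1 := by omega
    exact (Set.ncard_le_one (Set.toFinite _)).1 h2 x ⟨hx, χ.iso x hx⟩ y ⟨hy, (χ.com_iff W hS hy hx).1 q.symm⟩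
  · choose g hg k hk eg using fun i => χ.exists_rep W (gvec_iso W i).1 (gvec_iso W i).2
    refine ⟨g, hg, fun P hP hPg x hx => ?_⟩
    have key := three_generate W
      (P := fun v => ∃ m ∈ nb (tri D d c) a, P m ∧ ∃ k : K, k ≠ 0 ∧ Function.invFun E (ψ m) = k • v)
      (fun v k hk' ⟨m, hm, hPm, l, hl, e⟩ => ⟨m, hm, hPm, l / k, div_ne_zero hl hk', by
        rw [smul_smul, div_mul_cancel₀ _ hk', e]⟩)
      (fun u v ⟨m, hm, hPm, l, hl, e⟩ ⟨m', hm', hPm', l', hl', e'⟩ => by
        obtain ⟨r, hr⟩ := χ.conj m hm m' hm'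
        refine ⟨_, hS.conj m hm m' hm', hP m hm m' hm' hPm hPm', r * l', ?_, ?_⟩
        · exact mul_ne_zero (fun e0 => χ.nz _ (hS.conj m hm m' hm') (by rw [hr, e0, zero_smul])) hl'
        · rw [hr, e, e', W.tau_smul hl, tau_smul_right, smul_smul])
      (fun i => ⟨g i, hg i, hPg i, k i, hk i, eg i⟩) (χ.nz x hx) (χ.iso x hx)
    obtain ⟨m, hm, hPm, l, -, e⟩ := key
    exact (χ.inj m hm x hx l e) ▸ hPm

variable {φ : G → Fin 5 → K} (f : UC (nb D d) φ)

local notation "hh" => Cfsg.hermForm 5 K 2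

include W f

theorem five_perp {x : G} (hx : x ∈ nb (tri D d c) a) : hh (φ x) (φ a) = 0 :=
  (f.com_iff W (h.nb_closed d) hx.1.1 ha.1).1 hx.2.2.symm

/-- Each isotropic vector orthogonal to the neighbour lies over one of the nine. -/
theorem five_lines {v : Fin 5 → K} (hv : hh v v = 0) (hva : hh v (φ a) = 0) :
    ∃ k : K, v = k • φ a ∨ ∃ x ∈ nb (tri D d c) a, ∃ s : K, v = s • φ x + k • φ a := by
  classical
  haveI := Fintype.ofFinite K
  obtain ⟨h9, hfar, -⟩ := five_nine h hloc hd hc hdc ha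
  have hSd := h.nb_closed d
  set M := nb (tri D d c) a
  have hperp : ∀ x ∈ M, hh (φ x) (φ a) = 0 := fun x hx => five_perp W h hloc hd hc hdc ha f hx
  have haa := f.iso a ha.1
  let F : (M × ZMod 3 × K) ⊕ K → {v : Fin 5 → K // hh v v = 0 ∧ hh v (φ a) = 0} := fun o =>
    o.elim (fun p => ⟨W.wt p.2.1 • φ p.1 + p.2.2 • φ a, by
      constructor
      · simp only [Wt.hh_add_left, W.hh_add_right, Wt.hh_smul_left, Wt.hh_smul_right, haa, f.iso _ p.1.2.1.1,
          hperp _ p.1.2, (W.hh_comm _ _).1 (hperp _ p.1.2), mul_zero, add_zero]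
      · simp only [Wt.hh_add_left, Wt.hh_smul_left, haa, hperp _ p.1.2, mul_zero, add_zero]⟩)
      (fun k => ⟨k • φ a, by rw [Wt.hh_smul_left, Wt.hh_smul_right, haa, mul_zero, mul_zero],
        by rw [Wt.hh_smul_left, haa, mul_zero]⟩)
  have hnot : ∀ x ∈ M, ∀ s t : K, s ≠ 0 → s • φ x ≠ t • φ a := fun x hx s t hs e =>
    hx.2.1 (f.inj x hx.1.1 a ha.1 (s⁻¹ * t) (by rw [← smul_smul, ← e, smul_smul, inv_mul_cancel₀ hs, one_smul]))
  have hinj : Function.Injective F := by
    rintro (⟨⟨x, hx⟩, i, k⟩ | k) (⟨⟨y, hy⟩, j, l⟩ | l) e <;> simp only [F, Sum.elim, Subtype.mk.injEq] at e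
    · have hxy : x = y := by
        refine hfar x hx y hy ((f.com_iff W hSd hx.1.1 hy.1.1).2 ?_)
        have h1 := congrArg (fun z => hh (φ x) z) e
        simp only [W.hh_add_right, Wt.hh_smul_right, f.iso x hx.1.1, hperp x hx, mul_zero, add_zero] at h1
        exact (mul_eq_zero.1 h1.symm).resolve_left (pow_ne_zero _ (W.ne j))
      subst hxy
      have hij : i = j := by
        by_contra hij
        refine hnot x hx (W.wt i - W.wt j) (l - k) (sub_ne_zero.2 fun q => hij (W.inj q)) ?_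
        rw [sub_smul, sub_smul, sub_eq_sub_iff_add_eq_add, e, add_comm]
      subst hij
      rw [smul_left_injective K (f.nz a ha.1) (add_left_cancel e)]
    · exact absurd (by rw [sub_smul, ← e]; abel) (hnot x hx (W.wt i) (l - k) (W.ne _))
    · exact absurd (by rw [sub_smul, e]; abel) (hnot y hy (W.wt j) (k - l) (W.ne _))
    · rw [smul_left_injective K (f.nz a ha.1) e]
  have hcard : Nat.card ((M × ZMod 3 × K) ⊕ K) = Nat.card {v : Fin 5 → K // hh v v = 0 ∧ hh v (φ a) = 0} := by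
    have h1 := card_perp_tuple (wt_card W) (n := 5) (k := 1) (m := 3) rfl
      ⟨![φ a], linearIndependent_unique_iff.2 (f.nz a ha.1), fun i j => by fin_cases i; fin_cases j; exact haa⟩
    rw [(numLen_vals W).1, pow_one] at h1
    rw [Nat.card_sum, Nat.card_prod, Nat.card_prod, Nat.card_coe_set_eq, h9, Nat.card_zmod, wt_card W]
    refine (Eq.trans ?_ h1.symm).trans (Nat.card_congr (Equiv.subtypeEquivRight fun v =>
      and_congr_right fun _ => by simp))
    norm_num
  obtain ⟨(⟨⟨x, hx⟩, i, k⟩ | k), ek⟩ := ((Nat.bijective_iff_injective_and_card F).2 ⟨hinj, hcard⟩).2 ⟨v, hv, hva⟩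
  · exact ⟨k, Or.inr ⟨x, hx, W.wt i, (congrArg Subtype.val ek).symm⟩⟩
  · exact ⟨k, Or.inl (congrArg Subtype.val ek).symm⟩

/-- The span of the nine is a non-degenerate complement. -/
theorem five_space : ∃ U : Submodule K (Fin 5 → K), (∀ x ∈ nb (tri D d c) a, φ x ∈ U) ∧
    (∀ u ∈ U, hh u (φ a) = 0) ∧ φ a ∉ U ∧
    ∃ b : Module.Basis (Fin 3) K U, ∀ i j, hh (b i) (b j) = if i = j then 1 else 0 := by
  classical
  obtain ⟨-, -, g, hg, hgen⟩ := five_nine h hloc hd hc hdc ha
  have hS : Closed (nb (tri D d c) a) := (h.closed.tri d c).nb a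
  have haa := f.iso a ha.1
  set U := Submodule.span K (Set.range fun i => φ (g i)) with hU
  have hmem : ∀ x ∈ nb (tri D d c) a, φ x ∈ U := hgen (fun x => φ x ∈ U) (fun x hx y hy h1 h2 => by
    obtain ⟨k, hk⟩ := f.conj x hx.1.1 y hy.1.1
    rw [hk, tau]
    exact U.smul_mem _ (U.add_mem h2 (U.smul_mem _ h1))) fun i => Submodule.subset_span ⟨i, rfl⟩
  have hUa : ∀ u ∈ U, hh u (φ a) = 0 := by
    intro u hu
    induction hu using Submodule.span_induction with
    | mem u hu => obtain ⟨i, rfl⟩ := hu; exact five_perp W h hloc hd hc hdc ha f (hg i)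
    | zero => exact hh_zero_left W _
    | add u v _ _ h1 h2 => rw [Wt.hh_add_left, h1, h2, add_zero]
    | smul k u _ h1 => rw [Wt.hh_smul_left, h1, mul_zero]
  have hdimU : Module.finrank K U ≤ 3 := le_of_le_of_eq (finrank_range_le_card _) (Fintype.card_fin 3)
  obtain ⟨q, hq, haq⟩ := exists_far W (f.nz a ha.1) haa
  obtain ⟨E, hE, hEh, hEr⟩ := exists_embed W haa hq haq (m := 3) rfl
  set U' := U ⊔ Submodule.span K {φ a}
  have haU' : φ a ∈ U' := Submodule.mem_sup_right (Submodule.subset_span rfl)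
  have hrange : ∀ u, E u ∈ U' := by
    have : U'.comap E = ⊤ := iso_top W (by norm_num) _ fun u _ hu => by
      obtain ⟨k, e | ⟨x, hx, s, e⟩⟩ := five_lines W h hloc hd hc hdc ha f (v := E u) (by rw [hEh]; exact hu)
        ((hEr (E u)).2 ⟨u, rfl⟩).1
      · rw [Submodule.mem_comap, e]; exact U'.smul_mem _ haU'
      · rw [Submodule.mem_comap, e]
        exact U'.add_mem (U'.smul_mem _ (Submodule.mem_sup_left (hmem x hx))) (U'.smul_mem _ haU')
    exact fun u => this.ge (Submodule.mem_top : u ∈ (⊤ : Submodule K (Fin 3 → K)))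
  have hdim' : 4 ≤ Module.finrank K U' := by
    let L : ((Fin 3 → K) × K) →ₗ[K] U' := LinearMap.codRestrict U'
      ((E.comp (LinearMap.fst K _ _)) + (LinearMap.snd K _ _).smulRight (φ a))
      fun p => U'.add_mem (hrange _) (U'.smul_mem _ haU')
    have hL : Function.Injective L := by
      refine (injective_iff_map_eq_zero L).2 fun p hp => ?_
      have e : E p.1 + p.2 • φ a = 0 := congrArg Subtype.val hp
      have e2 : p.2 = 0 := by
        have := congrArg (fun z => hh z q) e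
        simp only [Wt.hh_add_left, Wt.hh_smul_left, ((hEr _).2 ⟨p.1, rfl⟩).2, hh_zero_left W, zero_add] at this
        exact (mul_eq_zero.1 this).resolve_right haq
      rw [e2, zero_smul, add_zero] at e
      exact Prod.ext (hE (e.trans (map_zero E).symm)) e2
    have := LinearMap.finrank_le_finrank_of_injective hL
    rw [Module.finrank_prod, Module.finrank_fin_fun, Module.finrank_self] at this
    exact this
  have hsup : Module.finrank K U' ≤ Module.finrank K U + 1 := by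
    have := Submodule.finrank_add_le_finrank_add_finrank U (Submodule.span K {φ a})
    rw [finrank_span_singleton (f.nz a ha.1)] at this
    exact this
  have haU : φ a ∉ U := fun e => by
    have : U' = U := sup_eq_left.2 (by rwa [Submodule.span_singleton_le_iff_mem])
    rw [this] at hdim'; omega
  have hnd : ∀ u ∈ U, (∀ v ∈ U, hh u v = 0) → u = 0 := by
    intro r hr hall
    have hall' : ∀ v ∈ U', hh r v = 0 := by
      intro v hv
      obtain ⟨v1, h1, v2, h2, rfl⟩ := Submodule.mem_sup.1 hv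
      obtain ⟨k, rfl⟩ := Submodule.mem_span_singleton.1 h2
      rw [W.hh_add_right, hall v1 h1, Wt.hh_smul_right, hUa r hr, mul_zero, add_zero]
    set k := hh r q / hh (φ a) q with hk
    obtain ⟨u, hu⟩ := (hEr (r + (-k) • φ a)).1 (by
      constructor
      · rw [Wt.hh_add_left, Wt.hh_smul_left, hUa r hr, haa, mul_zero, add_zero]
      · rw [Wt.hh_add_left, Wt.hh_smul_left, hk]; field_simp; ring)
    have hu0 : u = 0 := iso_span W (by norm_num) fun v _ _ => by
      rw [← hEh, hu, Wt.hh_add_left, Wt.hh_smul_left, hall' _ (hrange v),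
        (W.hh_comm _ _).1 ((hEr _).2 ⟨v, rfl⟩).1, mul_zero, add_zero]
    rw [hu0, map_zero] at hu
    have hrk : r = k • φ a := by
      rw [neg_smul, ← sub_eq_add_neg, eq_comm, sub_eq_zero] at hu; exact hu
    by_contra hr0
    refine haU ?_
    have : k ≠ 0 := fun e => hr0 (by rw [hrk, e, zero_smul])
    have h1 := U.smul_mem k⁻¹ hr
    rwa [hrk, smul_smul, inv_mul_cancel₀ this, one_smul] at h1
  obtain ⟨b, hb⟩ := exists_orthonormal_family (wt_card W) U (k := 3) (by omega) hnd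
  exact ⟨U, hmem, hUa, haU, b, hb⟩

end five

/-- The composite of two transvections along `b`. -/
def tt (u b x : Fin n → K) : Fin n → K := tau (u + b) (tau u x)

include W in
theorem tt_eq {u b : Fin n → K} (hu : Cfsg.hermForm n K 2 u u = 0) (hub : Cfsg.hermForm n K 2 u b = 0) (x : Fin n → K) :
    tt u b x = x + Cfsg.hermForm n K 2 x b • u + (Cfsg.hermForm n K 2 x u + Cfsg.hermForm n K 2 x b) • b := by
  simp only [tt, tau, Wt.hh_add_left, W.hh_add_right, Wt.hh_smul_left, hu, hub, mul_zero, add_zero]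
  match_scalars <;> grind [W.two]

include W in
theorem tt_three {v a l b e : Fin n → K} (hv : Cfsg.hermForm n K 2 v v = 0) (ha : Cfsg.hermForm n K 2 a a = 0)
    (hl : Cfsg.hermForm n K 2 l l = 0) (hbb : Cfsg.hermForm n K 2 b b = 0) (hvb : Cfsg.hermForm n K 2 v b = 0)
    (hab : Cfsg.hermForm n K 2 a b = 0) (hlb : Cfsg.hermForm n K 2 l b = 0) (he : v + a + l = e) :
    ∃ t : K, ∀ x : Fin n → K, tt v b (tt a b (tt l b x)) =
      x + Cfsg.hermForm n K 2 x b • e + (Cfsg.hermForm n K 2 x e + Cfsg.hermForm n K 2 x b * t) • b := by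
  have hbv := (W.hh_comm v b).1 hvb
  have hba := (W.hh_comm a b).1 hab
  refine ⟨1 + Cfsg.hermForm n K 2 l a + Cfsg.hermForm n K 2 l v + Cfsg.hermForm n K 2 a v, fun x => ?_⟩
  subst he
  simp only [tt_eq W hv hvb, tt_eq W ha hab, tt_eq W hl hlb, Wt.hh_add_left, W.hh_add_right, Wt.hh_smul_left, ha,
    hab, hlb, hbb, hbv, hba, mul_zero, add_zero]
  match_scalars <;> grind [W.two]

section main

variable {G : Type u} [Group G] [Finite G] {D : Set G} (h : Fi D) (hloc : ∀ a ∈ D, UCo (nb D a) 5)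
include h hloc

/-- No group has neighbourhoods of that kind. -/
theorem uni_five_false : False := by
  classical
  obtain ⟨d, hd, -⟩ := h.width
  obtain ⟨c, hc, hdc⟩ := h.exists_far hd
  obtain ⟨a, ha⟩ := h.tri_nonempty hd hc hdc
  obtain ⟨K, i1, i2, hK, φ, f⟩ := hloc d hd
  obtain ⟨W⟩ := exists_wt hK
  have hSd := h.nb_closed d
  obtain ⟨U, hmem, hUa, haU, bs, hbs⟩ := five_space W h hloc hd hc hdc ha f
  obtain ⟨-, -, g0, hg0, -⟩ := five_nine h hloc hd hc hdc ha
  set b := g0 0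
  have hb : b ∈ nb (tri D d c) a := hg0 0
  have hbT : b ∈ tri D d c := hb.1
  have hab : a ∈ nb (tri D d c) b := ⟨ha, hb.2.1.symm, hb.2.2.symm⟩
  set va := φ a
  set vb := φ b
  have haa : Cfsg.hermForm 5 K 2 va va = 0 := f.iso a ha.1
  have hbb : Cfsg.hermForm 5 K 2 vb vb = 0 := f.iso b hbT.1
  have hba : Cfsg.hermForm 5 K 2 vb va = 0 := hUa _ (hmem b hb)
  have hab' := (W.hh_comm _ _).1 hba
  -- a unit vector orthogonal to `b`
  set β := bs.equivFun ⟨vb, hmem b hb⟩
  have hsum : vb = ∑ j, β j • (bs j : Fin 5 → K) := by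
    have := congrArg Subtype.val (bs.sum_equivFun ⟨vb, hmem b hb⟩)
    simp only [Submodule.coe_sum, Submodule.coe_smul] at this
    exact this.symm
  have hr : ∀ (s : Finset (Fin 3)) (F : Fin 3 → Fin 5 → K) (y : Fin 5 → K),
      Cfsg.hermForm 5 K 2 y (∑ i ∈ s, F i) = ∑ i ∈ s, Cfsg.hermForm 5 K 2 y (F i) := by
    intro s F y
    induction s using Finset.induction with
    | empty => simp [hh_zero_right W]
    | insert a s ha ih => rw [Finset.sum_insert ha, Finset.sum_insert ha, W.hh_add_right, ih]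
  have hcoef : ∀ (γ : Fin 3 → K) i, Cfsg.hermForm 5 K 2 (bs i) (∑ j, γ j • (bs j : Fin 5 → K)) = γ i ^ 2 := by
    intro γ i
    rw [hr, Finset.sum_eq_single i]
    · rw [Wt.hh_smul_right, hbs, if_pos rfl, mul_one]
    · intro j _ hj; rw [Wt.hh_smul_right, hbs, if_neg (Ne.symm hj), mul_zero]
    · exact fun q => absurd (Finset.mem_univ _) q
  obtain ⟨i0, hi0⟩ : ∃ i, β i = 0 := by
    refine three_zero_coord W ?_
    rw [Cfsg.hermForm]
    rw [← hbb]
    conv_rhs => rw [hsum]
    have hl : ∀ (s : Finset (Fin 3)) (F : Fin 3 → Fin 5 → K) (y : Fin 5 → K),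
        Cfsg.hermForm 5 K 2 (∑ i ∈ s, F i) y = ∑ i ∈ s, Cfsg.hermForm 5 K 2 (F i) y := by
      intro s F y
      induction s using Finset.induction with
      | empty => simp [hh_zero_left W]
      | insert a s ha ih => rw [Finset.sum_insert ha, Finset.sum_insert ha, Wt.hh_add_left, ih]
    rw [hl]
    refine Finset.sum_congr rfl fun i _ => ?_
    rw [Wt.hh_smul_left, hcoef]
  set e : Fin 5 → K := (bs i0 : Fin 5 → K) with he
  have heU : e ∈ U := (bs i0).2
  have hee : Cfsg.hermForm 5 K 2 e e = 1 := by rw [he, hbs, if_pos rfl]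
  have heb : Cfsg.hermForm 5 K 2 e vb = 0 := by
    rw [hsum, he, hcoef, hi0]; ring
  have hea : Cfsg.hermForm 5 K 2 e va = 0 := hUa e heU
  -- a partner of `a` orthogonal to the nine
  obtain ⟨q, hq, haq⟩ := exists_far W (f.nz a ha.1) haa
  set q' := q + ∑ i, (-Cfsg.hermForm 5 K 2 q (bs i)) • (bs i : Fin 5 → K) with hq'
  have hq'b : ∀ i, Cfsg.hermForm 5 K 2 (bs i) q' = 0 := by
    intro i
    rw [hq', W.hh_add_right, hcoef, neg_sq, ← W.hh_swap, W.add_self]
  have hq'U : ∀ u ∈ U, Cfsg.hermForm 5 K 2 u q' = 0 := by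
    intro u hu
    have := congrArg Subtype.val (bs.sum_equivFun ⟨u, hu⟩)
    simp only [Submodule.coe_sum, Submodule.coe_smul] at this
    rw [← this, (W.hh_comm _ _).1]
    rw [hr]
    refine Finset.sum_eq_zero fun i _ => ?_
    rw [Wt.hh_smul_right, (W.hh_comm _ _).1 (hq'b i), mul_zero]
  have haq' : Cfsg.hermForm 5 K 2 va q' = Cfsg.hermForm 5 K 2 va q := by
    rw [hq', W.hh_add_right, hr, Finset.sum_eq_zero (fun i _ => by
      rw [Wt.hh_smul_right, (W.hh_comm _ _).1 (hUa _ (bs i).2), mul_zero]), add_zero]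
  clear_value q'
  set w := W.wt 1 with hw
  have hw1 : w ^ 2 + w = 1 := wt_one W
  set x0 := q' + (Cfsg.hermForm 5 K 2 q' q' * w / Cfsg.hermForm 5 K 2 va q') • va with hx0
  have hax0 : Cfsg.hermForm 5 K 2 va x0 = Cfsg.hermForm 5 K 2 va q := by
    rw [hx0, W.hh_add_right, Wt.hh_smul_right, haa, mul_zero, add_zero, haq']
  have hq'a : Cfsg.hermForm 5 K 2 va q' ≠ 0 := by rw [haq']; exact haq
  have hx00 : Cfsg.hermForm 5 K 2 x0 x0 = 0 := by
    rw [hx0, Wt.hh_add_left, W.hh_add_right, W.hh_add_right, Wt.hh_smul_left, Wt.hh_smul_left, Wt.hh_smul_right,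
      Wt.hh_smul_right, haa, W.hh_swap va q', mul_zero, mul_zero, add_zero, ← mul_pow, div_mul_cancel₀ _ hq'a]
    rcases hh_self_cases W q' with r | r <;> rw [r]
    · ring
    · linear_combination hw1 + W.two
  set s := (w / Cfsg.hermForm 5 K 2 va q) ^ 2 with hs
  have hs0 : s ≠ 0 := pow_ne_zero _ (div_ne_zero (W.ne 1) haq)
  set l := s • x0 with hl
  have hll : Cfsg.hermForm 5 K 2 l l = 0 := by rw [hl, Wt.hh_smul_left, Wt.hh_smul_right, hx00, mul_zero, mul_zero]
  have hal : Cfsg.hermForm 5 K 2 va l = w := by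
    rw [hl, Wt.hh_smul_right, hax0, hs, W.pow_four, div_mul_cancel₀ _ haq]
  have hUl : ∀ u ∈ U, Cfsg.hermForm 5 K 2 u l = 0 := fun u hu => by
    rw [hl, Wt.hh_smul_right, hx0, W.hh_add_right, hq'U u hu, Wt.hh_smul_right, hUa u hu, mul_zero, add_zero, mul_zero]
  set v := e + va + l with hv
  have hvv : Cfsg.hermForm 5 K 2 v v = 0 := by
    rw [hv]
    simp only [Wt.hh_add_left, W.hh_add_right, hee, hea, haa, hll, hal, hUl e heU, (W.hh_comm _ _).1 hea,
      (W.hh_comm _ _).1 (hUl e heU), W.hh_swap va l, add_zero, zero_add]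
    linear_combination hw1 + W.two
  have hlb : Cfsg.hermForm 5 K 2 l vb = 0 := (W.hh_comm _ _).1 (hUl _ (hmem b hb))
  have hvb : Cfsg.hermForm 5 K 2 v vb = 0 := by rw [hv, Wt.hh_add_left, Wt.hh_add_left, heb, hab', hlb]; simp
  have hsum3 : v + va + l = e := by
    funext i
    simp only [hv, Pi.add_apply]
    linear_combination (va i + l i) * W.two
  obtain ⟨t, ht⟩ := tt_three W hvv haa hll hbb hvb hab' hlb hsum3
  have hva' : Cfsg.hermForm 5 K 2 v va = w ^ 2 := by
    rw [hv, Wt.hh_add_left, Wt.hh_add_left, hea, haa, W.hh_swap va l, hal, zero_add, zero_add]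
  -- the six members
  have rep : ∀ u, Cfsg.hermForm 5 K 2 u u = 0 → u ≠ 0 →
      ∃ x ∈ nb D d, ∃ k : K, k ≠ 0 ∧ φ x = k • u := fun u h1 h2 => f.exists_rep W h2 h1
  have isoAdd : ∀ {u}, Cfsg.hermForm 5 K 2 u u = 0 → Cfsg.hermForm 5 K 2 u vb = 0 →
      Cfsg.hermForm 5 K 2 (u + vb) (u + vb) = 0 := fun h1 h2 => by
    simp only [Wt.hh_add_left, W.hh_add_right, h1, h2, hbb, (W.hh_comm _ _).1 h2, add_zero]
  have hne : ∀ u, Cfsg.hermForm 5 K 2 u va ≠ 0 → u ≠ 0 ∧ u + vb ≠ 0 := fun u h1 =>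
    ⟨fun e => h1 (by rw [e, hh_zero_left W]), fun e => h1 (by
      have := congrArg (fun z => Cfsg.hermForm 5 K 2 z va) e
      simpa [Wt.hh_add_left, hba, hh_zero_left W] using this)⟩
  have hvne := hne v (by rw [hva']; exact pow_ne_zero _ (W.ne 1))
  have hlne := hne l (by rw [W.hh_swap va l, hal]; exact pow_ne_zero _ (W.ne 1))
  have habne : va + vb ≠ 0 := fun q => haU (by
    have : va = vb := by funext i; have := congrFun q i; exact W.add_eq_zero.1 this
    rw [this]; exact hmem b hb)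
  obtain ⟨x1, h1, k1, hk1, e1⟩ := rep _ (isoAdd hvv hvb) hvne.2
  obtain ⟨x2, h2, k2, hk2, e2⟩ := rep _ hvv hvne.1
  obtain ⟨x3, h3, k3, hk3, e3⟩ := rep _ (isoAdd haa hab') habne
  obtain ⟨x5, h5, k5, hk5, e5⟩ := rep _ (isoAdd hll hlb) hlne.2
  obtain ⟨x6, h6, k6, hk6, e6⟩ := rep _ hll hlne.1
  set L := [x1, x2, x3, a, x5, x6] with hL
  have hLm : ∀ z ∈ L, z ∈ nb D d := by
    intro z hz
    simp only [hL, List.mem_cons, List.not_mem_nil, or_false] at hz
    rcases hz with rfl | rfl | rfl | rfl | rfl | rfl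
    exacts [h1, h2, h3, ha.1, h5, h6]
  set g := L.prod
  have hact : ∀ y ∈ nb D d, g * y * g⁻¹ ∈ nb D d ∧ ∃ k : K, k ≠ 0 ∧ φ (g * y * g⁻¹) =
      k • (φ y + Cfsg.hermForm 5 K 2 (φ y) vb • e +
        (Cfsg.hermForm 5 K 2 (φ y) e + Cfsg.hermForm 5 K 2 (φ y) vb * t) • vb) := by
    intro y hy
    obtain ⟨hm, k, hk⟩ := uni_word W f hSd L hLm y hy
    refine ⟨hm, k, fun q => f.nz _ hm (by rw [hk, q, zero_smul]), ?_⟩
    rw [hk, ← ht]
    simp only [hL, List.foldr_cons, List.foldr_nil, e1, e2, e3, e5, e6, W.tau_smul hk1, W.tau_smul hk2,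
      W.tau_smul hk3, W.tau_smul hk5, W.tau_smul hk6]
    rfl
  have hfix : ∀ y ∈ nb D d, Cfsg.hermForm 5 K 2 (φ y) vb = 0 → Cfsg.hermForm 5 K 2 (φ y) e = 0 →
      g * y * g⁻¹ = y := by
    intro y hy q1 q2
    obtain ⟨hm, k, -, hk⟩ := hact y hy
    rw [q1, q2, zero_mul, add_zero, zero_smul, zero_smul, add_zero, add_zero] at hk
    exact f.inj _ hm y hy k hk
  have hgd : g * d * g⁻¹ = d := by
    have : Commute g d := Commute.list_prod_left L d fun z hz => (hLm z hz).2.2.symm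
    rw [this.eq, mul_inv_cancel_right]
  have hga := hfix a ha.1 hab' ((W.hh_comm _ _).1 hea)
  have hgb := hfix b hbT.1 hbb ((W.hh_comm _ _).1 heb)
  set M := nb (tri D d c) a
  have hinU : ∀ m ∈ nb D d, Commute a m → φ m ∈ U → m ∈ M := by
    intro m hm ham hmU
    obtain ⟨k, e' | ⟨x, hx, s, e'⟩⟩ := five_lines W h hloc hd hc hdc ha f (v := φ m) (f.iso m hm)
      ((f.com_iff W hSd hm ha.1).1 ham.symm)
    · refine absurd hmU ?_
      rw [e']
      intro q
      have hk : k ≠ 0 := fun r => f.nz m hm (by rw [e', r, zero_smul])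
      have := U.smul_mem k⁻¹ q
      rw [smul_smul, inv_mul_cancel₀ hk, one_smul] at this
      exact haU this
    · have hk0 : k = 0 := by
        by_contra hk
        have h4 := U.sub_mem hmU (U.smul_mem s (hmem x hx))
        rw [e', add_sub_cancel_left] at h4
        have := U.smul_mem k⁻¹ h4
        rw [smul_smul, inv_mul_cancel₀ hk, one_smul] at this
        exact haU this
      rw [hk0, zero_smul, add_zero] at e'
      exact f.inj m hm x hx.1.1 s e' ▸ hx
  have hgM : ∀ y ∈ M, g * y * g⁻¹ ∈ M := by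
    intro y hy
    obtain ⟨hm, k, -, hk⟩ := hact y hy.1.1
    refine hinU _ hm (by rw [← hga]; exact (commute_conj_iff g a y).2 hy.2.2) ?_
    rw [hk]
    exact U.smul_mem _ (U.add_mem (U.add_mem (hmem y hy) (U.smul_mem _ heU)) (U.smul_mem _ (hmem b hb)))
  have hsurj : ∀ x ∈ M, ∃ y ∈ M, g * y * g⁻¹ = x := by
    intro x hx
    have himg : (fun y => g * y * g⁻¹) '' M = M :=
      Set.eq_of_subset_of_ncard_le (Set.image_subset_iff.2 hgM)
        (le_of_eq (Set.ncard_image_of_injective _ fun _ _ q => mul_left_cancel (mul_right_cancel q)).symm)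
        (Set.toFinite _)
    exact himg.symm.subset hx
  have hgc : g * c * g⁻¹ = c ∨ g * c * g⁻¹ = d * c * d :=
    uni_det h hloc (by norm_num) hd hc (h.mem hc g) hdc
      (fun r => hdc ((commute_conj_iff g d c).1 (by rw [hgd]; exact r))) ha
      (by rw [← hga]; exact (commute_conj_iff g a c).2 ha.2) fun x hx => by
        obtain ⟨y, hy, rfl⟩ := hsurj x hx
        exact (commute_conj_iff g y c).2 hy.1.2
  have hgT : ∀ x ∈ tri D d c, g * x * g⁻¹ ∈ tri D d c := by
    intro x hx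
    have hm := (hact x hx.1).1
    refine ⟨hm, ?_⟩
    have := (commute_conj_iff g x c).2 hx.2
    rcases hgc with r | r <;> rw [r] at this
    · exact this
    · exact (commute_c'_iff h hd hc hdc hm.2.2.symm).1 this
  -- a member next to `b` is moved along its line
  obtain ⟨-, hfar', -⟩ := five_nine h hloc hd hc hdc hbT
  obtain ⟨k, e' | ⟨y, hy, s', e'⟩⟩ := five_lines W h hloc hd hc hdc hbT f (v := v) hvv hvb
  · have := congrArg (fun z => Cfsg.hermForm 5 K 2 z va) e'
    rw [hva', Wt.hh_smul_left, hba, mul_zero] at this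
    exact pow_ne_zero _ (W.ne 1) this
  have hve : Cfsg.hermForm 5 K 2 v e = 1 := by
    rw [hv, Wt.hh_add_left, Wt.hh_add_left, hee, (W.hh_comm _ _).1 hea, (W.hh_comm _ _).1 (hUl e heU), add_zero,
      add_zero]
  have hye : Cfsg.hermForm 5 K 2 (φ y) e ≠ 0 := fun q => by
    rw [e', Wt.hh_add_left, Wt.hh_smul_left, Wt.hh_smul_left, q, (W.hh_comm _ _).1 heb, mul_zero, mul_zero,
      add_zero] at hve
    exact zero_ne_one hve
  have hyb : Cfsg.hermForm 5 K 2 (φ y) vb = 0 := (f.com_iff W hSd hy.1.1 hbT.1).1 hy.2.2.symm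
  obtain ⟨hm, k', hk', ek⟩ := hact y hy.1.1
  rw [hyb, zero_mul, add_zero, zero_smul, add_zero] at ek
  have hyM : g * y * g⁻¹ ∈ nb (tri D d c) b := by
    refine ⟨hgT y hy.1, fun q => hy.2.1 ?_, by rw [← hgb]; exact (commute_conj_iff g b y).2 hy.2.2⟩
    rw [← hgb] at q
    exact mul_left_cancel (mul_right_cancel q)
  have heq := hfar' _ hyM y hy ((f.com_iff W hSd hm hy.1.1).2 (by
    rw [ek, Wt.hh_smul_left, Wt.hh_add_left, Wt.hh_smul_left, f.iso y hy.1.1, (W.hh_comm _ _).1 hyb]; simp))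
  rw [heq] at ek
  refine hy.2.1 (f.inj y hy.1.1 b hbT.1 ((k' * Cfsg.hermForm 5 K 2 (φ y) e) / (1 - k')) ?_)
  rw [smul_add, smul_smul] at ek
  have h1k : 1 - k' ≠ 0 := by
    intro q
    rw [← sub_eq_zero.1 q, one_smul, one_mul, left_eq_add] at ek
    exact f.nz b hbT.1 ((smul_eq_zero.1 ek).resolve_left hye)
  have h2 : (1 - k') • φ y = (k' * Cfsg.hermForm 5 K 2 (φ y) e) • φ b := by
    rw [sub_smul, one_smul, sub_eq_iff_eq_add, add_comm]; exact ek
  rw [div_eq_inv_mul, ← smul_smul, ← h2, smul_smul, inv_mul_cancel₀ h1k, one_smul]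

end main

end CfsgLib.Fischer
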